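import Groth.Agent.NonAbLib.BalFixed

/-!
# Invariant closed subschemes of balanced products
-/

universe u

open CategoryTheory CategoryTheory.Limits MonoidalCategory CartesianMonoidalCategory MonObj AlgebraicGeometry

namespace Groth.Agent.NonAbLib

variable {S : Scheme.{u}} {G H Z Y Y' : Over S} [GrpObj G] [GrpObj H] {i : H ⟶ G} [IsMonHom i]
  {aZ : AlgGrp.Action H Z} {aY : AlgGrp.Action G Y} {j : G ⊗ Z ⟶ Y}

set_option backward.isDefEq.respectTransparency.types false in
/-- Invariant closed subschemes of a balanced product are balanced products. -/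
theorem bal_closed (hY : ChGrp.IsBalProd Scheme.fppfPrecoverage i aZ aY j) (c : Y' ⟶ Y) [IsClosedImmersion c.left]
    (aY' : AlgGrp.Action G Y') (hc : AlgGrp.Action.IsEquivariant aY' aY c) :
    ∃ (Z' : Over S) (c' : Z' ⟶ Z) (aZ' : AlgGrp.Action H Z') (j' : G ⊗ Z' ⟶ Y'),
      IsClosedImmersion c'.left ∧ AlgGrp.Action.IsEquivariant aZ' aZ c' ∧
      j' ≫ c = (G ◁ c') ≫ j ∧ ChGrp.IsBalProd Scheme.fppfPrecoverage i aZ' aY' j' := by
  unfold AlgGrp.Action.IsEquivariant at hc
  have hcpt : ∀ {T : Over S} (g : T ⟶ G) (y : T ⟶ Y'), (lift g y ≫ aY'.act) ≫ c = lift g (y ≫ c) ≫ aY.act :=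
    fun g y => by rw [Category.assoc, hc, lift_whiskerLeft_assoc]
  let zy : Z ⟶ Y := lift (toUnit Z ≫ η[G]) (𝟙 Z) ≫ j
  have hzy : ∀ {T : Over S} (z : T ⟶ Z), z ≫ zy = lift (1 : T ⟶ G) z ≫ j := fun z => by
    simp only [zy, ← Category.assoc, comp_lift, Category.comp_id]
    rw [Hom.one_def, toUnit_unique (z ≫ toUnit Z) (toUnit _)]
  have hgz : ∀ {T : Over S} (g : T ⟶ G) (z : T ⟶ Z), lift g (z ≫ zy) ≫ aY.act = lift g z ≫ j := fun g z => by
    rw [hzy, bal_left hY, _root_.mul_one]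
  have : Mono c.left := inferInstance
  have : Mono c := (Over.forget S).mono_of_mono_map (f := c) ‹_›
  let Z'l := pullback zy.left c.left
  let Z' : Over S := Over.mk (pullback.fst zy.left c.left ≫ Z.hom)
  let c' : Z' ⟶ Z := Over.homMk (pullback.fst zy.left c.left) rfl
  let v : Z' ⟶ Y' := Over.homMk (pullback.snd zy.left c.left) (by
    show _ = pullback.fst zy.left c.left ≫ Z.hom
    rw [← Over.w c, ← Category.assoc, ← pullback.condition, Category.assoc, Over.w zy])
  have hsq : c' ≫ zy = v ≫ c := Over.OverMorphism.ext pullback.condition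
  have hcl : IsClosedImmersion c'.left := MorphismProperty.pullback_fst (P := @IsClosedImmersion) _ _ inferInstance
  have : Mono c'.left := inferInstance
  have : Mono c' := (Over.forget S).mono_of_mono_map (f := c') ‹_›
  have hlift : ∀ {T : Over S} (z : T ⟶ Z) (y : T ⟶ Y'), z ≫ zy = y ≫ c → ∃ w : T ⟶ Z', w ≫ c' = z ∧ w ≫ v = y :=
    fun {T} z y e => ⟨Over.homMk (pullback.lift z.left y.left (congrArg CommaMorphism.left e)) (by
        show _ ≫ pullback.fst zy.left c.left ≫ Z.hom = T.hom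
        rw [pullback.lift_fst_assoc, Over.w z]),
      Over.OverMorphism.ext (pullback.lift_fst _ _ _), Over.OverMorphism.ext (pullback.lift_snd _ _ _)⟩
  obtain ⟨act, hact, -⟩ := hlift ((H ◁ c') ≫ aZ.act) (lift (fst H Z' ≫ i) (snd H Z' ≫ v) ≫ aY'.act) (by
    rw [hcpt, Category.assoc (snd H Z') v c, ← hsq, ← Category.assoc (snd H Z'), hgz, hzy]
    have e1 : (H ◁ c') ≫ aZ.act = lift (fst H Z') (snd H Z' ≫ c') ≫ aZ.act := by
      congr 1
    rw [e1]
    exact Eq.trans (by rw [mul_inv_cancel]) (bal_twist hY _ (fst H Z') (snd H Z' ≫ c')))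
  let aZ' : AlgGrp.Action H Z' :=
    { act := act
      one_act := by
        rw [← cancel_mono c', Category.assoc, hact, ← whisker_exchange_assoc, aZ.one_act, leftUnitor_naturality]
      mul_act := by
        rw [← cancel_mono c', Category.assoc, hact, ← whisker_exchange_assoc, aZ.mul_act, Category.assoc,
          Category.assoc, hact, ← MonoidalCategory.whiskerLeft_comp_assoc, hact,
          MonoidalCategory.whiskerLeft_comp, Category.assoc, associator_naturality_right_assoc] }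
  have hactpt : ∀ {T : Over S} (h : T ⟶ H) (w : T ⟶ Z'),
      (lift h w ≫ aZ'.act) ≫ c' = lift h (w ≫ c') ≫ aZ.act := fun h w => by
    rw [Category.assoc, hact, lift_whiskerLeft_assoc]
  let j' : G ⊗ Z' ⟶ Y' := (G ◁ v) ≫ aY'.act
  have hj' : j' ≫ c = (G ◁ c') ≫ j := by
    refine AlgGrp.Action.hom_ext_lift₂ fun T g w => ?_
    rw [← Category.assoc (lift g w) j', lift_whiskerLeft_assoc, hcpt, lift_whiskerLeft_assoc, Category.assoc, ← hsq,
      ← Category.assoc w, hgz]
  have hjpt : ∀ {T : Over S} (g : T ⟶ G) (w : T ⟶ Z'), (lift g w ≫ j') ≫ c = lift g (w ≫ c') ≫ j := fun g w => by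
    rw [Category.assoc, hj', lift_whiskerLeft_assoc]
  refine ⟨Z', c', aZ', j', hcl, hact, hj', ?_, ?_, ?_⟩
  · refine AlgGrp.Action.hom_ext_lift₂ fun T g₀ gw => ?_
    obtain ⟨g, w, rfl⟩ : ∃ g w, gw = lift g w := ⟨_, _, (lift_fst_snd' gw).symm⟩
    rw [lift_whiskerLeft_assoc, ← Category.assoc (lift g₀ (lift g w)), lift_left_translation,
      ← cancel_mono c, hjpt, hcpt, hjpt, bal_left hY]
  · refine isPullback_of_points ?_ fun T p q hpq => ?_
    · refine AlgGrp.Action.hom_ext_lift₂ fun T h gw => ?_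
      obtain ⟨g, w, rfl⟩ : ∃ g w, gw = lift g w := ⟨_, _, (lift_fst_snd' gw).symm⟩
      rw [lift_snd_assoc, ← Category.assoc, ChGrp.lift_twist_act, ← cancel_mono c, hjpt, hjpt, hactpt, bal_twist hY]
    · obtain ⟨g, w, rfl⟩ : ∃ g w, p = lift g w := ⟨_, _, (lift_fst_snd' p).symm⟩
      obtain ⟨g₂, w₂, rfl⟩ : ∃ g w, q = lift g w := ⟨_, _, (lift_fst_snd' q).symm⟩
      have e : lift g (w ≫ c') ≫ j = lift g₂ (w₂ ≫ c') ≫ j := by rw [← hjpt, hpq, hjpt]
      obtain ⟨h, h1, h2⟩ := bal_rel hY e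
      refine ⟨lift h (lift g₂ w₂), ⟨?_, lift_snd _ _⟩, ?_⟩
      · rw [ChGrp.lift_twist_act, ← h1]
        congr 1
        rw [← cancel_mono c', hactpt, ← h2]
      · rintro t ⟨ht1, ht2⟩
        have et : t = lift (t ≫ fst _ _) (lift g₂ w₂) := by
          conv_lhs => rw [← lift_fst_snd' t]
          rw [ht2]
        rw [et, ChGrp.lift_twist_act] at ht1
        rw [et]
        congr 1
        have a1 := congrArg (· ≫ fst G Z') ht1
        have a2 := congrArg (fun m => m ≫ snd G Z' ≫ c') ht1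
        simp only [lift_fst] at a1
        simp only [lift_snd_assoc, hactpt] at a2
        have hh : lift (t ≫ fst _ _) (lift g₂ (w₂ ≫ c')) = lift h (lift g₂ (w₂ ≫ c')) := by
          refine hY.2.1.hom_ext ?_ (by simp)
          rw [ChGrp.lift_twist_act, ChGrp.lift_twist_act, a1, a2, ← h1, ← h2]
        simpa using congrArg (· ≫ fst H (G ⊗ Z)) hh
  · refine locTriv_of j' j hY.2.2 c fun T y gz e => ?_
    obtain ⟨g, z, rfl⟩ : ∃ g z, gz = lift g z := ⟨_, _, (lift_fst_snd' gz).symm⟩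
    obtain ⟨w, hw, -⟩ := hlift z (lift g⁻¹ y ≫ aY'.act) (by
      rw [hcpt, ← e, bal_left hY, inv_mul_cancel, hzy])
    refine ⟨lift g w, ?_⟩
    rw [← cancel_mono c, hjpt, hw, e]

end Groth.Agent.NonAbLib
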