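import Groth.Agent.NonAbLib.TorsorSch
import Groth.Agent.BalLib.Descent
import Groth.Agent.FpqcDescLib.Closed
import Groth.Prelude.Def_ChGrp
import Mathlib.CategoryTheory.Comma.Over.Pullback

/-!
# Fixed loci in balanced products
-/

universe u

open CategoryTheory CategoryTheory.Limits MonoidalCategory CartesianMonoidalCategory MonObj AlgebraicGeometry

namespace Groth.Agent.NonAbLib

variable {S : Scheme.{u}}

theorem exists_local_lift {U Y T : Over S} (j : U ⟶ Y)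
    (hj : NonAbH1.IsLocallyTrivialFor Scheme.fppfPrecoverage (Over.mk j.left : Over Y.left)) (y : T ⟶ Y) :
    ∃ (P : Over S) (p : P ⟶ T) (t : P ⟶ U), BalLib.HasLocSec p ∧ t ≫ j = p ≫ y :=
  ⟨pullback j y, pullback.snd j y, pullback.fst j y,
    BalLib.hasLocSec_of_isLocallyTrivialFor _ (locTriv_of _ j hj y fun W a v hv =>
      ⟨pullback.lift v a hv, pullback.lift_snd _ _ _⟩),
    pullback.condition⟩

theorem lift_fst_snd' {T A B : Over S} (t : T ⟶ A ⊗ B) : lift (t ≫ fst A B) (t ≫ snd A B) = t := by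
  rw [← comp_lift, lift_fst_snd, Category.comp_id]

theorem lift_left_translation {G Z : Over S} [GrpObj G] {T : Over S} (g₀ g : T ⟶ G) (z : T ⟶ Z) :
    lift g₀ (lift g z) ≫ ((NonAbH1.trivialAction G).prod (AlgGrp.Action.trivial G Z)).act = lift (g₀ * g) z := by
  rw [AlgGrp.Action.lift_prod_act, AlgGrp.Action.lift_trivial_act]
  rfl

section FixedLocus

variable {Q G X Xh Y Y' : Over S} [GrpObj Q] [GrpObj G] {i : G ⟶ Q} [IsMonHom i]
  {a : AlgGrp.Action G X} {aXh : AlgGrp.Action G Xh} {aY : AlgGrp.Action Q Y} {j : Q ⊗ X ⟶ Y}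
  {aY' : AlgGrp.Action Q Y'} {j' : Q ⊗ Xh ⟶ Y'}

theorem bal_left {j : Q ⊗ X ⟶ Y} (hY : ChGrp.IsBalProd Scheme.fppfPrecoverage i a aY j) {T : Over S}
    (q₀ q : T ⟶ Q) (x : T ⟶ X) : lift q₀ (lift q x ≫ j) ≫ aY.act = lift (q₀ * q) x ≫ j := by
  have h : ((NonAbH1.trivialAction Q).prod (AlgGrp.Action.trivial Q X)).act ≫ j = (Q ◁ j) ≫ aY.act := hY.1
  rw [← lift_left_translation, Category.assoc, h, lift_whiskerLeft_assoc]

theorem bal_twist {j : Q ⊗ X ⟶ Y} (hY : ChGrp.IsBalProd Scheme.fppfPrecoverage i a aY j) {T : Over S}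
    (q : T ⟶ Q) (g : T ⟶ G) (x : T ⟶ X) :
    lift (q * (g ≫ i)⁻¹) (lift g x ≫ a.act) ≫ j = lift q x ≫ j := by
  rw [← ChGrp.lift_twist_act i a, Category.assoc, hY.2.1.w, lift_snd_assoc]

theorem bal_rel {j : Q ⊗ X ⟶ Y} (hY : ChGrp.IsBalProd Scheme.fppfPrecoverage i a aY j) {T : Over S}
    {q q' : T ⟶ Q} {x x' : T ⟶ X} (h : lift q x ≫ j = lift q' x' ≫ j) :
    ∃ g : T ⟶ G, q = q' * (g ≫ i)⁻¹ ∧ x = lift g x' ≫ a.act := by
  let t := hY.2.1.lift (lift q x) (lift q' x') h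
  have ht : t = lift (t ≫ fst _ _) (lift q' x') := by
    conv_lhs => rw [← lift_fst_snd' t]
    rw [hY.2.1.lift_snd]
  have h1 : t ≫ (ChGrp.twist i a).act = lift q x := hY.2.1.lift_fst _ _ _
  rw [ht, ChGrp.lift_twist_act] at h1
  exact ⟨t ≫ fst _ _, by simpa using (congrArg (· ≫ fst Q X) h1).symm,
    by simpa using (congrArg (· ≫ snd Q X) h1).symm⟩

theorem fixed_locus [Mono i] (h : 𝟙_ (Over S) ⟶ G)
    (hcent : ∀ (T : Over S) (q : T ⟶ Q), q * (toUnit T ≫ h ≫ i) = (toUnit T ≫ h ≫ i) * q)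
    (incl : Xh ⟶ X) [Mono incl]
    (hXh : ∀ (T : Over S) (x : T ⟶ X), (∃ y : T ⟶ Xh, y ≫ incl = x) ↔ lift (toUnit T ≫ h) x ≫ a.act = x)
    (hincl : AlgGrp.Action.IsEquivariant aXh a incl)
    (hY : ChGrp.IsBalProd Scheme.fppfPrecoverage i a aY j)
    (hY' : ChGrp.IsBalProd Scheme.fppfPrecoverage i aXh aY' j')
    (m : Y' ⟶ Y) (hm : j' ≫ m = (Q ◁ incl) ≫ j) :
    Mono m ∧
      (∀ (T : Over S) (y : T ⟶ Y), (∃ y' : T ⟶ Y', y' ≫ m = y) ↔ lift (toUnit T ≫ h ≫ i) y ≫ aY.act = y) ∧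
      (IsClosedImmersion incl.left → IsClosedImmersion m.left) := by
  unfold AlgGrp.Action.IsEquivariant at hincl
  have hmpt : ∀ {T : Over S} (q : T ⟶ Q) (x : T ⟶ Xh), lift q x ≫ j' ≫ m = lift q (x ≫ incl) ≫ j :=
    fun q x => by rw [hm, lift_whiskerLeft_assoc]
  have hinclpt : ∀ {T : Over S} (g : T ⟶ G) (x : T ⟶ Xh),
      (lift g x ≫ aXh.act) ≫ incl = lift g (x ≫ incl) ≫ a.act := fun g x => by
    rw [Category.assoc, hincl, lift_whiskerLeft_assoc]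
  have hshift : ∀ {T : Over S} (q : T ⟶ Q) (x : T ⟶ X),
      lift (toUnit T ≫ h ≫ i) (lift q x ≫ j) ≫ aY.act = lift q (lift (toUnit T ≫ h) x ≫ a.act) ≫ j :=
    fun {T} q x => by
      rw [bal_left hY, ← bal_twist hY _ (toUnit T ≫ h) x, Category.assoc, ← hcent T q, mul_inv_cancel_right]
  have hmono : Mono m := ⟨fun {T} y₁ y₂ e => by
    obtain ⟨P₁, p₁, t₁, hp₁, ht₁⟩ := exists_local_lift j' hY'.2.2 y₁
    obtain ⟨P₂, p₂, t₂, hp₂, ht₂⟩ := exists_local_lift j' hY'.2.2 (p₁ ≫ y₂)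
    refine hp₁.hom_ext (hp₂.hom_ext ?_)
    rw [← ht₁, ← ht₂, ← Category.assoc]
    have e' : (p₂ ≫ t₁) ≫ j' ≫ m = t₂ ≫ j' ≫ m := by
      rw [← Category.assoc t₂, ht₂, Category.assoc, reassoc_of% ht₁]
      simp only [Category.assoc, e]
    rw [← lift_fst_snd' (p₂ ≫ t₁), ← lift_fst_snd' t₂, hmpt, hmpt] at e'
    obtain ⟨g, hg₁, hg₂⟩ := bal_rel hY e'
    rw [← lift_fst_snd' (p₂ ≫ t₁), ← lift_fst_snd' t₂, hg₁,
      show (p₂ ≫ t₁) ≫ snd Q Xh = lift g (t₂ ≫ snd Q Xh) ≫ aXh.act from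
        (cancel_mono incl).1 (hg₂.trans (hinclpt _ _).symm)]
    exact bal_twist hY' _ g _⟩
  have hfix : ∀ {T : Over S} (q : T ⟶ Q) (x : T ⟶ X),
      lift (toUnit T ≫ h ≫ i) (lift q x ≫ j) ≫ aY.act = lift q x ≫ j → ∃ x' : T ⟶ Xh, x' ≫ incl = x := by
    intro T q x e
    rw [hshift] at e
    obtain ⟨g, hg₁, hg₂⟩ := bal_rel hY e
    have hg : g = 1 := by
      have h1 : g ≫ i = (1 : T ⟶ G) ≫ i := by
        rw [MonObj.one_comp]
        exact inv_eq_one.1 (left_eq_mul.1 hg₁)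
      exact (cancel_mono i).1 h1
    rw [hg, AlgGrp.Action.lift_one_act] at hg₂
    exact (hXh T x).2 hg₂
  have hfwd : ∀ (T : Over S) (y : T ⟶ Y'), lift (toUnit T ≫ h ≫ i) (y ≫ m) ≫ aY.act = y ≫ m := by
    intro T y
    obtain ⟨P, p, t, hp, ht⟩ := exists_local_lift j' hY'.2.2 y
    refine hp.hom_ext ?_
    rw [comp_lift_assoc, ← Category.assoc p (toUnit T), toUnit_unique (p ≫ toUnit T) (toUnit P),
      ← reassoc_of% ht, ← lift_fst_snd' t, hmpt, hshift, (hXh P _).1 ⟨t ≫ snd Q Xh, rfl⟩]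
  refine ⟨hmono, fun T y => ⟨?_, fun hy => ?_⟩, fun hcl => ?_⟩
  · rintro ⟨y', rfl⟩
    exact hfwd T y'
  · obtain ⟨P, p, t, hp, ht⟩ := exists_local_lift j hY.2.2 y
    obtain ⟨x', hx'⟩ := hfix (t ≫ fst Q X) (t ≫ snd Q X) (by
      have := congrArg (p ≫ ·) hy
      simp only [comp_lift_assoc] at this
      rw [← Category.assoc p (toUnit T), toUnit_unique (p ≫ toUnit T) (toUnit P), ← ht] at this
      rwa [lift_fst_snd'])
    obtain ⟨y', hy', -⟩ := hp.existsUnique_desc (lift (t ≫ fst Q X) x' ≫ j') fun W u v e => by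
      have key : (lift (t ≫ fst Q X) x' ≫ j') ≫ m = p ≫ y := by
        rw [Category.assoc, hmpt, hx', lift_fst_snd', ht]
      rw [← cancel_mono m]
      simp only [Category.assoc] at key ⊢
      rw [key, reassoc_of% e]
    exact ⟨y', hp.hom_ext (by rw [reassoc_of% hy', hmpt, hx', lift_fst_snd', ht])⟩
  · have hsq : IsPullback j' (Q ◁ incl) m j := isPullback_of_points hm fun T b t e => by
      rw [← lift_fst_snd' t] at e
      obtain ⟨x', hx'⟩ := hfix _ _ (by rw [← e]; exact hfwd T b)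
      refine ⟨lift (t ≫ fst Q X) x', ⟨?_, ?_⟩, fun s hs => ?_⟩
      · rw [← cancel_mono m, Category.assoc, hmpt, hx', ← e]
      · rw [lift_whiskerLeft, hx', lift_fst_snd']
      · rw [← lift_fst_snd' s, ← hs.2]
        refine CartesianMonoidalCategory.hom_ext _ _ (by simp) ?_
        rw [lift_snd, lift_snd, ← cancel_mono incl, hx', ← hs.2]
        simp
    have hsq₂ : IsPullback (snd Q Xh) (Q ◁ incl) incl (snd Q X) :=
      isPullback_of_points (whiskerLeft_snd _ _).symm fun T b t e => by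
        refine ⟨lift (t ≫ fst Q X) b, ⟨lift_snd _ _, by rw [lift_whiskerLeft, e, lift_fst_snd']⟩, fun s hs => ?_⟩
        rw [← lift_fst_snd' s, hs.1, ← hs.2]
        simp
    have hcl' : IsClosedImmersion (Q ◁ incl).left :=
      MorphismProperty.of_isPullback (P := @IsClosedImmersion) (hsq₂.map (Over.forget S)) hcl
    have : FpqcDescLib.Covers j.left := by
      obtain ⟨Z, p, hp₁, hp₂, hp₃, s, hs⟩ := exists_single_fppf hY.2.2
      change s ≫ j.left = p at hs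
      exact ⟨Z, s, by rw [hs]; exact FpqcDescLib.isCovering_of_lfp p⟩
    exact this.isClosedImmersion m.left (Q ◁ incl).left j'.left (hsq.map (Over.forget S)).flip

end FixedLocus

section StabilizerPart

variable {G X Z Ψ Xh SΨ : Over S} [GrpObj G] [GrpObj Z]

theorem stabilizerPart (a : AlgGrp.Action G X) (h : 𝟙_ (Over S) ⟶ G)
    (i : Z ⟶ G) [IsMonHom i]
    (ψ : Ψ ⟶ G) [Mono ψ] (aΨ : AlgGrp.Action G Ψ)
    (hψ : aΨ.act ≫ ψ = fst G Ψ * (snd G Ψ ≫ ψ) * (fst G Ψ)⁻¹)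
    (o : 𝟙_ (Over S) ⟶ Ψ) (ho : o ≫ ψ = h)
    (hhom : ChGrp.IsHomog Scheme.fppfPrecoverage i aΨ o)
    (incl : Xh ⟶ X) [Mono incl]
    (hXh : ∀ (T : Over S) (x : T ⟶ X), (∃ y : T ⟶ Xh, y ≫ incl = x) ↔ lift (toUnit T ≫ h) x ≫ a.act = x)
    (aXh : AlgGrp.Action Z Xh) (hincl : AlgGrp.Action.IsEquivariant aXh (a.restrict i) incl)
    (σ : SΨ ⟶ G ⊗ X) [Mono σ]
    (hSΨ : ∀ (T : Over S) (g : T ⟶ G) (x : T ⟶ X),
      (∃ q : T ⟶ SΨ, q ≫ σ = lift g x) ↔ ((∃ y : T ⟶ Ψ, y ≫ ψ = g) ∧ lift g x ≫ a.act = x))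
    (aS : AlgGrp.Action G SΨ)
    (hσ : aS.act ≫ σ = lift (fst G SΨ * (snd G SΨ ≫ σ ≫ fst G X) * (fst G SΨ)⁻¹)
      (lift (fst G SΨ) (snd G SΨ ≫ σ ≫ snd G X) ≫ a.act))
    (Φ : G ⊗ Xh ⟶ SΨ)
    (hΦ : Φ ≫ σ = lift (fst G Xh * (toUnit (G ⊗ Xh) ≫ h) * (fst G Xh)⁻¹)
      (lift (fst G Xh) (snd G Xh ≫ incl) ≫ a.act)) :
    ChGrp.IsBalProd Scheme.fppfPrecoverage i aXh aS Φ := by
  unfold AlgGrp.Action.IsEquivariant at hincl
  have hΦpt : ∀ {T : Over S} (g : T ⟶ G) (x : T ⟶ Xh), lift g x ≫ Φ ≫ σ =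
      lift (g * (toUnit T ≫ h) * g⁻¹) (lift g (x ≫ incl) ≫ a.act) := fun {T} g x => by
    rw [hΦ, comp_lift, comp_mul, comp_mul, GrpObj.comp_inv, lift_fst, ← Category.assoc _ (toUnit _),
      toUnit_unique (lift g x ≫ toUnit _) (toUnit T), comp_lift_assoc, lift_fst, lift_snd_assoc]
  have hσpt : ∀ {T : Over S} (g : T ⟶ G) (s : T ⟶ SΨ), lift g s ≫ aS.act ≫ σ =
      lift (g * (s ≫ σ ≫ fst G X) * g⁻¹) (lift g (s ≫ σ ≫ snd G X) ≫ a.act) := fun g s => by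
    rw [hσ, comp_lift, comp_mul, comp_mul, GrpObj.comp_inv, lift_fst, lift_snd_assoc, comp_lift_assoc,
      lift_fst, lift_snd_assoc]
  have horb : ∀ {T : Over S} (g : T ⟶ G),
      (g ≫ aΨ.orbitMap o) ≫ ψ = g * (toUnit T ≫ h) * g⁻¹ := fun {T} g => by
    rw [AlgGrp.Action.comp_orbitMap, Category.assoc, hψ, comp_mul, comp_mul, GrpObj.comp_inv, lift_fst,
      lift_snd_assoc, Category.assoc, ho]
  have horb' : ∀ {T : Over S} (g : T ⟶ G) (z : T ⟶ Z),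
      (g * (z ≫ i)) * (toUnit T ≫ h) * (g * (z ≫ i))⁻¹ = g * (toUnit T ≫ h) * g⁻¹ := fun {T} g z => by
    have := congrArg (fun t => lift g z ≫ t ≫ ψ) hhom.2.1.w
    simp only [lift_fst_assoc, Category.assoc, lift_whiskerLeft_assoc] at this
    rw [← horb, ← horb, Category.assoc, Category.assoc, this, Hom.mul_def, Category.assoc]
  refine ⟨?_, isPullback_of_points ?_ fun T t t' e => ?_, locTriv_of Φ _ hhom.2.2
    ((hSΨ SΨ (σ ≫ fst G X) (σ ≫ snd G X)).1 ⟨𝟙 _, by rw [Category.id_comp, lift_fst_snd']⟩).1.choose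
    fun T y v hv => ?_⟩
  · unfold AlgGrp.Action.IsEquivariant
    rw [← cancel_mono σ]
    refine AlgGrp.Action.hom_ext_lift₂ fun T g₀ t => ?_
    conv_lhs => rw [← lift_fst_snd' t, Category.assoc, ← Category.assoc (lift g₀ _), lift_left_translation, hΦpt]
    conv_rhs => rw [Category.assoc, lift_whiskerLeft_assoc, hσpt, ← lift_fst_snd' t]
    simp only [Category.assoc]
    rw [reassoc_of% (hΦpt (t ≫ fst G Xh) (t ≫ snd G Xh)), reassoc_of% (hΦpt (t ≫ fst G Xh) (t ≫ snd G Xh)),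
      lift_fst, lift_snd]
    congr 1
    · simp only [_root_.mul_inv_rev, _root_.mul_assoc]
    · rw [AlgGrp.Action.lift_mul_act]
  · rw [← cancel_mono σ]
    refine AlgGrp.Action.hom_ext_lift₂ fun T z t => ?_
    rw [Category.assoc, Category.assoc, lift_snd_assoc]
    conv_lhs => rw [← lift_fst_snd' t, ← Category.assoc (lift z _), ChGrp.lift_twist_act, hΦpt]
    conv_rhs => rw [← lift_fst_snd' t, hΦpt]
    have hx : (lift z (t ≫ snd G Xh) ≫ aXh.act) ≫ incl = lift (z ≫ i) ((t ≫ snd G Xh) ≫ incl) ≫ a.act := by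
      rw [Category.assoc, hincl, lift_whiskerLeft_assoc, AlgGrp.Action.lift_restrict_act]
    congr 1
    · rw [← GrpObj.inv_comp, horb']
    · rw [hx, ← AlgGrp.Action.lift_mul_act, inv_mul_cancel_right]
  · have e' := congrArg (· ≫ σ) e
    simp only [Category.assoc] at e'
    rw [← lift_fst_snd' t, ← lift_fst_snd' t', hΦpt, hΦpt] at e'
    have e₁ := congrArg (· ≫ fst G X) e'
    have e₂ := congrArg (· ≫ snd G X) e'
    simp only [lift_fst, lift_snd] at e₁ e₂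
    rw [← horb, ← horb, cancel_mono ψ] at e₁
    obtain ⟨w, hw₁, hw₂⟩ : ∃ w : T ⟶ G ⊗ Z, w ≫ fst G Z = t ≫ fst G Xh ∧
        (t ≫ fst G Xh) * ((w ≫ snd G Z) ≫ i) = t' ≫ fst G Xh := by
      refine ⟨hhom.2.1.lift _ _ e₁, hhom.2.1.lift_fst _ _ e₁, ?_⟩
      conv_rhs => rw [← hhom.2.1.lift_snd _ _ e₁, ← lift_fst_snd' (hhom.2.1.lift _ _ e₁),
        lift_whiskerLeft_assoc, ← Hom.mul_def, hhom.2.1.lift_fst]
    have hx : (lift (w ≫ snd G Z) (t' ≫ snd G Xh) ≫ aXh.act) ≫ incl = (t ≫ snd G Xh) ≫ incl := by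
      rw [Category.assoc, hincl, lift_whiskerLeft_assoc, AlgGrp.Action.lift_restrict_act]
      rw [← hw₂, AlgGrp.Action.lift_mul_act] at e₂
      have h3 := congrArg (fun x => lift (t ≫ fst G Xh)⁻¹ x ≫ a.act) e₂
      simp only [← AlgGrp.Action.lift_mul_act, inv_mul_cancel, inv_mul_cancel_left,
        AlgGrp.Action.lift_one_act] at h3
      exact h3.symm
    refine ⟨lift (w ≫ snd G Z) t', ⟨?_, lift_snd _ _⟩, fun s hs => ?_⟩
    · conv_lhs => rw [← lift_fst_snd' t', ChGrp.lift_twist_act, (cancel_mono incl).1 hx, ← hw₂,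
        mul_inv_cancel_right, lift_fst_snd']
    · obtain ⟨hs₁, hs₂⟩ := hs
      rw [← lift_fst_snd' s, hs₂]
      congr 1
      rw [← lift_fst_snd' s, hs₂, ← lift_fst_snd' t', ChGrp.lift_twist_act] at hs₁
      have hz : t ≫ fst G Xh * ((s ≫ fst _ _) ≫ i) = t' ≫ fst G Xh := by
        rw [← congrArg (· ≫ fst G Xh) hs₁]
        simp
      have hz' : lift (t ≫ fst G Xh) (s ≫ fst Z _) = w := by
        refine hhom.2.1.hom_ext ?_ ?_
        · rw [lift_fst, hw₁]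
        · conv_rhs => rw [← lift_fst_snd' w, lift_whiskerLeft_assoc, ← Hom.mul_def, hw₁, hw₂]
          rw [lift_whiskerLeft_assoc, ← Hom.mul_def, hz]
      rw [← hz', lift_snd]
  · have hy : (y ≫ σ ≫ fst G X) = v * (toUnit T ≫ h) * v⁻¹ := by
      rw [← horb, hv, Category.assoc]
      exact congrArg (y ≫ ·) ((hSΨ SΨ (σ ≫ fst G X) (σ ≫ snd G X)).1
        ⟨𝟙 _, by rw [Category.id_comp, lift_fst_snd']⟩).1.choose_spec.symm
    have hstab : lift (y ≫ σ ≫ fst G X) (y ≫ σ ≫ snd G X) ≫ a.act = y ≫ σ ≫ snd G X :=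
      ((hSΨ T _ _).1 ⟨y, by rw [← lift_fst_snd' (y ≫ σ)]; simp⟩).2
    obtain ⟨x₀, hx₀⟩ := (hXh T (lift v⁻¹ (y ≫ σ ≫ snd G X) ≫ a.act)).2 (by
      conv_rhs => rw [← hstab, hy, ← AlgGrp.Action.lift_mul_act]
      rw [← AlgGrp.Action.lift_mul_act, _root_.mul_assoc v, inv_mul_cancel_left])
    refine ⟨lift v x₀, ?_⟩
    rw [← cancel_mono σ, Category.assoc, hΦpt, hx₀, ← AlgGrp.Action.lift_mul_act, mul_inv_cancel,
      AlgGrp.Action.lift_one_act, ← hy]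
    exact lift_fst_snd' (y ≫ σ) ▸ by simp

end StabilizerPart

end Groth.Agent.NonAbLib
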