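import Groth.Agent.NonAbLib.Sheaf

/-!
# The boundary map of a quotient sheaf `G/F` and the exactness of the cohomology sequence
-/

universe w v u

open CategoryTheory Opposite

namespace Groth.Agent.NonAbLib

open NonAbH1 NonAbH1.GSheaf CechTorsor

variable {C : Type u} [Category.{v} C] {J : GrothendieckTopology C} [J.HasSheafCompose (forget GrpCat.{w})]
  {F G : Sheaf J GrpCat.{w}} {u : F ⟶ G} {Q : GSheaf G} {π : GSheaf.trivial G ⟶ Q}

theorem π_map {U V : Cᵒᵖ} (f : U ⟶ V) (g : G.obj.obj U) :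
    π.hom.hom.app V (ofGrp (G.obj.map f g)) = Q.P.obj.map f (π.hom.hom.app U (ofGrp g)) :=
  NatTrans.naturality_apply π.hom.hom f (ofGrp g)

theorem π_mul {U : Cᵒᵖ} (g h : G.obj.obj U) :
    π.hom.hom.app U (ofGrp (g * h)) = Q.smul g (π.hom.hom.app U (ofGrp h)) :=
  π.map_smul g (ofGrp h)

theorem u_map {U V : Cᵒᵖ} (f : U ⟶ V) (x : F.obj.obj U) :
    u.hom.app V (F.obj.map f x) = G.obj.map f (u.hom.app U x) :=
  NatTrans.naturality_apply u.hom f x

theorem π_mul_u (hQ : IsQuotientBy u π) {U : Cᵒᵖ} (g : G.obj.obj U) (x : F.obj.obj U) :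
    π.hom.hom.app U (ofGrp (g * u.hom.app U x)) = π.hom.hom.app U (ofGrp g) :=
  ((hQ.1 U g _).2 ⟨x, rfl⟩).symm

/-- The presheaf of liftings of a section of the quotient. -/
def fibreFunctor (π : GSheaf.trivial G ⟶ Q) (c : Q.P.obj.sections) : Cᵒᵖ ⥤ Type w where
  obj U := { g : G.obj.obj U // π.hom.hom.app U (ofGrp g) = c.1 U }
  map {U V} f := TypeCat.ofHom fun g => ⟨G.obj.map f g.1, by rw [π_map, g.2]; exact c.2 f⟩
  map_id U := by ext g; simp
  map_comp f h := by ext g; simp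

theorem isSheaf_fibreFunctor (c : Q.P.obj.sections) : Presheaf.IsSheaf J (fibreFunctor π c) := by
  rw [isSheaf_iff_isSheaf_of_type]
  intro V S hS x hx
  rw [Presieve.compatible_iff_sieveCompatible] at hx
  obtain ⟨g, hg⟩ := group_glue S hS (fun T f hf => (x f hf).1) fun T T' f hf h =>
    (congrArg Subtype.val (hx f h hf)).symm
  refine ⟨⟨g, ?_⟩, fun T f hf => Subtype.ext (hg f hf), fun g' hg' => Subtype.ext ?_⟩
  · refine set_sep Q.P S hS fun T f hf => ?_
    rw [← π_map, hg f hf, c.2 f.op]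
    exact (x f hf).2
  · exact group_sep S hS fun T f hf => (congrArg Subtype.val (hg' f hf)).trans (hg f hf).symm

/-- The sheaf of liftings of a section of the quotient, with its action of `F`. -/
def fibre (hQ : IsQuotientBy u π) (c : Q.P.obj.sections) : GSheaf F where
  P := ⟨fibreFunctor π c, isSheaf_fibreFunctor c⟩
  smul {U} x g := ⟨g.1 * (u.hom.app U x)⁻¹, by
    rw [← map_inv, π_mul_u hQ]; exact g.2⟩
  one_smul g := Subtype.ext (by simp)
  mul_smul x y g := Subtype.ext (by simp [mul_assoc])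
  map_smul {U V} f x g := Subtype.ext (by
    show G.obj.map f (g.1 * (u.hom.app U x)⁻¹) = G.obj.map f g.1 * (u.hom.app V (F.obj.map f x))⁻¹
    rw [map_mul, map_inv, u_map])

theorem isFibreOver_fibre (hQ : IsQuotientBy u π) (c : Q.P.obj.sections) :
    IsFibreOver u π c (fibre hQ c) := by
  refine ⟨⟨{ app := fun U => TypeCat.ofHom fun g => ofGrp g.1, naturality := fun U V f => rfl }⟩,
    fun U a b h => Subtype.ext h, fun U g => ⟨?_, fun h => ⟨⟨g, h⟩, rfl⟩⟩, fun U x g => rfl⟩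
  rintro ⟨t, rfl⟩
  exact t.2

theorem isTorsor_of_isFibreOver (hu : ∀ U : Cᵒᵖ, Function.Injective (u.hom.app U)) (hQ : IsQuotientBy u π)
    {c : Q.P.obj.sections} {T : GSheaf F} (hT : IsFibreOver u π c T) : T.IsTorsor := by
  obtain ⟨ι, hinj, himg, hsmul⟩ := hT
  refine ⟨fun U t t' => ?_, fun U => ?_⟩
  · have h1 := (himg U _).1 ⟨t, rfl⟩
    have h2 := (himg U _).1 ⟨t', rfl⟩
    obtain ⟨x, hx⟩ := (hQ.1 U _ _).1 (h1.trans h2.symm)
    refine ⟨x⁻¹, hinj U ?_, fun y hy => hu U ?_⟩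
    · show toGrp (ι.hom.app U _) = toGrp (ι.hom.app U t')
      rw [hsmul, map_inv, inv_inv]
      exact hx.symm
    · dsimp only at hy
      have := hsmul U y t
      rw [hy, hx, mul_left_cancel_iff] at this
      rw [map_inv, this, inv_inv]
  · obtain ⟨S, hS, hS'⟩ := hQ.2 U (c.1 (op U))
    refine ⟨S, hS, fun V a ha => ?_⟩
    obtain ⟨g, hg⟩ := hS' a ha
    obtain ⟨t, -⟩ := (himg (op V) g).2 (hg.trans (c.2 a.op))
    exact ⟨t⟩

theorem iso_of_isFibreOver {c : Q.P.obj.sections} {T T' : GSheaf F} (hT : IsFibreOver u π c T)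
    (hT' : IsFibreOver u π c T') : Nonempty (T ≅ T') := by
  obtain ⟨ι, hinj, himg, hsmul⟩ := hT
  obtain ⟨ι', hinj', himg', hsmul'⟩ := hT'
  choose f hf using fun (U : Cᵒᵖ) (t : T.P.obj.obj U) => (himg' U _).2 ((himg U _).1 ⟨t, rfl⟩)
  let φ : T ⟶ T' :=
    { hom := ⟨{ app := fun U => TypeCat.ofHom (f U)
                naturality := fun U V a => by
                  ext t
                  refine hinj' V ?_
                  show toGrp (ι'.hom.app V (f V (T.P.obj.map a t))) =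
                    toGrp (ι'.hom.app V (T'.P.obj.map a (f U t)))
                  rw [hf, NatTrans.naturality_apply, NatTrans.naturality_apply ι'.hom, uSh_map, uSh_map, hf] }⟩
      map_smul := fun {U} g t => hinj' U (by
        show toGrp (ι'.hom.app U (f U (T.smul g t))) = toGrp (ι'.hom.app U (T'.smul g (f U t)))
        rw [hf, hsmul, hsmul', hf]) }
  refine ⟨isoOfBijective φ fun U => ⟨fun t t' h => hinj U ?_, fun t' => ?_⟩⟩
  · show toGrp (ι.hom.app U t) = toGrp (ι.hom.app U t')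
    rw [← hf U t, ← hf U t']
    exact congrArg (fun s => toGrp (ι'.hom.app U s)) h
  · obtain ⟨t, ht⟩ := (himg U _).2 ((himg' U _).1 ⟨t', rfl⟩)
    exact ⟨t, hinj' U ((hf U t).trans ht)⟩

theorem cl_eq_one_iff_lifts (hu : ∀ U : Cᵒᵖ, Function.Injective (u.hom.app U)) (hQ : IsQuotientBy u π)
    (c : Q.P.obj.sections) (T : Torsor F) (hT : IsFibreOver u π c T.toGSheaf) :
    T.cl = 1 ↔ ∃ g : (uSh G).obj.sections, ∀ U : Cᵒᵖ, π.hom.hom.app U (g.1 U) = c.1 U := by
  obtain ⟨ι, hinj, himg, hsmul⟩ := hT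
  rw [cl_eq_one_iff]
  constructor
  · rintro ⟨s, hs⟩
    exact ⟨⟨fun U => ι.hom.app U (s U), fun {U V} f => by rw [← NatTrans.naturality_apply, hs f]⟩,
      fun U => (himg U _).1 ⟨s U, rfl⟩⟩
  · rintro ⟨g, hg⟩
    choose s hs using fun U => (himg U (toGrp (g.1 U))).2 (hg U)
    refine ⟨s, fun {U V} f => hinj V ?_⟩
    show toGrp (ι.hom.app V (T.P.obj.map f (s U))) = toGrp (ι.hom.app V (s V))
    rw [NatTrans.naturality_apply, uSh_map, hs, hs, ← uSh_map, g.2 f]

theorem pushforward_trivial_iff (hu : ∀ U : Cᵒᵖ, Function.Injective (u.hom.app U)) (hQ : IsQuotientBy u π)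
    (T : Torsor F) :
    IsPushforwardAlong u T.toGSheaf (GSheaf.trivial G) ↔
      ∃ c : Q.P.obj.sections, IsFibreOver u π c T.toGSheaf := by
  constructor
  · rintro ⟨φ, hφ⟩
    let φ' : ∀ U : Cᵒᵖ, T.P.obj.obj U → G.obj.obj U := fun U t => toGrp (φ.hom.app U t)
    have hφ' : ∀ (U : Cᵒᵖ) (x : F.obj.obj U) t, φ' U (T.smul x t) = u.hom.app U x * φ' U t := hφ
    have hφm : ∀ {U V : Cᵒᵖ} (f : U ⟶ V) t, φ' V (T.P.obj.map f t) = G.obj.map f (φ' U t) := fun {U V} f t =>
      (NatTrans.naturality_apply φ.hom f t)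
    let d : ∀ U : Cᵒᵖ, T.P.obj.obj U → Q.P.obj.obj U := fun U t => π.hom.hom.app U (ofGrp (φ' U t)⁻¹)
    have hd : ∀ (U : Cᵒᵖ) (t t' : T.P.obj.obj U), d U t = d U t' := fun U t t' => by
      obtain ⟨x, hx, -⟩ := T.isTorsor.1 U t t'
      refine (hQ.1 U _ _).2 ⟨x⁻¹, ?_⟩
      rw [← hx, hφ', mul_inv_rev, map_inv]
    have hdm : ∀ {U V : Cᵒᵖ} (f : U ⟶ V) t, Q.P.obj.map f (d U t) = d V (T.P.obj.map f t) := fun {U V} f t => by
      show Q.P.obj.map f _ = π.hom.hom.app V (ofGrp _)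
      rw [← π_map, map_inv, hφm]
    have hex : ∀ U : C, ∃ q : Q.P.obj.obj (op U),
        ∀ ⦃V : C⦄ (a : V ⟶ U) (t : T.P.obj.obj (op V)), Q.P.obj.map a.op q = d _ t := by
      intro U
      obtain ⟨S, hS, hne⟩ := T.isTorsor.2 U
      obtain ⟨q, hq⟩ := exists_glue Q.P hS (fun V a ha => d _ (hne a ha).some) fun V W a ha b => by
        rw [hdm]; exact hd _ _ _
      refine ⟨q, fun V a t => set_sep Q.P _ (J.pullback_stable a hS) fun W b hb => ?_⟩
      rw [map_comp_pt, hq _ hb, hdm]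
      exact hd _ _ _
    choose q hq using hex
    have hcompat : ∀ {U V : Cᵒᵖ} (f : U ⟶ V), Q.P.obj.map f (q U.unop) = q V.unop := by
      rintro ⟨U⟩ ⟨V⟩ f
      obtain ⟨S, hS, hne⟩ := T.isTorsor.2 V
      refine set_sep Q.P S hS fun W a ha => ?_
      obtain ⟨t⟩ := hne a ha
      rw [hq V a t]
      exact (map_comp_pt Q.P f.unop a (q U)).trans (hq U _ t)
    refine ⟨⟨fun U => q U.unop, hcompat⟩, ⟨{ app := fun U => TypeCat.ofHom fun t => ofGrp (φ' U t)⁻¹
                                             naturality := fun U V f => by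
                                              ext t
                                              show (φ' V (T.P.obj.map f t))⁻¹ = G.obj.map f (φ' U t)⁻¹
                                              rw [map_inv, hφm] }⟩, fun U t t' h => ?_, fun U g => ⟨?_, fun h => ?_⟩, fun U x t => ?_⟩
    · obtain ⟨x, rfl, -⟩ := T.isTorsor.1 U t t'
      have h' : (φ' U t)⁻¹ = (φ' U (T.smul x t))⁻¹ := h
      rw [hφ', inv_inj, right_eq_mul] at h'
      rw [hu U (h'.trans (map_one _).symm), T.one_smul]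
    · rintro ⟨t, rfl⟩
      have := hq U.unop (𝟙 _) t
      simp only [op_id, Functor.map_id_apply] at this
      exact this.symm
    · obtain ⟨U⟩ := U
      change π.hom.hom.app (op U) (ofGrp g) = q U at h
      obtain ⟨S, hS, hne⟩ := T.isTorsor.2 U
      have key : ∀ ⦃V : C⦄ (a : V ⟶ U), S a → ∃ t, (φ' (op V) t)⁻¹ = G.obj.map a.op g := fun V a ha => by
        obtain ⟨t⟩ := hne a ha
        have h' := congrArg (Q.P.obj.map a.op) h
        rw [← π_map, hq U a t] at h'
        obtain ⟨x, hx⟩ := (hQ.1 _ _ _).1 h'.symm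
        exact ⟨T.smul x⁻¹ t, by rw [hφ', map_inv, mul_inv_rev, inv_inv, hx]⟩
      obtain ⟨t, ht⟩ := exists_glue_rel T.P (fun V a t => (φ' (op V) t)⁻¹ = G.obj.map a.op g)
        (fun V W a b t ht => by
          rw [hφm, ← map_inv, ht, ← Functor.map_comp_apply, ← op_comp])
        (fun V a t t' ht ht' => by
          obtain ⟨x, rfl, -⟩ := T.isTorsor.1 _ t t'
          rw [← ht, inv_inj, hφ', mul_eq_right] at ht'
          rw [hu _ (ht'.trans (map_one _).symm), T.one_smul])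
        hS key
      refine ⟨t, group_sep S hS fun V a ha => ?_⟩
      show G.obj.map a.op (φ' (op U) t)⁻¹ = _
      rw [map_inv, ← hφm]
      exact ht a ha
    · show (φ' U (T.smul x t))⁻¹ = (φ' U t)⁻¹ * (u.hom.app U x)⁻¹
      rw [hφ', mul_inv_rev]
  · rintro ⟨c, ι, hinj, himg, hsmul⟩
    refine ⟨⟨{ app := fun U => TypeCat.ofHom fun t => ofGrp (toGrp (ι.hom.app U t))⁻¹
               naturality := fun U V f => by
                ext t
                show (toGrp (ι.hom.app V (T.P.obj.map f t)))⁻¹ = G.obj.map f (toGrp (ι.hom.app U t))⁻¹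
                rw [map_inv, NatTrans.naturality_apply]
                rfl }⟩, fun U x t => ?_⟩
    show (toGrp (ι.hom.app U (T.smul x t)))⁻¹ = u.hom.app U x * (toGrp (ι.hom.app U t))⁻¹
    rw [hsmul, mul_inv_rev, inv_inv]

theorem fibres_iso_iff (hu : ∀ U : Cᵒᵖ, Function.Injective (u.hom.app U)) (hQ : IsQuotientBy u π)
    (c c' : Q.P.obj.sections) (T T' : GSheaf F) (hT : IsFibreOver u π c T) (hT' : IsFibreOver u π c' T') :
    Nonempty (T ≅ T') ↔
      ∃ g : (uSh G).obj.sections, ∀ U : Cᵒᵖ, Q.smul (toGrp (g.1 U)) (c.1 U) = c'.1 U := by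
  have htors := isTorsor_of_isFibreOver hu hQ hT
  obtain ⟨ι, hinj, himg, hsmul⟩ := hT
  have hmap : ∀ {U V : Cᵒᵖ} (f : U ⟶ V) t,
      toGrp (ι.hom.app V (T.P.obj.map f t)) = G.obj.map f (toGrp (ι.hom.app U t)) := fun {U V} f t =>
    NatTrans.naturality_apply ι.hom f t
  constructor
  · rintro ⟨e⟩
    obtain ⟨ι', hinj', himg', hsmul'⟩ := hT'
    let d : ∀ U : Cᵒᵖ, T.P.obj.obj U → G.obj.obj U := fun U t =>
      toGrp (ι'.hom.app U (e.hom.hom.hom.app U t)) * (toGrp (ι.hom.app U t))⁻¹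
    have hd : ∀ (U : Cᵒᵖ) (t t' : T.P.obj.obj U), d U t = d U t' := fun U t t' => by
      obtain ⟨x, rfl, -⟩ := htors.1 U t t'
      simp only [d]
      rw [e.hom.map_smul, hsmul, hsmul']
      group
    have hdm : ∀ {U V : Cᵒᵖ} (f : U ⟶ V) t, G.obj.map f (d U t) = d V (T.P.obj.map f t) := fun {U V} f t => by
      simp only [d]
      rw [map_mul, map_inv, hmap, NatTrans.naturality_apply e.hom.hom.hom, NatTrans.naturality_apply ι'.hom]
      rfl
    have hex : ∀ U : C, ∃ g : G.obj.obj (op U),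
        ∀ ⦃V : C⦄ (a : V ⟶ U) (t : T.P.obj.obj (op V)), G.obj.map a.op g = d _ t := by
      intro U
      obtain ⟨S, hS, hne⟩ := htors.2 U
      obtain ⟨g, hg⟩ := group_glue S hS (fun V a ha => d _ (hne a ha).some) fun V W a ha b => by
        rw [hdm]; exact hd _ _ _
      refine ⟨g, fun V a t => group_sep _ (J.pullback_stable a hS) fun W b hb => ?_⟩
      rw [map_map, hg _ hb, hdm]
      exact hd _ _ _
    choose g hg using hex
    refine ⟨⟨fun U => ofGrp (g U.unop), ?_⟩, ?_⟩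
    · rintro ⟨U⟩ ⟨V⟩ f
      obtain ⟨S, hS, hne⟩ := htors.2 V
      refine group_sep S hS fun W a ha => ?_
      obtain ⟨t⟩ := hne a ha
      show G.obj.map a.op (G.obj.map f (g U)) = G.obj.map a.op (g V)
      rw [hg V a t]
      exact (map_map (g U) f.unop a).trans (hg U _ t)
    · rintro ⟨U⟩
      obtain ⟨S, hS, hne⟩ := htors.2 U
      refine set_sep Q.P S hS fun W a ha => ?_
      obtain ⟨t⟩ := hne a ha
      show Q.P.obj.map a.op (Q.smul (g U) _) = _
      rw [Q.map_smul, hg U a t, c.2 a.op, c'.2 a.op, ← (himg (op W) _).1 ⟨t, rfl⟩, ← π_mul]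
      simp only [d, inv_mul_cancel_right]
      exact (himg' _ _).1 ⟨_, rfl⟩
  · rintro ⟨g, hg⟩
    refine iso_of_isFibreOver (u := u) (π := π) (c := c') ?_ hT'
    refine ⟨⟨{ app := fun U => TypeCat.ofHom fun t => ofGrp (toGrp (g.1 U) * toGrp (ι.hom.app U t))
               naturality := fun U V f => by
                ext t
                show toGrp (g.1 V) * toGrp (ι.hom.app V (T.P.obj.map f t)) =
                  G.obj.map f (toGrp (g.1 U) * toGrp (ι.hom.app U t))
                rw [map_mul, hmap, ← g.2 f]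
                rfl }⟩, fun U t t' h => hinj U (mul_left_cancel (a := toGrp (g.1 U)) h),
      fun U h => ⟨?_, fun hh => ?_⟩, fun U x t => ?_⟩
    · rintro ⟨t, rfl⟩
      show π.hom.hom.app U (ofGrp (toGrp (g.1 U) * toGrp (ι.hom.app U t))) = _
      rw [π_mul, (himg U _).1 ⟨t, rfl⟩, hg]
    · obtain ⟨t, ht⟩ := (himg U ((toGrp (g.1 U))⁻¹ * h)).2 (by
        rw [π_mul, hh, ← hg U, ← Q.mul_smul, inv_mul_cancel, Q.one_smul])
      exact ⟨t, by show toGrp (g.1 U) * toGrp (ι.hom.app U t) = h; rw [ht, mul_inv_cancel_left]⟩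
    · show toGrp (g.1 U) * toGrp (ι.hom.app U (T.smul x t)) =
        toGrp (g.1 U) * toGrp (ι.hom.app U t) * (u.hom.app U x)⁻¹
      rw [hsmul, mul_assoc]

end Groth.Agent.NonAbLib
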