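import Groth.Agent.NonAbLib.TorsorSch
import Groth.Prelude.Def_ActBC
import Groth.Prelude.Def_ChGrp

/-!
# Torsors over an object of a slice, regarded over the base
-/

universe u

open CategoryTheory CategoryTheory.Limits MonoidalCategory CartesianMonoidalCategory MonObj GrpObj AlgebraicGeometry

noncomputable section

namespace Groth.Agent.NonAbLib.Rel

variable {S A : Scheme.{u}} (f : A ⟶ S) {G : Over S} [GrpObj G] {Q : Over A} (a : AlgGrp.Action (Red.bc f G) Q)

/-- The points of the base change of an object. -/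
abbrev he {W : Over A} {Y : Over S} : ((Over.map f).obj W ⟶ Y) ≃ (W ⟶ Red.bc f Y) :=
  (Over.mapPullbackAdj f).homEquiv W Y

/-- The points of the base-changed group form the same group. -/
def heHom (W : Over A) : ((Over.map f).obj W ⟶ G) →* (W ⟶ Red.bc f G) :=
  MonoidHom.mk' (he f) fun g g' => AlgGrp.Action.homEquiv_mul f g g'

theorem he_fst {W : Over A} {Y : Over S} (g : (Over.map f).obj W ⟶ Y) :
    (he f g).left ≫ pullback.fst Y.hom f = g.left := by
  simp [he, Over.mapPullbackAdj]
  exact pullback.lift_fst _ _ _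

/-- The projection of a scheme over the intermediate base. -/
def proj (Q : Over A) : (Over.map f).obj Q ⟶ Over.mk f := Over.homMk Q.hom

/-- The intermediate scheme over `A` of the product with the group. -/
abbrev W₀ (G : Over S) (Q : Over A) : Over A := Over.mk ((snd G ((Over.map f).obj Q)).left ≫ Q.hom)

/-- The comparison with the product. -/
def k₀ : (Over.map f).obj (W₀ f G Q) ⟶ G ⊗ (Over.map f).obj Q :=
  Over.homMk (𝟙 _) (by
    show 𝟙 _ ≫ (G ⊗ (Over.map f).obj Q).hom = ((snd G ((Over.map f).obj Q)).left ≫ Q.hom) ≫ f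
    rw [Category.id_comp, Category.assoc]
    exact (Over.w (snd G ((Over.map f).obj Q))).symm)

/-- The second projection over `A`. -/
def x₀ : W₀ f G Q ⟶ Q := Over.homMk (snd G ((Over.map f).obj Q)).left rfl

/-- The action morphism over `A` of the universal point. -/
def u₀ : W₀ f G Q ⟶ Q := lift (he f (k₀ f ≫ fst G ((Over.map f).obj Q))) (x₀ f) ≫ a.act

/-- The action over the base. -/
def actMor : G ⊗ (Over.map f).obj Q ⟶ (Over.map f).obj Q :=
  Over.homMk (u₀ f a).left (by
    show (u₀ f a).left ≫ Q.hom ≫ f = _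
    rw [← Category.assoc, Over.w (u₀ f a)]
    show ((snd G ((Over.map f).obj Q)).left ≫ Q.hom) ≫ f = _
    rw [Category.assoc]
    exact Over.w (snd G ((Over.map f).obj Q)))

theorem actMor_pt {W : Over A} (g : (Over.map f).obj W ⟶ G) (x : W ⟶ Q) :
    lift g ((Over.map f).map x) ≫ actMor f a = (Over.map f).map (lift (he f g) x ≫ a.act) := by
  let m := lift g ((Over.map f).map x)
  let l : W ⟶ W₀ f G Q := Over.homMk m.left (by
    show m.left ≫ (snd G ((Over.map f).obj Q)).left ≫ Q.hom = W.hom
    rw [← Category.assoc, ← Over.comp_left, show m ≫ snd _ _ = (Over.map f).map x from lift_snd _ _]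
    exact Over.w x)
  have h1 : (Over.map f).map l ≫ k₀ f = m := Over.OverMorphism.ext (Category.comp_id _)
  have h2 : l ≫ x₀ f = x := Over.OverMorphism.ext (by
    show m.left ≫ (snd G ((Over.map f).obj Q)).left = x.left
    rw [← Over.comp_left, show m ≫ snd _ _ = (Over.map f).map x from lift_snd _ _]
    rfl)
  have h3 : l ≫ u₀ f a = lift (he f g) x ≫ a.act := by
    unfold u₀
    rw [comp_lift_assoc, h2, ← Adjunction.homEquiv_naturality_left, ← Category.assoc, h1,
      show m ≫ fst _ _ = g from lift_fst _ _]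
  rw [← h3]
  exact Over.OverMorphism.ext rfl

theorem exists_rep {T : Over S} (x : T ⟶ (Over.map f).obj Q) :
    ∃ (W : Over A) (k : (Over.map f).obj W ⟶ T) (x' : W ⟶ Q), IsIso k ∧ k ≫ x = (Over.map f).map x' := by
  let W : Over A := Over.mk (x.left ≫ Q.hom)
  let k : (Over.map f).obj W ⟶ T := Over.homMk (𝟙 T.left) (by
    show 𝟙 _ ≫ T.hom = (x.left ≫ Q.hom) ≫ f
    rw [Category.id_comp, Category.assoc]
    exact (Over.w x).symm)
  have : IsIso ((Over.forget S).map k) := inferInstanceAs (IsIso (𝟙 T.left))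
  exact ⟨W, k, Over.homMk x.left rfl, isIso_of_reflects_iso k (Over.forget S),
    Over.OverMorphism.ext (Category.id_comp _)⟩

theorem map_inj {W W' : Over A} {x x' : W ⟶ W'} (h : (Over.map f).map x = (Over.map f).map x') : x = x' :=
  Over.OverMorphism.ext (congrArg CommaMorphism.left h :)

/-- A torsor over `A`, acted on over the base. -/
def action : AlgGrp.Action G ((Over.map f).obj Q) where
  act := actMor f a
  one_act := AlgGrp.Action.hom_ext_lift₂ fun T v y => by
    obtain ⟨W, k, y', hk, hy⟩ := exists_rep f y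
    have hv : v ≫ η[G] = 1 := by rw [Hom.one_def, toUnit_unique (toUnit T) v]
    rw [lift_whiskerRight_assoc, hv, lift_leftUnitor_hom, ← cancel_epi k, comp_lift_assoc, hy, MonObj.comp_one,
      actMor_pt, show he f (1 : (Over.map f).obj W ⟶ G) = 1 from (heHom f W).map_one, SchTorsor.one_act_pt]
  mul_act := AlgGrp.Action.hom_ext_lift₃ fun T g h y => by
    obtain ⟨W, k, y', hk, hy⟩ := exists_rep f y
    rw [lift_whiskerRight_assoc, ← Hom.mul_def, lift_lift_associator_hom_assoc, lift_whiskerLeft_assoc,
      ← cancel_epi k, comp_lift_assoc, comp_lift_assoc, comp_lift_assoc, hy, MonObj.comp_mul, actMor_pt, actMor_pt,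
      actMor_pt, show he f ((k ≫ g) * (k ≫ h)) = he f (k ≫ g) * he f (k ≫ h) from (heHom f W).map_mul _ _,
      SchTorsor.act_assoc]

theorem action_pt {W : Over A} (g : (Over.map f).obj W ⟶ G) (x : W ⟶ Q) :
    lift g ((Over.map f).map x) ≫ (action f a).act = (Over.map f).map (lift (he f g) x ≫ a.act) :=
  actMor_pt f a g x

theorem act_proj : (action f a).act ≫ proj f Q = snd G _ ≫ proj f Q :=
  Over.OverMorphism.ext (by
    show (u₀ f a).left ≫ Q.hom = (snd G ((Over.map f).obj Q)).left ≫ Q.hom
    exact Over.w (u₀ f a))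

theorem free (ha : NonAbH1.IsPseudoTorsorSch a) {T : Over S} (y y' : T ⟶ (Over.map f).obj Q)
    (h : y ≫ proj f Q = y' ≫ proj f Q) : ∃! g : T ⟶ G, lift g y' ≫ (action f a).act = y := by
  obtain ⟨W, k, x', hk, hx'⟩ := exists_rep f y'
  have hw : (k ≫ y).left ≫ Q.hom = W.hom := by
    have e := congrArg (fun m => (k ≫ m).left) h
    rw [show (k ≫ y' ≫ proj f Q).left = (k ≫ y').left ≫ Q.hom from rfl, hx'] at e
    exact e.trans (Over.w x')
  let x : W ⟶ Q := Over.homMk (k ≫ y).left hw
  have hx : k ≫ y = (Over.map f).map x := Over.OverMorphism.ext rfl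
  obtain ⟨g, hg⟩ := SchTorsor.exists_div ha x x'
  refine ⟨inv k ≫ (he f).symm g, ?_, fun g' hg' => ?_⟩
  · show _ = _
    rw [← cancel_epi k, comp_lift_assoc, hx', IsIso.hom_inv_id_assoc, action_pt, Equiv.apply_symm_apply, hg, hx]
  · rw [IsIso.eq_inv_comp, Equiv.eq_symm_apply]
    refine SchTorsor.act_free ha (y := x') (map_inj f ?_)
    rw [← action_pt, hg, ← hx, ← hx', ← hg', comp_lift_assoc]

/-- Equivariance over the base of a morphism gives equivariance over `A`. -/
theorem equivariant_of_map {Q' : Over A} (b : AlgGrp.Action (Red.bc f G) Q') (φ : Q ⟶ Q')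
    (h : (action f a).act ≫ (Over.map f).map φ = (G ◁ (Over.map f).map φ) ≫ (action f b).act) :
    a.act ≫ φ = (Red.bc f G ◁ φ) ≫ b.act :=
  AlgGrp.Action.hom_ext_lift₂ fun W g x => map_inj f (by
    have := congrArg (lift ((he f).symm g) ((Over.map f).map x) ≫ ·) h
    rw [← Category.assoc, action_pt, Equiv.apply_symm_apply, lift_whiskerLeft_assoc, ← Functor.map_comp,
      ← Functor.map_comp, action_pt, Equiv.apply_symm_apply] at this
    rw [lift_whiskerLeft_assoc, ← Category.assoc]
    exact this)

theorem comp_act {T T' : Over S} {X : Over S} (b : AlgGrp.Action G X) (j : T' ⟶ T) (g : T ⟶ G) (y : T ⟶ X) :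
    j ≫ lift g y ≫ b.act = lift (j ≫ g) (j ≫ y) ≫ b.act := comp_lift_assoc j g y b.act

/-- An equivariant morphism on points. -/
theorem equivariant_pt {X Y : Over S} {b : AlgGrp.Action G X} {c : AlgGrp.Action G Y} {m : X ⟶ Y}
    (hm : b.act ≫ m = (G ◁ m) ≫ c.act) {T : Over S} (g : T ⟶ G) (x : T ⟶ X) :
    (lift g x ≫ b.act) ≫ m = lift g (x ≫ m) ≫ c.act := by
  rw [Category.assoc, hm, lift_whiskerLeft_assoc]

theorem equivariant_pt' {X Y Z : Over S} {b : AlgGrp.Action G X} {c : AlgGrp.Action G Y} {e : AlgGrp.Action G Z}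
    {m : X ⟶ Y} {m' : Y ⟶ Z} (hm : b.act ≫ m = (G ◁ m) ≫ c.act) (hm' : c.act ≫ m' = (G ◁ m') ≫ e.act)
    {T : Over S} (g : T ⟶ G) (x : T ⟶ X) :
    (lift g x ≫ b.act) ≫ m ≫ m' = lift g (x ≫ m ≫ m') ≫ e.act := by
  rw [← Category.assoc, equivariant_pt hm, equivariant_pt hm', Category.assoc]

theorem proj_pt {T : Over S} (g : T ⟶ G) (x : T ⟶ (Over.map f).obj Q) :
    (lift g x ≫ (action f a).act) ≫ proj f Q = x ≫ proj f Q := by
  rw [Category.assoc, act_proj, lift_snd_assoc]

theorem map_equivariant {Q' : Over A} (b : AlgGrp.Action (Red.bc f G) Q') (φ : Q ⟶ Q')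
    (h : a.act ≫ φ = (Red.bc f G ◁ φ) ≫ b.act) :
    (action f a).act ≫ (Over.map f).map φ = (G ◁ (Over.map f).map φ) ≫ (action f b).act :=
  AlgGrp.Action.hom_ext_lift₂ fun T g y => by
    obtain ⟨W, k, y', hk, hy⟩ := exists_rep f y
    rw [lift_whiskerLeft_assoc, ← cancel_epi k, ← Category.assoc (lift g y), ← Category.assoc k, comp_act, comp_act,
      ← Category.assoc k y, hy, action_pt, ← Functor.map_comp, ← Functor.map_comp, action_pt, Category.assoc, h,
      lift_whiskerLeft_assoc]

section bc

variable {A' : Scheme.{u}} (h : A' ⟶ A) {d : A' ⟶ S} (w : h ≫ f = d)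

/-- The projection of a base change. -/
def fstMor (Q : Over A) : (Over.map d).obj (Red.bc h Q) ⟶ (Over.map f).obj Q :=
  Over.homMk (pullback.fst Q.hom h) (by
    show pullback.fst Q.hom h ≫ Q.hom ≫ f = pullback.snd Q.hom h ≫ d
    rw [← Category.assoc, pullback.condition, Category.assoc, w])

/-- The map between the intermediate bases. -/
def baseMor : Over.mk d ⟶ Over.mk f := Over.homMk h w

theorem fstMor_proj : fstMor f h w Q ≫ proj f Q = proj d (Red.bc h Q) ≫ baseMor f h w :=
  Over.OverMorphism.ext pullback.condition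

/-- A point of the base change. -/
def bcPt {T : Over S} (t : T ⟶ Over.mk d) (x : T ⟶ (Over.map f).obj Q)
    (hx : x ≫ proj f Q = t ≫ baseMor f h w) : T ⟶ (Over.map d).obj (Red.bc h Q) :=
  Over.homMk (pullback.lift x.left t.left (congrArg CommaMorphism.left hx)) (by
    show pullback.lift x.left t.left _ ≫ pullback.snd Q.hom h ≫ d = T.hom
    exact (Category.assoc _ _ _).symm.trans ((congrArg (· ≫ d) (pullback.lift_snd _ _ _)).trans (Over.w t)))

@[simp, reassoc] theorem bcPt_fst {T : Over S} (t : T ⟶ Over.mk d) (x : T ⟶ (Over.map f).obj Q)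
    (hx : x ≫ proj f Q = t ≫ baseMor f h w) : bcPt f h w t x hx ≫ fstMor f h w Q = x :=
  Over.OverMorphism.ext (pullback.lift_fst _ _ _)

@[simp, reassoc] theorem bcPt_proj {T : Over S} (t : T ⟶ Over.mk d) (x : T ⟶ (Over.map f).obj Q)
    (hx : x ≫ proj f Q = t ≫ baseMor f h w) : bcPt f h w t x hx ≫ proj d (Red.bc h Q) = t :=
  Over.OverMorphism.ext (pullback.lift_snd _ _ _)

theorem bc_ext {T : Over S} {p q : T ⟶ (Over.map d).obj (Red.bc h Q)}
    (e : p ≫ fstMor f h w Q = q ≫ fstMor f h w Q) (e' : p ≫ proj d _ = q ≫ proj d _) : p = q :=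
  Over.OverMorphism.ext (pullback.hom_ext (congrArg CommaMorphism.left e) (congrArg CommaMorphism.left e'))

omit [GrpObj G] in
theorem he_bcCompIso {W : Over A'} (g : (Over.map d).obj W ⟶ G) (g' : (Over.map f).obj ((Over.map h).obj W) ⟶ G)
    (hg : g'.left = g.left) :
    he d g ≫ (ActBC.bcCompIso h f G w).inv = he h (he f g') := by
  rw [Iso.comp_inv_eq]
  refine Over.OverMorphism.ext (pullback.hom_ext ?_ ?_)
  · rw [Over.comp_left, Category.assoc, ActBC.bcCompIso_hom_left_fst]
    refine (he_fst d g).trans ?_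
    refine hg.symm.trans ((he_fst f g').symm.trans ?_)
    exact (congrArg (· ≫ pullback.fst G.hom f) (he_fst h (he f g')).symm).trans (Category.assoc _ _ _)
  · exact (Over.w _).trans (Over.w _).symm

/-- The action of the base change, restricted to the base change along the composite. -/
abbrev bcAct : AlgGrp.Action (Red.bc d G) (Red.bc h Q) :=
  (a.bc h).restrict (ActBC.bcCompIso h f G w).inv

theorem fstMor_equivariant :
    (action d (bcAct f a h w)).act ≫ fstMor f h w Q = (G ◁ fstMor f h w Q) ≫ (action f a).act :=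
  AlgGrp.Action.hom_ext_lift₂ fun T g y => by
    obtain ⟨W, k, y', hk, hy⟩ := exists_rep d y
    rw [lift_whiskerLeft_assoc, ← cancel_epi k, ← Category.assoc (lift g y), ← Category.assoc k, comp_act, comp_act,
      ← Category.assoc k y, hy, action_pt]
    let W' : Over A := (Over.map h).obj W
    let k' : (Over.map f).obj W' ⟶ (Over.map d).obj W := Over.homMk (𝟙 W.left) (by
      show 𝟙 _ ≫ W.hom ≫ d = (W.hom ≫ h) ≫ f
      rw [Category.id_comp, Category.assoc, w])
    have : IsIso ((Over.forget S).map k') := inferInstanceAs (IsIso (𝟙 W.left))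
    have : IsIso k' := isIso_of_reflects_iso k' (Over.forget S)
    let xA : W' ⟶ Q := ((Over.mapPullbackAdj h).homEquiv W Q).symm y'
    have hxA : xA.left = y'.left ≫ pullback.fst Q.hom h := by
      have := he_fst h xA
      rw [show he h xA = y' from Equiv.apply_symm_apply _ _] at this
      exact this.symm
    have e1 : k' ≫ (Over.map d).map y' ≫ fstMor f h w Q = (Over.map f).map xA :=
      Over.OverMorphism.ext ((Category.id_comp _).trans hxA.symm)
    rw [← cancel_epi k', comp_act, e1, action_pt]
    have e2 : lift (he d (k ≫ g)) y' ≫ (bcAct f a h w).act = he h (lift (he f (k' ≫ k ≫ g)) xA ≫ a.act) := by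
      rw [bcAct, AlgGrp.Action.restrict_act, lift_whiskerRight_assoc,
        he_bcCompIso f h w _ (k' ≫ k ≫ g) (Category.id_comp _), ← AlgGrp.Action.lift_homEquiv_bc_act,
        show he h xA = y' from Equiv.apply_symm_apply _ _]
    rw [e2]
    exact Over.OverMorphism.ext ((Category.id_comp _).trans (he_fst h _))

end bc

section direct

variable {P : Over S} (b : AlgGrp.Action G P)

/-- The projection of a base change to the base. -/
def fstBase (P : Over S) : (Over.map f).obj (Red.bc f P) ⟶ P :=
  Over.homMk (pullback.fst P.hom f) pullback.condition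

theorem fstBase_equivariant :
    (action f (b.bc f)).act ≫ fstBase f P = (G ◁ fstBase f P) ≫ b.act :=
  AlgGrp.Action.hom_ext_lift₂ fun T g y => by
    obtain ⟨W, k, y', hk, hy⟩ := exists_rep f y
    rw [lift_whiskerLeft_assoc, ← cancel_epi k, ← Category.assoc (lift g y), ← Category.assoc k, comp_act, comp_act,
      ← Category.assoc k y, hy, action_pt]
    let x : (Over.map f).obj W ⟶ P := (he f).symm y'
    have hx : he f x = y' := Equiv.apply_symm_apply _ _
    have e1 : (Over.map f).map y' ≫ fstBase f P = x := Over.OverMorphism.ext (by rw [← hx]; exact he_fst f x)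
    rw [e1, ← hx, AlgGrp.Action.lift_homEquiv_bc_act]
    exact Over.OverMorphism.ext (he_fst f _)

variable (z : S ⟶ A) (hz : z ≫ f = 𝟙 S)

/-- Points of the group seen through a section. -/
def secGrp : G ⟶ Red.bc z (Red.bc f G) :=
  he z (W := G) (he f (Over.homMk (V := G) (U := (Over.map f).obj ((Over.map z).obj G)) (𝟙 G.left) (by
    show 𝟙 _ ≫ G.hom = (G.hom ≫ z) ≫ f
    rw [Category.id_comp, Category.assoc, hz, Category.comp_id])))

/-- The comparison along a section. -/
def secObj (T : Over S) : (Over.map f).obj ((Over.map z).obj T) ⟶ T :=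
  Over.homMk (𝟙 T.left) (by
    show 𝟙 _ ≫ T.hom = (T.hom ≫ z) ≫ f
    rw [Category.id_comp, Category.assoc, hz, Category.comp_id])

omit [GrpObj G] in
theorem comp_secGrp {T : Over S} (g : T ⟶ G) : g ≫ secGrp f z hz = he z (he f (secObj f z hz T ≫ g)) := by
  show g ≫ he z (he f (secObj f z hz G)) = _
  rw [he, he, ← Adjunction.homEquiv_naturality_left, ← Adjunction.homEquiv_naturality_left]
  congr 2

theorem isMonHom_secGrp : IsMonHom (secGrp f z hz (G := G)) where
  mul_hom := AlgGrp.Action.hom_ext_lift₂ fun T p q => by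
    rw [lift_map_assoc, ← Category.assoc, ← Hom.mul_def, ← Hom.mul_def, comp_secGrp, comp_secGrp, comp_secGrp,
      MonObj.comp_mul]
    exact (congrArg (he z) ((heHom f _).map_mul _ _)).trans ((heHom z _).map_mul _ _)
  one_hom := by
    have h1 : (1 : 𝟙_ (Over S) ⟶ G) = η := by rw [Hom.one_def, toUnit_unique (toUnit _) (𝟙 _), Category.id_comp]
    have h1' : (1 : 𝟙_ (Over S) ⟶ Red.bc z (Red.bc f G)) = η := by
      rw [Hom.one_def, toUnit_unique (toUnit _) (𝟙 _), Category.id_comp]
    rw [← h1, ← h1', comp_secGrp, MonObj.comp_one]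
    exact (congrArg (he z) (heHom f _).map_one).trans (heHom z _).map_one

theorem isIso_secGrp : IsIso (secGrp f z hz (G := G)) := by
  let m : Red.bc z (Red.bc f G) ⟶ G :=
    Over.homMk (pullback.fst _ z ≫ pullback.fst G.hom f) (by
      rw [Category.assoc, pullback.condition, ← Category.assoc]
      exact (congrArg (· ≫ f) pullback.condition).trans (by rw [Category.assoc, hz, Category.comp_id]; rfl))
  have h1 : secGrp f z hz ≫ m = 𝟙 G := Over.OverMorphism.ext (by
    show (secGrp f z hz).left ≫ pullback.fst _ z ≫ pullback.fst G.hom f = 𝟙 G.left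
    rw [← Category.assoc]
    exact (congrArg (· ≫ pullback.fst G.hom f) (he_fst z _)).trans (he_fst f _))
  refine ⟨m, h1, Over.OverMorphism.ext ?_⟩
  refine pullback.hom_ext (pullback.hom_ext ?_ ?_) ((Over.w (m ≫ secGrp f z hz)).trans (Category.id_comp _).symm)
  · exact (Category.assoc _ _ _).trans ((Category.assoc _ _ _).trans ((congrArg (m.left ≫ ·)
      ((Category.assoc _ _ _).symm.trans ((congrArg (· ≫ pullback.fst G.hom f) (he_fst z _)).trans (he_fst f _)))).trans
        ((Category.comp_id _).trans (congrArg (· ≫ pullback.fst G.hom f) (Category.id_comp _)).symm)))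
  · have hh : ((secGrp f z hz).left ≫ pullback.fst (Red.bc f G).hom z) ≫ (Red.bc f G).hom = G.hom ≫ z :=
      (congrArg (· ≫ (Red.bc f G).hom) (he_fst z _)).trans (Over.w (he f _))
    refine (Category.assoc _ _ _).trans ((Category.assoc _ _ _).trans ((congrArg (m.left ≫ ·)
      ((Category.assoc _ _ _).symm.trans hh)).trans ?_))
    refine (Category.assoc _ _ _).symm.trans ((congrArg (· ≫ z) (Over.w m)).trans ?_)
    exact (pullback.condition (f := (Red.bc f G).hom) (g := z)).symm.trans
      (congrArg (· ≫ (Red.bc f G).hom) (Category.id_comp _)).symm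

/-- The restriction of a torsor along a section, as an object with an action of the group. -/
def secAct : AlgGrp.Action G (Red.bc z Q) :=
  haveI := isMonHom_secGrp f z hz (G := G)
  (a.bc z).restrict (secGrp f z hz)

/-- The inclusion of the restriction along a section. -/
def secMor (Q : Over A) : Red.bc z Q ⟶ (Over.map f).obj Q :=
  Over.homMk (pullback.fst Q.hom z) (by
    show pullback.fst Q.hom z ≫ Q.hom ≫ f = pullback.snd Q.hom z
    rw [← Category.assoc, pullback.condition, Category.assoc, hz, Category.comp_id])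

theorem secMor_equivariant :
    (secAct f a z hz).act ≫ secMor f z hz Q = (G ◁ secMor f z hz Q) ≫ (action f a).act :=
  AlgGrp.Action.hom_ext_lift₂ fun T g y => by
    have := isMonHom_secGrp f z hz (G := G)
    let W' : Over A := (Over.map z).obj T
    let k' : (Over.map f).obj W' ⟶ T := secObj f z hz T
    have : IsIso ((Over.forget S).map k') := inferInstanceAs (IsIso (𝟙 T.left))
    have : IsIso k' := isIso_of_reflects_iso k' (Over.forget S)
    let xA : W' ⟶ Q := ((Over.mapPullbackAdj z).homEquiv T Q).symm y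
    have hxA : xA.left = y.left ≫ pullback.fst Q.hom z := by
      have := he_fst z xA
      rw [show he z xA = y from Equiv.apply_symm_apply _ _] at this
      exact this.symm
    have e1 : k' ≫ y ≫ secMor f z hz Q = (Over.map f).map xA :=
      Over.OverMorphism.ext ((Category.id_comp _).trans hxA.symm)
    have e2 : lift g y ≫ (secAct f a z hz).act = he z (lift (he f (k' ≫ g)) xA ≫ a.act) := by
      rw [secAct, AlgGrp.Action.restrict_act, lift_whiskerRight_assoc, comp_secGrp,
        ← AlgGrp.Action.lift_homEquiv_bc_act, show he z xA = y from Equiv.apply_symm_apply _ _]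
    rw [lift_whiskerLeft_assoc, ← Category.assoc, e2, ← cancel_epi k', comp_act, e1, action_pt]
    exact Over.OverMorphism.ext ((Category.id_comp _).trans (he_fst z _))

end direct

theorem isPseudoTorsor_restrict {H : Over S} [GrpObj H] {X : Over S} (φ : H ⟶ G) [IsMonHom φ] [IsIso φ]
    {b : AlgGrp.Action G X} (hb : NonAbH1.IsPseudoTorsorSch b) : NonAbH1.IsPseudoTorsorSch (b.restrict φ) := by
  refine isPseudoTorsor_of_points _ fun T x y => ?_
  obtain ⟨g, hg⟩ := SchTorsor.exists_div hb x y
  refine ⟨g ≫ inv φ, ?_, fun g' hg' => ?_⟩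
  · show _ = _
    rw [AlgGrp.Action.restrict_act, lift_whiskerRight_assoc, Category.assoc, IsIso.inv_hom_id, Category.comp_id, hg]
  · rw [IsIso.eq_comp_inv]
    refine SchTorsor.act_free hb (y := y) ?_
    rw [hg, ← hg', AlgGrp.Action.restrict_act, lift_whiskerRight_assoc]

end Groth.Agent.NonAbLib.Rel
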