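import Groth.Agent.NonAbLib.ZariskiGlue
import Groth.Agent.NonAbLib.RelTorsor
import Groth.Agent.NonAbLib.FinGal.Pts
import Mathlib.Algebra.Polynomial.AlgebraMap
import Mathlib.RingTheory.Localization.Away.Basic
import Mathlib.RingTheory.FiniteType
import Mathlib.AlgebraicGeometry.Morphisms.FiniteType

/-!
# A non-trivial torsor under every non-trivial affine group of finite type

Inside `R[t]`, `R` the functions on `G`, the subalgebra `S = k[t, t·rᵢ]` becomes all of `R[t, 1/t]`
when `t` is inverted; two copies of `Spec S` glued along `Spec S_t` carry the torsor glued by the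
projection to `G`.
-/

set_option autoImplicit false
set_option linter.style.haveILetI false

universe u

open CategoryTheory CategoryTheory.Limits MonoidalCategory CartesianMonoidalCategory MonObj GrpObj AlgebraicGeometry
open Polynomial Groth.Agent.H84WeilRes

noncomputable section

namespace Groth.Agent.NonAbLib.ContractLine

section Algebra

variable (k R : Type u) [Field k] [CommRing R] [Algebra k R]

/-- The contracted line. -/
theorem exists_contraction [Algebra.FiniteType k R] :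
    ∃ (S : Type u) (_ : CommRing S) (_ : Algebra k S) (_ : Algebra.FiniteType k S) (x : S) (φ : R →ₐ[k] Localization.Away x),
      ∀ ψ : R →ₐ[k] S, (IsScalarTower.toAlgHom k S (Localization.Away x)).comp ψ = φ →
        Function.Surjective (algebraMap k R) := by
  classical
  obtain ⟨s, hs⟩ := Algebra.FiniteType.out (R := k) (A := R)
  let C' : R →ₐ[k] R[X] := IsScalarTower.toAlgHom k R R[X]
  let gens : Finset R[X] := insert X (s.image fun r => C r * X)
  let S : Subalgebra k R[X] := Algebra.adjoin k (gens : Set R[X])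
  haveI : Algebra.FiniteType k S := ⟨(Subalgebra.fg_top S).mpr ⟨gens, rfl⟩⟩
  let x : S := ⟨X, Algebra.subset_adjoin (by simp [gens])⟩
  let L := Localization.Away x
  let L' := Localization.Away (X : R[X])
  haveI : IsLocalization.Away (S.val.toRingHom x) L' := inferInstanceAs (IsLocalization.Away (X : R[X]) L')
  let j : L →+* L' := IsLocalization.Away.map L L' S.val.toRingHom x
  haveI : IsLocalization ((Submonoid.powers x).map S.val.toRingHom) L' := by
    rw [Submonoid.map_powers]; infer_instance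
  have hj : Function.Injective j :=
    IsLocalization.map_injective_of_injective (g := S.val.toRingHom) (Submonoid.powers x) L L' Subtype.val_injective
  have hjS : ∀ a : S, j (algebraMap S L a) = algebraMap R[X] L' a.1 := fun a => IsLocalization.map_eq _ a
  let j' : L →ₐ[k] L' := { j with
    commutes' := fun c => by
      show j (algebraMap k L c) = algebraMap k L' c
      rw [IsScalarTower.algebraMap_apply k S L, hjS, Subalgebra.coe_algebraMap, ← IsScalarTower.algebraMap_apply] }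
  let iR : R →ₐ[k] L' := (IsScalarTower.toAlgHom k R[X] L').comp C'
  have hrange : ∀ r, iR r ∈ j'.range := by
    intro r
    have hr : r ∈ (⊤ : Subalgebra k R) := trivial
    rw [← hs] at hr
    suffices h : Algebra.adjoin k (s : Set R) ≤ j'.range.comap iR from h hr
    refine Algebra.adjoin_le fun r hr => ?_
    let y : S := ⟨C r * X, Algebra.subset_adjoin (by simp [gens]; exact Or.inr ⟨r, hr, rfl⟩)⟩
    refine ⟨algebraMap S L y * IsLocalization.Away.invSelf x, ?_⟩
    show j (algebraMap S L y * _) = algebraMap R[X] L' (C r)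
    have h1 := congrArg j (IsLocalization.Away.mul_invSelf (S := L) x)
    rw [map_mul, map_one, hjS] at h1
    rw [map_mul, hjS, show (y.1 : R[X]) = C r * X from rfl, map_mul, _root_.mul_assoc]
    exact (congrArg _ h1).trans (mul_one _)
  let φ : R →ₐ[k] L := (AlgEquiv.ofInjective j' hj).symm.toAlgHom.comp (iR.codRestrict j'.range hrange)
  refine ⟨S, inferInstance, inferInstance, inferInstance, x, φ, fun ψ hψ r => ?_⟩
  have h1 : algebraMap R[X] L' (ψ r).1 = algebraMap R[X] L' (C r) := by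
    rw [← hjS, show algebraMap S L (ψ r) = φ r from AlgHom.congr_fun hψ r]
    exact congrArg Subtype.val ((AlgEquiv.ofInjective j' hj).apply_symm_apply _)
  have h2 : (ψ r).1 = C r := by
    refine IsLocalization.injective (M := Submonoid.powers (X : R[X])) L' ?_ h1
    rintro _ ⟨n, rfl⟩
    rw [mem_nonZeroDivisors_iff_right]
    exact fun z hz => Polynomial.ext fun m => by simpa using congrArg (coeff · (m + n)) hz
  let ev : R[X] →ₐ[k] R := (Polynomial.aeval (0 : R)).restrictScalars k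
  have h3 : S ≤ (⊥ : Subalgebra k R).comap ev := by
    refine Algebra.adjoin_le fun g hg => ?_
    simp only [gens, Finset.coe_insert, Set.mem_insert_iff, Finset.coe_image, Set.mem_image] at hg
    show ev g ∈ (⊥ : Subalgebra k R)
    rcases hg with rfl | ⟨r, -, rfl⟩ <;> simp [ev]
  have h4 : ev (C r) ∈ (⊥ : Subalgebra k R) := h2 ▸ h3 (ψ r).2
  obtain ⟨c, hc⟩ := Algebra.mem_bot.1 h4
  exact ⟨c, by simpa [ev] using hc⟩

end Algebra

/-- The scheme with two copies of `Y` glued along an open. -/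
theorem exists_double {B U Y : Scheme.{u}} (u : U ⟶ Y) [IsOpenImmersion u] (y : Y ⟶ B) :
    ∃ (T : Scheme.{u}) (t : T ⟶ B) (i₁ i₂ : Y ⟶ T), IsOpenImmersion i₁ ∧ IsOpenImmersion i₂ ∧
      (∀ p : T, p ∈ Set.range ⇑i₁ ∨ p ∈ Set.range ⇑i₂) ∧ i₁ ≫ t = y ∧ i₂ ≫ t = y ∧ u ≫ i₁ = u ≫ i₂ ∧
      ∀ {Z : Scheme.{u}} (a b : Z ⟶ Y), a ≫ i₁ = b ≫ i₂ → ∃ c : Z ⟶ U, c ≫ u = a ∧ c ≫ u = b := by
  let i₁ : Y ⟶ pushout u u := pushout.inl u u
  let i₂ : Y ⟶ pushout u u := pushout.inr u u
  have hi₁ : IsOpenImmersion i₁ := inferInstanceAs (IsOpenImmersion (colimit.ι (span u u) WalkingSpan.left))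
  have hi₂ : IsOpenImmersion i₂ := inferInstanceAs (IsOpenImmersion (colimit.ι (span u u) WalkingSpan.right))
  have hu : u ≫ i₁ = u ≫ i₂ := pushout.condition
  refine ⟨pushout u u, pushout.desc y y rfl, i₁, i₂, hi₁, hi₂, fun p => ?_, pushout.inl_desc _ _ _,
    pushout.inr_desc _ _ _, hu, fun {Z} a b hab => ?_⟩
  · obtain ⟨j, z, hz⟩ := Scheme.IsLocallyDirected.ι_jointly_surjective (span u u) p
    rcases j with _ | (_ | _)
    · refine Or.inl ⟨u z, ?_⟩
      rw [← hz, ← colimit.w (span u u) WalkingSpan.Hom.fst]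
      rfl
    · exact Or.inl ⟨z, hz⟩
    · exact Or.inr ⟨z, hz⟩
  · have hsub : Set.range ⇑a ⊆ Set.range ⇑u := by
      rintro _ ⟨z, rfl⟩
      have h : colimit.ι (span u u) WalkingSpan.left (a z) = colimit.ι (span u u) WalkingSpan.right (b z) :=
        congrArg (fun m : Z ⟶ pushout u u => m z) hab
      obtain ⟨l, fi, fj, w, hw, -⟩ := (Scheme.IsLocallyDirected.ι_eq_ι_iff _).1 h
      rcases l with _ | (_ | _)
      · cases fi
        exact ⟨w, hw⟩
      · cases fj
      · cases fi
    refine ⟨IsOpenImmersion.lift u a hsub, IsOpenImmersion.lift_fac _ _ _, (cancel_mono i₂).1 ?_⟩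
    rw [Category.assoc, ← hu, ← Category.assoc, IsOpenImmersion.lift_fac, hab]

open Rel (he heHom)

/-- A non-trivial torsor. -/
theorem exists_nontrivial {k : Type u} [Field k] (G : Over (Spec (CommRingCat.of k))) [GrpObj G]
    [IsAffineHom G.hom] [LocallyOfFiniteType G.hom] (hG : ¬ IsIso G.hom) :
    ∃ (T : Scheme.{u}) (f : T ⟶ Spec (CommRingCat.of k)), LocallyOfFiniteType f ∧ QuasiCompact f ∧
      ∃ P : NonAbH1.TorsorSch (Red.bc f G) Scheme.fppfPrecoverage, ¬ NonAbH1.HasSectionOver P.X (𝟙 T) := by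
  haveI : IsAffine G.left := isAffine_of_isAffineHom G.hom
  let ψ₀ := Spec.preimage (G.left.isoSpec.inv ≫ G.hom)
  let R : Type u := Γ(G.left, ⊤)
  letI : Algebra k R := ψ₀.hom.toAlgebra
  let eG : G ≅ spec k R := Over.isoMk G.left.isoSpec (by
    change G.left.isoSpec.hom ≫ Spec.map ψ₀ = G.hom
    rw [Spec.map_preimage, Iso.hom_inv_id_assoc])
  have heG : IsIso eG.hom.left := (Over.forget _).map_isIso eG.hom
  haveI : Algebra.FiniteType k R := by
    have h : LocallyOfFiniteType (spec k R).hom := by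
      rw [← MorphismProperty.cancel_left_of_respectsIso @LocallyOfFiniteType eG.hom.left, Over.w eG.hom]
      infer_instance
    exact RingHom.finiteType_algebraMap.1 ((HasRingHomProperty.Spec_iff (P := @LocallyOfFiniteType)).1 h)
  obtain ⟨S, _, _, _, x, φ, hφ⟩ := exists_contraction k R
  let u : Spec (CommRingCat.of (Localization.Away x)) ⟶ Spec (CommRingCat.of S) :=
    Spec.map (CommRingCat.ofHom (algebraMap S (Localization.Away x)))
  haveI : IsOpenImmersion u := IsOpenImmersion.of_isLocalization x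
  obtain ⟨T, f, i₁, i₂, _, _, hcov, hf₁, hf₂, hu, hlift⟩ := exists_double u (spec k S).hom
  refine ⟨T, f, ?_, ?_, ?_⟩
  · haveI : LocallyOfFiniteType (spec k S).hom :=
      (HasRingHomProperty.Spec_iff (P := @LocallyOfFiniteType)).mpr (RingHom.finiteType_algebraMap.mpr inferInstance)
    let 𝒰 : T.OpenCover := Scheme.Cover.mkOfCovers (ULift.{u} Bool) (fun _ => Spec (CommRingCat.of S))
      (fun b => match b with
        | ⟨true⟩ => i₁
        | ⟨false⟩ => i₂)
      (fun p => by
        rcases hcov p with ⟨z, hz⟩ | ⟨z, hz⟩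
        · exact ⟨⟨true⟩, z, hz⟩
        · exact ⟨⟨false⟩, z, hz⟩)
      (fun b => match b with
        | ⟨true⟩ => inferInstanceAs (IsOpenImmersion i₁)
        | ⟨false⟩ => inferInstanceAs (IsOpenImmersion i₂))
    refine IsZariskiLocalAtSource.of_openCover 𝒰 fun b => ?_
    rcases b with ⟨_ | _⟩
    · show LocallyOfFiniteType (i₂ ≫ f)
      rw [hf₂]; infer_instance
    · show LocallyOfFiniteType (i₁ ≫ f)
      rw [hf₁]; infer_instance
  · rw [quasiCompact_iff_compactSpace]
    refine ⟨?_⟩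
    rw [show (Set.univ : Set T) = Set.range ⇑i₁ ∪ Set.range ⇑i₂ from (Set.eq_univ_of_forall hcov).symm]
    exact (isCompact_range i₁.continuous).union (isCompact_range i₂.continuous)
  let H := Red.bc f G
  let V₁ : Over T := Over.mk i₁
  let V₂ : Over T := Over.mk i₂
  obtain ⟨c, hc₁, hc₂⟩ := hlift (fst V₁ V₂).left (snd V₁ V₂).left ((Over.w _).trans (Over.w _).symm)
  let U' : Over T := Over.mk (u ≫ i₁)
  let θ : U' ⟶ V₁ ⊗ V₂ := lift (Over.homMk (U := U') (V := V₁) u rfl) (Over.homMk (U := U') (V := V₂) u hu.symm)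
  let κ : (Over.map f).obj (V₁ ⊗ V₂) ⟶ spec k (Localization.Away x) := Over.homMk c (by
    show c ≫ Spec.map (CommRingCat.ofHom (algebraMap k (Localization.Away x))) = (V₁ ⊗ V₂).hom ≫ f
    rw [show CommRingCat.ofHom (algebraMap k (Localization.Away x)) =
      CommRingCat.ofHom (algebraMap k S) ≫ CommRingCat.ofHom (algebraMap S (Localization.Away x)) from
      CommRingCat.hom_ext (IsScalarTower.algebraMap_eq k S _), Spec.map_comp, ← Category.assoc, hc₁,
      ← Over.w (fst V₁ V₂), Category.assoc]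
    exact congrArg ((fst V₁ V₂).left ≫ ·) hf₁.symm)
  let φG : spec k (Localization.Away x) ⟶ G := FinGal.specEquiv φ ≫ eG.inv
  let σ : V₁ ⊗ V₂ ⟶ H ⊗ V₂ := lift (he f (κ ≫ φG)) (snd _ _)
  let a₂ : AlgGrp.Action H (H ⊗ V₂) :=
    { act := lift (fst _ _ * (snd _ _ ≫ fst _ _)) (snd _ _ ≫ snd _ _)
      one_act := AlgGrp.Action.hom_ext_lift₂ fun W v y => by
        rw [lift_whiskerRight_assoc, lift_leftUnitor_hom,
          show v ≫ η[H] = (1 : W ⟶ H) by rw [Hom.one_def, toUnit_unique (toUnit W) v]]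
        apply CartesianMonoidalCategory.hom_ext <;> simp [comp_lift, MonObj.comp_mul]
      mul_act := AlgGrp.Action.hom_ext_lift₃ fun W g g' y => by
        rw [lift_whiskerRight_assoc, ← Hom.mul_def, lift_lift_associator_hom_assoc, lift_whiskerLeft_assoc]
        apply CartesianMonoidalCategory.hom_ext <;> simp [comp_lift, MonObj.comp_mul, _root_.mul_assoc] }
  have ha : ∀ {W : Over T} (g : W ⟶ H) (y : W ⟶ H ⊗ V₂),
      lift g y ≫ a₂.act = lift (g * (y ≫ fst _ _)) (y ≫ snd _ _) := fun g y => by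
    simp [a₂, comp_lift, MonObj.comp_mul]
  have h₂ : NonAbH1.IsPseudoTorsorSch a₂ := isPseudoTorsor_of_points a₂ fun W v w => by
    refine ⟨(v ≫ fst _ _) * (w ≫ fst _ _)⁻¹, ?_, fun g hg => ?_⟩
    · show lift _ w ≫ a₂.act = v
      rw [ha, inv_mul_cancel_right]
      apply CartesianMonoidalCategory.hom_ext
      · simp
      · exact ZariskiGlue.sub_unique i₂ _ _
    · have := congrArg (· ≫ fst H V₂) hg
      simp only [ha, lift_fst] at this
      rw [← this, mul_inv_cancel_right]
  obtain ⟨E, s₁, e, he₂, hov, hE⟩ := ZariskiGlue.exists_torsor' i₁ i₂ hcov a₂ (snd H V₂) σ h₂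
    (𝟙 (Spec (CommRingCat.of S))) ⟨(lift (1 : V₂ ⟶ H) (𝟙 V₂)).left,
      (Over.w (lift (1 : V₂ ⟶ H) (𝟙 V₂))).trans (Category.id_comp i₂).symm⟩
  refine ⟨E, fun ⟨s, hs⟩ => hG ?_⟩
  let s' : 𝟙_ (Over T) ⟶ E.X := Over.homMk s hs
  obtain ⟨y, hy⟩ := hE (toUnit V₂ ≫ s') (𝟙 _)
  obtain ⟨g₁, hg₁⟩ := SchTorsor.exists_div E.isTorsor.1 (toUnit V₁ ≫ s') s₁
  -- on the overlap the projection is a quotient of maps defined on the two pieces
  have hrel : fst V₁ V₂ ≫ g₁ * he f (κ ≫ φG) = snd V₁ V₂ ≫ y ≫ fst H V₂ := by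
    have e₁ : (lift (fst V₁ V₂ ≫ g₁) σ ≫ a₂.act) ≫ e = (snd V₁ V₂ ≫ y) ≫ e := by
      rw [Category.assoc, he₂, lift_whiskerLeft_assoc, ← hov, ← comp_lift_assoc, hg₁, Category.assoc, hy,
        ← Category.assoc, ← Category.assoc]
      exact congrArg (· ≫ s') (toUnit_unique _ _)
    obtain ⟨g, hg⟩ := SchTorsor.exists_div h₂ (lift (fst V₁ V₂ ≫ g₁) σ ≫ a₂.act) (snd V₁ V₂ ≫ y)
    have hg1 : g = 1 := by
      refine SchTorsor.act_free E.isTorsor.1 (y := (snd V₁ V₂ ≫ y) ≫ e) ?_
      rw [SchTorsor.one_act_pt, ← lift_whiskerLeft_assoc, ← he₂, ← Category.assoc, hg, e₁]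
    rw [hg1, SchTorsor.one_act_pt, ha] at hg
    have := congrArg (· ≫ fst H V₂) hg
    simp only [lift_fst, σ, Category.assoc] at this
    exact this.symm
  -- read over the field
  obtain ⟨ĝ, rfl⟩ := (he f).surjective g₁
  obtain ⟨ĥ, hh⟩ := (he f).surjective (y ≫ fst H V₂)
  have hmul : heHom f (G := G) (V₁ ⊗ V₂) ((Over.map f).map (fst V₁ V₂) ≫ ĝ * (κ ≫ φG)) =
      heHom f (G := G) (V₁ ⊗ V₂) ((Over.map f).map (snd V₁ V₂) ≫ ĥ) := by
    rw [map_mul]
    show he f _ * he f _ = he f _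
    rw [(Over.mapPullbackAdj f).homEquiv_naturality_left, (Over.mapPullbackAdj f).homEquiv_naturality_left]
    exact hrel.trans (congrArg (snd V₁ V₂ ≫ ·) hh.symm)
  have hk := (he f).injective hmul
  let j₁ : spec k S ⟶ (Over.map f).obj V₁ := Over.homMk (𝟙 _) ((Category.id_comp _).trans hf₁)
  let j₂ : spec k S ⟶ (Over.map f).obj V₂ := Over.homMk (𝟙 _) ((Category.id_comp _).trans hf₂)
  let sU : spec k (Localization.Away x) ⟶ spec k S :=
    FinGal.specEquiv (IsScalarTower.toAlgHom k S (Localization.Away x))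
  let v : spec k (Localization.Away x) ⟶ (Over.map f).obj (V₁ ⊗ V₂) := Over.homMk θ.left (by
    show θ.left ≫ (V₁ ⊗ V₂).hom ≫ f = Spec.map (CommRingCat.ofHom (algebraMap k (Localization.Away x)))
    rw [← Category.assoc, Over.w θ]
    show (u ≫ i₁) ≫ f = _
    rw [Category.assoc, hf₁, show CommRingCat.ofHom (algebraMap k (Localization.Away x)) =
      CommRingCat.ofHom (algebraMap k S) ≫ CommRingCat.ofHom (algebraMap S (Localization.Away x)) from
      CommRingCat.hom_ext (IsScalarTower.algebraMap_eq k S _), Spec.map_comp]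
    rfl)
  have hθ₁ : θ.left ≫ (fst V₁ V₂).left = u :=
    (Over.comp_left _ _ _ _ _).symm.trans (congrArg Over.Hom.left (lift_fst _ _))
  have hθ₂ : θ.left ≫ (snd V₁ V₂).left = u :=
    (Over.comp_left _ _ _ _ _).symm.trans (congrArg Over.Hom.left (lift_snd _ _))
  have hv₁ : v ≫ (Over.map f).map (fst V₁ V₂) = sU ≫ j₁ :=
    Over.OverMorphism.ext (hθ₁.trans (Category.comp_id u).symm)
  have hv₂ : v ≫ (Over.map f).map (snd V₁ V₂) = sU ≫ j₂ :=
    Over.OverMorphism.ext (hθ₂.trans (Category.comp_id u).symm)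
  have hvκ : v ≫ κ = 𝟙 _ := Over.OverMorphism.ext ((cancel_mono u).1 (by
    show (θ.left ≫ c) ≫ u = 𝟙 _ ≫ u
    rw [Category.assoc, hc₁, hθ₁, Category.id_comp]))
  have hkey : φG = sU ≫ ((j₁ ≫ ĝ)⁻¹ * (j₂ ≫ ĥ)) := by
    have := congrArg (v ≫ ·) hk
    simp only [MonObj.comp_mul, reassoc_of% hv₁, reassoc_of% hv₂, reassoc_of% hvκ] at this
    rw [MonObj.comp_mul, GrpObj.comp_inv, ← this, inv_mul_cancel_left]
  obtain ⟨ψ, hψ⟩ := FinGal.specEquiv.surjective (((j₁ ≫ ĝ)⁻¹ * (j₂ ≫ ĥ)) ≫ eG.hom)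
  have hsurj := hφ ψ (FinGal.specEquiv.injective (by
    rw [FinGal.specEquiv_comp, hψ, ← Category.assoc, ← hkey]
    simp [φG]))
  -- so `G` is trivial
  haveI : Nontrivial R := PrimeSpectrum.nonempty_iff_nontrivial.1
    ⟨G.left.isoSpec.hom (η[G].left (default : PrimeSpectrum k))⟩
  haveI : IsIso (CommRingCat.ofHom (algebraMap k R)) :=
    (ConcreteCategory.isIso_iff_bijective _).2 ⟨(algebraMap k R).injective, hsurj⟩
  haveI : IsIso (spec k R).hom :=
    inferInstanceAs (IsIso (Spec.map (CommRingCat.ofHom (algebraMap k R))))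
  rw [← Over.w eG.hom]
  infer_instance

end Groth.Agent.NonAbLib.ContractLine
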