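import Groth.Prelude.Def_NonAbH2
import Groth.Agent.SchTorsor.Basic
import Mathlib.AlgebraicGeometry.Sites.Proetale
import Mathlib.AlgebraicGeometry.Morphisms.FinitePresentation

/-!
# Formal lemmas on torsors as schemes: coverings, points, monomorphisms
-/

universe u

open CategoryTheory CategoryTheory.Limits MonoidalCategory CartesianMonoidalCategory MonObj GrpObj AlgebraicGeometry

namespace Groth.Agent.NonAbLib

variable {S : Scheme.{u}}

theorem etale_le_fpqc : Scheme.etalePrecoverage.{u} ≤ Scheme.fpqcPrecoverage :=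
  Scheme.etalePrecoverage_le_proetalePrecoverage.trans Scheme.proetalePrecoverage_le_fpqcPrecoverage

theorem fppf_le_fpqc : Scheme.fppfPrecoverage.{u} ≤ Scheme.fpqcPrecoverage :=
  Scheme.fppfPrecoverage_le_fpqcPrecoverage

theorem locTriv_mono {K K' : Precoverage Scheme.{u}} (h : K ≤ K') {X : Over S}
    (hX : NonAbH1.IsLocallyTrivialFor K X) : NonAbH1.IsLocallyTrivialFor K' X := by
  obtain ⟨R, hR, hs⟩ := hX
  exact ⟨R, h S hR, hs⟩

theorem torsor_mono {K K' : Precoverage Scheme.{u}} (h : K ≤ K') {G X : Over S} [GrpObj G]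
    {a : AlgGrp.Action G X} (ha : NonAbH1.IsTorsorFor K a) : NonAbH1.IsTorsorFor K' a :=
  ⟨ha.1, locTriv_mono h ha.2⟩

/-- A covering family of `P`-morphisms can be replaced by one surjective `P`-morphism. -/
theorem exists_single_of_mem (P : MorphismProperty Scheme.{u})
    (hσ : ∀ {α : Type u} {U : α → Scheme.{u}} {f : ∀ i, U i ⟶ S}, (∀ i, P (f i)) → P (Sigma.desc f))
    {R : Presieve S}
    (hR : R ∈ Scheme.precoverage P S) {X : Over S}
    (hsec : ∀ ⦃S' : Scheme.{u}⦄ (f : S' ⟶ S), R f → NonAbH1.HasSectionOver X f) :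
    ∃ (Z : Scheme.{u}) (p : Z ⟶ S), Surjective p ∧ P p ∧ NonAbH1.HasSectionOver X p := by
  obtain ⟨J, U, v, rfl⟩ := R.exists_eq_ofArrows
  obtain ⟨hcov, hP⟩ := (Scheme.ofArrows_mem_precoverage_iff _).1 hR
  choose i y hy using hcov
  choose sec hsec' using fun s : S => hsec (v (i s)) (.mk (i s))
  refine ⟨∐ fun s : S => U (i s), Sigma.desc fun s => v (i s), ⟨fun s => ?_⟩,
    hσ fun s => hP _, Sigma.desc sec, ?_⟩
  · refine ⟨Sigma.ι (fun s : S => U (i s)) s (y s), ?_⟩
    rw [← Scheme.Hom.comp_apply, Sigma.ι_desc]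
    exact hy s
  · refine Sigma.hom_ext _ _ fun s => ?_
    rw [Sigma.ι_desc_assoc, Sigma.ι_desc]
    exact hsec' s

/-- Squares of schemes over `S` are cartesian as soon as they are cartesian on points. -/
theorem isPullback_of_points {P A B C : Over S} {f : P ⟶ A} {g : P ⟶ B} {p : A ⟶ C} {q : B ⟶ C}
    (w : f ≫ p = g ≫ q)
    (h : ∀ (T : Over S) (a : T ⟶ A) (b : T ⟶ B), a ≫ p = b ≫ q → ∃! t : T ⟶ P, t ≫ f = a ∧ t ≫ g = b) :
    IsPullback f g p q := by
  refine IsPullback.of_isLimit' ⟨w⟩ (PullbackCone.IsLimit.mk _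
    (fun s => (h s.pt s.fst s.snd s.condition).choose)
    (fun s => (h s.pt s.fst s.snd s.condition).choose_spec.1.1)
    (fun s => (h s.pt s.fst s.snd s.condition).choose_spec.1.2)
    fun s m h1 h2 => (h s.pt s.fst s.snd s.condition).choose_spec.2 m ⟨h1, h2⟩)

/-- A pseudo-torsor is an action which is simply transitive on points. -/
theorem isPseudoTorsor_of_points {G X : Over S} [GrpObj G] (a : AlgGrp.Action G X)
    (h : ∀ (T : Over S) (x y : T ⟶ X), ∃! g : T ⟶ G, lift g y ≫ a.act = x) :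
    NonAbH1.IsPseudoTorsorSch a := by
  obtain ⟨g, hg, -⟩ := h (X ⊗ X) (fst X X) (snd X X)
  refine ⟨lift g (snd X X), ?_, ?_⟩
  · apply CartesianMonoidalCategory.hom_ext
    · rw [Category.assoc, lift_fst, Category.id_comp]
      refine (h _ a.act (snd G X)).unique ?_ ?_
      · have := congrArg (fun t => lift a.act (snd G X) ≫ t) hg
        simp only [comp_lift_assoc, lift_snd, lift_fst] at this
        exact this
      · rw [lift_fst_snd, Category.id_comp]
    · simp
  · apply CartesianMonoidalCategory.hom_ext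
    · simp [hg]
    · simp

/-- Local sections pull back along a comparison of the targets. -/
theorem locTriv_of {K : Precoverage Scheme.{u}} [K.IsStableUnderBaseChange] {U W U₀ Y₀ : Over S}
    (j : U ⟶ W) (j₀ : U₀ ⟶ Y₀) (h₀ : NonAbH1.IsLocallyTrivialFor K (Over.mk j₀.left : Over Y₀.left))
    (m : W ⟶ Y₀) (h : ∀ (T : Over S) (y : T ⟶ W) (v : T ⟶ U₀), v ≫ j₀ = y ≫ m → ∃ t : T ⟶ U, t ≫ j = y) :
    NonAbH1.IsLocallyTrivialFor K (Over.mk j.left : Over W.left) := by
  obtain ⟨R, hR, hsec⟩ := h₀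
  refine ⟨R.pullbackArrows m.left, Precoverage.pullbackArrows_mem m.left hR, ?_⟩
  intro T g hg
  obtain ⟨Z, f, hf⟩ := hg
  obtain ⟨s, hs⟩ := hsec f hf
  change s ≫ j₀.left = f at hs
  let T' : Over S := Over.mk (pullback.snd f m.left ≫ W.hom)
  let y : T' ⟶ W := Over.homMk (pullback.snd f m.left) rfl
  let v : T' ⟶ U₀ := Over.homMk (pullback.fst f m.left ≫ s) (by
    show (pullback.fst f m.left ≫ s) ≫ U₀.hom = pullback.snd f m.left ≫ W.hom
    rw [← Over.w j₀, Category.assoc, reassoc_of% hs, pullback.condition_assoc, Over.w m])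
  obtain ⟨t, ht⟩ := h T' y v (Over.OverMorphism.ext (by
    show (pullback.fst f m.left ≫ s) ≫ j₀.left = pullback.snd f m.left ≫ m.left
    rw [Category.assoc, hs, pullback.condition]))
  exact ⟨t.left, congrArg CommaMorphism.left ht⟩

/-- The same over the base scheme itself. -/
theorem locTriv_base_of {K : Precoverage Scheme.{u}} [K.IsStableUnderBaseChange] {X U₀ Y₀ : Over S}
    (j₀ : U₀ ⟶ Y₀) (h₀ : NonAbH1.IsLocallyTrivialFor K (Over.mk j₀.left : Over Y₀.left))
    (σ : 𝟙_ (Over S) ⟶ Y₀)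
    (h : ∀ (T : Over S) (v : T ⟶ U₀), v ≫ j₀ = toUnit T ≫ σ → Nonempty (T ⟶ X)) :
    NonAbH1.IsLocallyTrivialFor K X := by
  obtain ⟨R, hR, hsec⟩ := locTriv_of (toUnit X) j₀ h₀ σ fun T y v hv => by
    obtain ⟨t⟩ := h T v (by rw [hv, toUnit_unique y (toUnit T)])
    exact ⟨t, toUnit_unique _ _⟩
  exact ⟨R, hR, fun S' f hf => by
    obtain ⟨s, hs⟩ := hsec f hf
    refine ⟨s, ?_⟩
    rw [← Over.w (toUnit X)]
    simpa using hs⟩

end Groth.Agent.NonAbLib

namespace Groth.Agent.NonAbLib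

variable {S : Scheme.{u}}

theorem flat_lfp_sigmaDesc {α : Type u} {U : α → Scheme.{u}} {f : ∀ i, U i ⟶ S}
    (h : ∀ i, (@Flat ⊓ @LocallyOfFinitePresentation : MorphismProperty Scheme.{u}) (f i)) :
    (@Flat ⊓ @LocallyOfFinitePresentation : MorphismProperty Scheme.{u}) (Sigma.desc f) :=
  ⟨IsZariskiLocalAtSource.sigmaDesc fun i => (h i).1, IsZariskiLocalAtSource.sigmaDesc fun i => (h i).2⟩

/-- An fppf locally trivial scheme acquires a section over one fppf cover. -/
theorem exists_single_fppf {X : Over S} (h : NonAbH1.IsLocallyTrivialFor Scheme.fppfPrecoverage X) :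
    ∃ (Z : Scheme.{u}) (p : Z ⟶ S), Surjective p ∧ Flat p ∧ LocallyOfFinitePresentation p ∧
      NonAbH1.HasSectionOver X p := by
  obtain ⟨R, hR, hsec⟩ := h
  obtain ⟨Z, p, h1, h2, h3⟩ := exists_single_of_mem _ flat_lfp_sigmaDesc hR hsec
  exact ⟨Z, p, h1, h2.1, h2.2, h3⟩

end Groth.Agent.NonAbLib
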