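import Groth.Agent.H23.RatExtend
import Groth.Agent.SchTorsor.Props
import Groth.Agent.NonAbLib.TorsorSch
import Mathlib.RingTheory.DedekindDomain.IntegralClosure
import Mathlib.AlgebraicGeometry.Morphisms.Finite

/-!
# Proper schemes over Dedekind domains: extending points from the fraction field
-/

universe u

open CategoryTheory CategoryTheory.Limits AlgebraicGeometry Polynomial

namespace Groth.Agent.NonAbLib

/-- In an integrally closed local domain, a root of a polynomial with a unit coefficient is in the
ring or has its inverse in it. -/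
theorem mem_or_inv_mem_of_unit_coeff {A L : Type u} [CommRing A] [IsDomain A] [IsLocalRing A] [IsIntegrallyClosed A]
    [Field L] [Algebra A L] [IsFractionRing A L] (x : L) :
    ∀ (n : ℕ) (c : ℕ → A), ∑ i ∈ Finset.range (n + 1), algebraMap A L (c i) * x ^ i = 0 →
      (∃ i ≤ n, IsUnit (c i)) → (∃ a, algebraMap A L a = x) ∨ ∃ a, algebraMap A L a = x⁻¹ := by
  intro n
  induction n with
  | zero =>
    rintro c h ⟨i, hi, hu⟩
    obtain rfl : i = 0 := by omega
    simp at h
    exact absurd h hu.ne_zero
  | succ n ih =>
    rintro c h ⟨i, hi, hu⟩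
    let p : A[X] := ∑ i ∈ Finset.range (n + 2), monomial i (c i)
    have hp : aeval x p = 0 := by simpa [p, aeval_monomial] using h
    by_cases hn : IsUnit (c (n + 1))
    · left
      have hcn : p.coeff (n + 1) = c (n + 1) := by simp [p, coeff_monomial]
      have hdeg : p.natDegree = n + 1 := le_antisymm
        (natDegree_sum_le_of_forall_le _ _ fun j hj => (natDegree_monomial_le _).trans (by
          rw [Finset.mem_range] at hj; omega))
        (le_natDegree_of_ne_zero (by rw [hcn]; exact hn.ne_zero))
      obtain ⟨d, hd⟩ := hn.exists_left_inv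
      refine (IsIntegrallyClosed.isIntegral_iff (R := A)).1 ⟨C d * p, ?_, ?_⟩
      · refine monic_of_natDegree_le_of_coeff_eq_one (n + 1) ((natDegree_C_mul_le _ _).trans hdeg.le) ?_
        rw [coeff_C_mul, hcn, hd]
      · rw [← aeval_def, map_mul, hp, mul_zero]
    · have hi' : i ≤ n := by
        rcases Nat.eq_or_lt_of_le hi with rfl | h' <;> [exact absurd hu hn; omega]
      have hint : IsIntegral A (algebraMap A L (c (n + 1)) * x) := by
        have hcn : p.coeff (n + 1) = c (n + 1) := by simp [p, coeff_monomial]
        by_cases h0 : c (n + 1) = 0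
        · rw [h0, map_zero, zero_mul]; exact isIntegral_zero
        have hdeg : p.natDegree = n + 1 := le_antisymm
          (natDegree_sum_le_of_forall_le _ _ fun j hj => (natDegree_monomial_le _).trans (by
            rw [Finset.mem_range] at hj; omega))
          (le_natDegree_of_ne_zero (by rw [hcn]; exact h0))
        have := isIntegral_leadingCoeff_smul p x hp
        rwa [leadingCoeff, hdeg, hcn, Algebra.smul_def] at this
      obtain ⟨b, hb⟩ := (IsIntegrallyClosed.isIntegral_iff (R := A)).1 hint
      by_cases hbu : IsUnit b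
      · right
        obtain ⟨d, hd⟩ := hbu.exists_left_inv
        refine ⟨c (n + 1) * d, eq_inv_of_mul_eq_one_left ?_⟩
        rw [map_mul, mul_right_comm, ← hb, ← map_mul, mul_comm b, hd, map_one]
      refine ih (fun j => if j = n then c n + b else c j) ?_ ?_
      · rw [Finset.sum_range_succ] at h ⊢
        rw [Finset.sum_range_succ] at h
        rw [Finset.sum_congr rfl (fun j hj => by
          rw [if_neg (Finset.mem_range.1 hj).ne] : ∀ j ∈ Finset.range n,
            algebraMap A L (if j = n then c n + b else c j) * x ^ j = algebraMap A L (c j) * x ^ j)]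
        rw [if_pos rfl, map_add, hb]
        linear_combination h
      · by_cases hin : i = n
        · subst hin
          refine ⟨i, le_rfl, ?_⟩
          rw [if_pos rfl]
          by_contra hne
          have := IsLocalRing.nonunits_add (a := c i + b) (b := -b) hne (by simpa using hbu)
          exact this (by simpa using hu)
        · exact ⟨i, hi', by rw [if_neg hin]; exact hu⟩

/-- Local rings of the integral closure of a Dedekind domain in an algebraic extension are valuation
rings. -/
theorem valuationRing_of_dedekind {R A L : Type u} [CommRing R] [IsDedekindDomain R] [Field L] [Algebra R L]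
    [CommRing A] [IsDomain A] [IsLocalRing A] [IsIntegrallyClosed A]
    [Algebra A L] [IsFractionRing A L] [Algebra R A] [IsScalarTower R A L]
    (hRL : Function.Injective (algebraMap R L)) (halg : ∀ x : L, IsAlgebraic R x) : ValuationRing A := by
  let q : Ideal R := (IsLocalRing.maximalIdeal A).comap (algebraMap R A)
  rw [ValuationRing.iff_isInteger_or_isInteger A L]
  intro x
  let Rq := Localization.AtPrime q
  have hunit : ∀ r : q.primeCompl, IsUnit (algebraMap R A r) := fun r => by
    by_contra hne
    exact r.2 hne
  let ι : Rq →+* A := IsLocalization.lift hunit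
  have hι : ∀ r, ι (algebraMap R Rq r) = algebraMap R A r := fun r => IsLocalization.lift_eq _ r
  obtain ⟨p, hp0, hp⟩ := halg x
  -- divide by a coefficient of least valuation
  have hdvd : ∀ a b : Rq, a ∣ b ∨ b ∣ a := by
    by_cases hq : q = ⊥
    · intro a b
      by_cases ha : a = 0
      · exact Or.inr ⟨0, by rw [ha, mul_zero]⟩
      refine Or.inl (IsUnit.dvd ?_)
      obtain ⟨r, t, rfl⟩ := IsLocalization.exists_mk'_eq q.primeCompl a
      have hr : r ∈ q.primeCompl := fun h => ha (by
        rw [hq] at h
        rw [show r = 0 from h, IsLocalization.mk'_zero])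
      exact (IsLocalization.AtPrime.isUnit_mk'_iff Rq q r t).2 hr
    · have : IsDiscreteValuationRing Rq :=
        IsLocalization.AtPrime.isDiscreteValuationRing_of_dedekind_domain R hq Rq
      exact fun a b => ValuationRing.dvd_total a b
  let cR : ℕ → Rq := fun i => algebraMap R Rq (p.coeff i)
  obtain ⟨i, hi, hmax⟩ : ∃ i ∈ Finset.range (p.natDegree + 1),
      ∀ j ∈ Finset.range (p.natDegree + 1), cR i ∣ cR j := by
    induction p.natDegree with
    | zero => exact ⟨0, by simp, fun j hj => by simp at hj; rw [hj]⟩
    | succ n ih =>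
      obtain ⟨i, hi, hmax⟩ := ih
      rcases hdvd (cR i) (cR (n + 1)) with h | h
      · refine ⟨i, by simp at hi ⊢; omega, fun j hj => ?_⟩
        rcases Nat.eq_or_lt_of_le (Nat.lt_succ_iff.1 (Finset.mem_range.1 hj)) with rfl | hj'
        · exact h
        · exact hmax j (by simp; omega)
      · refine ⟨n + 1, by simp, fun j hj => ?_⟩
        rcases Nat.eq_or_lt_of_le (Nat.lt_succ_iff.1 (Finset.mem_range.1 hj)) with rfl | hj'
        · rfl
        · exact h.trans (hmax j (by simp; omega))
  have hd' : ∀ j, ∃ d : Rq, j ∈ Finset.range (p.natDegree + 1) → cR j = cR i * d := fun j => by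
    by_cases hj : j ∈ Finset.range (p.natDegree + 1)
    · obtain ⟨d, hd⟩ := hmax j hj
      exact ⟨d, fun _ => hd⟩
    · exact ⟨0, fun h => absurd h hj⟩
  choose d hd using hd'
  have hinjq : Function.Injective (algebraMap R Rq) := IsLocalization.injective _ q.primeCompl_le_nonZeroDivisors
  have hci : cR i ≠ 0 := fun h => hp0 (leadingCoeff_eq_zero.1 (hinjq (by
    rw [map_zero]
    have := hd p.natDegree (Finset.mem_range.2 (Nat.lt_succ_self _))
    rwa [h, zero_mul] at this)))
  have hdi : d i = 1 := (mul_eq_left₀ hci).1 (hd i hi).symm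
  have hiL : algebraMap A L (ι (cR i)) ≠ 0 := by
    rw [hι, ← IsScalarTower.algebraMap_apply]
    intro h
    apply hci
    show algebraMap R Rq (p.coeff i) = 0
    rw [(injective_iff_map_eq_zero _).1 hRL _ h, map_zero]
  have hsum : ∑ j ∈ Finset.range (p.natDegree + 1), algebraMap A L (ι (d j)) * x ^ j = 0 := by
    refine (mul_eq_zero.1 ?_).resolve_left hiL
    rw [Finset.mul_sum, ← hp, aeval_eq_sum_range]
    refine Finset.sum_congr rfl fun j hj => ?_
    rw [← mul_assoc, ← map_mul, ← map_mul, ← hd j hj, hι, ← IsScalarTower.algebraMap_apply, Algebra.smul_def]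
  exact (mem_or_inv_mem_of_unit_coeff x _ (fun j => ι (d j)) hsum
    ⟨i, Nat.lt_succ_iff.1 (Finset.mem_range.1 hi), by rw [hdi, map_one]; exact isUnit_one⟩).imp id id

/-- Localisations of an integrally closed domain algebraic over a Dedekind domain are valuation rings. -/
theorem valuationRing_localization {R R' L : Type u} [CommRing R] [IsDedekindDomain R] [CommRing R'] [IsDomain R']
    [IsIntegrallyClosed R'] [Algebra R R'] [Field L] [Algebra R' L] [IsFractionRing R' L] [Algebra R L]
    [IsScalarTower R R' L] (hRL : Function.Injective (algebraMap R L)) (halg : ∀ x : L, IsAlgebraic R x)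
    (P : Ideal R') [P.IsPrime] : ValuationRing (Localization.AtPrime P) := by
  let A := Localization.AtPrime P
  have hle : P.primeCompl ≤ nonZeroDivisors R' := P.primeCompl_le_nonZeroDivisors
  have : IsIntegrallyClosed A := isIntegrallyClosed_of_isLocalization A P.primeCompl hle
  let : Algebra A L := (IsLocalization.lift (M := P.primeCompl) (S := A)
    fun y => IsLocalization.map_units L (⟨y.1, hle y.2⟩ : nonZeroDivisors R')).toAlgebra
  have : IsScalarTower R' A L := .of_algebraMap_eq fun r => (IsLocalization.lift_eq _ r).symm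
  have : IsFractionRing A L := IsFractionRing.isFractionRing_of_isDomain_of_isLocalization P.primeCompl A L
  have : IsScalarTower R A L := .of_algebraMap_eq fun r => by
    rw [IsScalarTower.algebraMap_apply R R' A, ← IsScalarTower.algebraMap_apply R' A L,
      ← IsScalarTower.algebraMap_apply R R' L]
  exact valuationRing_of_dedekind hRL halg

set_option backward.isDefEq.respectTransparency false in
set_option backward.isDefEq.respectTransparency.types false in
/-- Points of proper schemes extend over domains whose localisations are valuation rings. -/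
theorem exists_extend {R R' L : Type u} [CommRing R] [CommRing R'] [IsDomain R'] [Field L] [Algebra R' L]
    [IsFractionRing R' L] (hv : ∀ (P : Ideal R') [P.IsPrime], ValuationRing (Localization.AtPrime P))
    {X : Scheme.{u}} (sX : X ⟶ Spec (CommRingCat.of R)) [IsProper sX] (a : R →+* R')
    (h : Spec (CommRingCat.of L) ⟶ X)
    (hh : h ≫ sX = Spec.map (CommRingCat.ofHom (algebraMap R' L)) ≫ Spec.map (CommRingCat.ofHom a)) :
    ∃ H : Spec (CommRingCat.of R') ⟶ X, H ≫ sX = Spec.map (CommRingCat.ofHom a) ∧
      Spec.map (CommRingCat.ofHom (algebraMap R' L)) ≫ H = h := by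
  have : X.IsSeparated := ⟨by rw [terminal.hom_ext (terminal.from X) (sX ≫ terminal.from _)]; infer_instance⟩
  let P := Spec (CommRingCat.of R')
  have : IsDomain (CommRingCat.of R') := ‹IsDomain R'›
  let : Algebra R' (Spec (CommRingCat.of R')).functionField :=
    instAlgebraCarrierFunctionFieldSpec (CommRingCat.of R')
  have : IsFractionRing R' (Spec (CommRingCat.of R')).functionField := functionField_isFractionRing_of_affine (CommRingCat.of R')
  let ε : L ≃ₐ[R'] (Spec (CommRingCat.of R')).functionField := IsLocalization.algEquiv (nonZeroDivisors R') L (Spec (CommRingCat.of R')).functionField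
  let φ₀ : Spec (P.presheaf.stalk (genericPoint P)) ⟶ X := Spec.map (CommRingCat.ofHom ε.toRingEquiv.toRingHom) ≫ h
  have hgen : P.fromSpecStalk (genericPoint P) = Spec.map (CommRingCat.ofHom (algebraMap R' (Spec (CommRingCat.of R')).functionField)) :=
    Spec.fromSpecStalk_eq' _ _
  have hε : CommRingCat.ofHom (algebraMap R' L) ≫ CommRingCat.ofHom ε.toRingEquiv.toRingHom =
      CommRingCat.ofHom (algebraMap R' (Spec (CommRingCat.of R')).functionField) := by
    ext r; exact ε.commutes r
  have h₀ : φ₀ ≫ sX = P.fromSpecStalk _ ≫ Spec.map (CommRingCat.ofHom a) := by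
    rw [Category.assoc, hh, ← Category.assoc, ← Spec.map_comp, hε, hgen]
  obtain ⟨W, hg, H, hW, hH, hHg⟩ := H23.RatExtend.extend (Spec.map (CommRingCat.ofHom a)) sX φ₀ h₀ Set.univ
    fun p _ => H23.RatExtend.exists_lift (Spec.map (CommRingCat.ofHom a)) sX φ₀ h₀ p (by
      let p' : PrimeSpectrum R' := p
      have := hv p'.asIdeal
      have : IsDomain (Localization.AtPrime p'.asIdeal) :=
        IsLocalization.isDomain_localization (Ideal.primeCompl_le_nonZeroDivisors _)
      let e : Localization.AtPrime p'.asIdeal ≃+* P.presheaf.stalk p :=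
        (StructureSheaf.stalkIso R' p').toRingEquiv
      have : IsDomain (P.presheaf.stalk p) := e.symm.injective.isDomain e.symm.toRingHom
      exact Function.Surjective.valuationRing e.toRingHom e.surjective)
  have hWtop : (⊤ : P.Opens) ≤ W := fun x _ => hW (Set.mem_univ x)
  refine ⟨P.topIso.inv ≫ P.homOfLE hWtop ≫ H, ?_, ?_⟩
  · rw [Category.assoc, Category.assoc, hH, Scheme.homOfLE_ι_assoc, ← Scheme.topIso_hom, Iso.inv_hom_id_assoc]
  · have h1 : Spec.map (CommRingCat.ofHom ε.symm.toRingEquiv.toRingHom) ≫ W.fromSpecStalkOfMem (genericPoint P) hg =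
        Spec.map (CommRingCat.ofHom (algebraMap R' L)) ≫ P.topIso.inv ≫ P.homOfLE hWtop := by
      refine (cancel_mono W.ι).1 ?_
      refine (Category.assoc _ _ _).trans ((congrArg (Spec.map _ ≫ ·) (Scheme.Opens.fromSpecStalkOfMem_ι _ _ hg)).trans ?_)
      refine Eq.trans ?_ (Category.assoc _ _ _).symm
      rw [Category.assoc, Scheme.homOfLE_ι, ← Scheme.topIso_hom, Iso.inv_hom_id, Category.comp_id, hgen, ← Spec.map_comp]
      exact congrArg Spec.map (CommRingCat.hom_ext (RingHom.ext fun r => ε.symm.commutes r))
    rw [← reassoc_of% h1, hHg]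
    simp only [φ₀, ← Spec.map_comp_assoc]
    refine Eq.trans ?_ (Category.id_comp h)
    congr 1
    rw [← Spec.map_id]
    congr 1
    ext r
    exact ε.symm_apply_apply r

/-- A nonempty scheme of finite type over a field has a point in a finite extension. -/
theorem exists_finite_point {K : Type u} [Field K] {Y : Scheme.{u}} (f : Y ⟶ Spec (CommRingCat.of K))
    [LocallyOfFiniteType f] [Nonempty Y] :
    ∃ (L : Type u) (_ : Field L) (_ : Algebra K L) (_ : Module.Finite K L) (y : Spec (CommRingCat.of L) ⟶ Y),
      y ≫ f = Spec.map (CommRingCat.ofHom (algebraMap K L)) := by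
  have : JacobsonSpace Y := LocallyOfFiniteType.jacobsonSpace f
  obtain ⟨x, -, hx⟩ := nonempty_inter_closedPoints (Z := (Set.univ : Set Y)) Set.univ_nonempty
    isOpen_univ.isLocallyClosed
  have : LocallyOfFiniteType (Y.fromSpecResidueField x) := isClosed_singleton_iff_locallyOfFiniteType.1 hx
  let j := Y.fromSpecResidueField x ≫ f
  have : IsFinite j := isFinite_iff_locallyOfFiniteType_of_jacobsonSpace.2 inferInstance
  obtain ⟨φ, hφ⟩ := Spec.map_surjective j
  let : Algebra K (Y.residueField x) := φ.hom.toAlgebra
  have hfin : Module.Finite K (Y.residueField x) := by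
    have : IsFinite (Spec.map φ) := by rw [hφ]; infer_instance
    exact (IsFinite.SpecMap_iff φ).1 this
  exact ⟨Y.residueField x, inferInstance, inferInstance, hfin, Y.fromSpecResidueField x, hφ.symm⟩

end Groth.Agent.NonAbLib
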