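import Groth.Prelude.Def_ActBC
import Mathlib.CategoryTheory.Monoidal.Cartesian.Over

/-!
# Base-changed equivariant morphisms on points
-/

universe u

open CategoryTheory CategoryTheory.Limits MonoidalCategory CartesianMonoidalCategory MonObj GrpObj AlgebraicGeometry

namespace Groth.Agent.NonAbLib

variable {S S' : Scheme.{u}} (f : S' ⟶ S) {G P Q : Over S} [GrpObj G] {a : AlgGrp.Action G P} {b : AlgGrp.Action G Q}

/-- An equivariant isomorphism after base change gives an equivariant morphism from the product. -/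
theorem exists_point_hom (e : NonAbH1.EquivIso (a.bc f) (b.bc f)) :
    ∃ ψ : Over.mk f ⊗ P ⟶ Q, ∀ {Z : Over S} (t : Z ⟶ Over.mk f) (g : Z ⟶ G) (x : Z ⟶ P),
      lift t (lift g x ≫ a.act) ≫ ψ = lift g (lift t x ≫ ψ) ≫ b.act := by
  let T : Over S := Over.mk f
  let W : Over S' := Over.mk ((fst T P).left)
  let fr : (Over.map f).obj W ⟶ T ⊗ P := Over.homMk (𝟙 _) ((Category.id_comp _).trans (Over.w (fst T P)).symm)
  let fr' : T ⊗ P ⟶ (Over.map f).obj W := Over.homMk (𝟙 _) ((Category.id_comp _).trans (Over.w (fst T P)))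
  let eh : (Over.pullback f).obj P ⟶ (Over.pullback f).obj Q := e.iso.hom
  let he := fun (W' : Over S') (Y : Over S) => (Over.mapPullbackAdj f).homEquiv W' Y
  let ψ : T ⊗ P ⟶ Q := fr' ≫ (he W Q).symm (he W P (fr ≫ snd T P) ≫ eh)
  have hnat : ∀ {Z : Over S} (t : Z ⟶ T) (x : Z ⟶ P) (k : (Over.map f).obj (Over.mk t.left) ⟶ Z),
      k.left = 𝟙 Z.left →
        k ≫ lift t x ≫ ψ = (he (Over.mk t.left) Q).symm (he (Over.mk t.left) P (k ≫ x) ≫ eh) := by
    intro Z t x k hk
    let l : Over.mk t.left ⟶ W := Over.homMk (lift t x).left (congrArg CommaMorphism.left (lift_fst t x))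
    have hl : (Over.map f).map l ≫ fr = k ≫ lift t x :=
      Over.OverMorphism.ext (Eq.trans (Category.comp_id _)
        (Eq.symm ((congrArg (fun m => m ≫ (lift t x).left) hk).trans (Category.id_comp _))))
    have h1 : k ≫ lift t x ≫ fr' = (Over.map f).map l :=
      Over.OverMorphism.ext (Eq.trans (congrArg (fun m => m ≫ (lift t x).left ≫ _) hk)
        ((Category.id_comp _).trans (Category.comp_id _)))
    simp only [ψ, reassoc_of% h1, he]
    rw [← Adjunction.homEquiv_naturality_left_symm, ← Category.assoc l, ← Adjunction.homEquiv_naturality_left,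
      ← Category.assoc ((Over.map f).map l), hl, Category.assoc, lift_snd]
  refine ⟨ψ, fun {Z} t g x => ?_⟩
  let k : (Over.map f).obj (Over.mk t.left) ⟶ Z := Over.homMk (𝟙 _) ((Category.id_comp _).trans (Over.w t).symm)
  have : IsIso ((Over.forget S).map k) := inferInstanceAs (IsIso (𝟙 Z.left))
  have : IsIso k := isIso_of_reflects_iso k (Over.forget S)
  rw [← cancel_epi k, hnat t _ k rfl, ← Category.assoc k (lift g x), comp_lift, ← Category.assoc k (lift g _), comp_lift,
    hnat t x k rfl]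
  apply (he _ Q).injective
  rw [Equiv.apply_symm_apply]
  simp only [he]
  rw [← AlgGrp.Action.lift_homEquiv_bc_act, ← AlgGrp.Action.lift_homEquiv_bc_act, Equiv.apply_symm_apply,
    Category.assoc]
  exact (congrArg (_ ≫ ·) e.comm).trans (lift_whiskerLeft_assoc _ _ _ _)

/-- Torsor classes with equal base change have equivariantly isomorphic base changes. -/
theorem equivIso_of_bcMap_eq {K : Precoverage Scheme.{u}} [K.IsStableUnderBaseChange] (P Q : NonAbH1.TorsorSch G K)
    (h : NonAbH1.H1Sch.bcMap f G K P.cl = NonAbH1.H1Sch.bcMap f G K Q.cl) :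
    Nonempty (NonAbH1.EquivIso (P.act.bc f) (Q.act.bc f)) := by
  have hr : _root_.Equivalence (fun P Q : NonAbH1.TorsorSch (Red.bc f G) K => Nonempty (NonAbH1.EquivIso P.act Q.act)) :=
    { refl := fun P => ⟨⟨Iso.refl _, by simp⟩⟩
      symm := fun {P Q} ⟨e⟩ => ⟨⟨e.iso.symm, by
        rw [Iso.symm_hom, ← cancel_mono e.iso.hom]
        simp only [Category.assoc, Iso.inv_hom_id, Category.comp_id, e.comm, whiskerLeft_inv_hom_assoc]⟩⟩
      trans := fun {P Q R} ⟨e⟩ ⟨e'⟩ => ⟨⟨e.iso ≪≫ e'.iso, by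
        rw [Iso.trans_hom, reassoc_of% e.comm, e'.comm, MonoidalCategory.whiskerLeft_comp, Category.assoc]⟩⟩ }
  exact hr.eqvGen_iff.1 (Quot.eqvGen_exact h)

end Groth.Agent.NonAbLib
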