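import Groth.Agent.SchTorsor.Basic
import Groth.Agent.DescLib.IndQAEff
import Groth.Agent.DescLib.DescFinite
import Groth.Prelude.Def_ActBC

/-!
# The scheme of isomorphisms between two torsors
-/

universe u

open CategoryTheory CategoryTheory.Limits MonoidalCategory CartesianMonoidalCategory MonObj GrpObj AlgebraicGeometry
open Groth.Agent.GrpSchLib.TopDescent Desc

namespace Groth.Agent.NonAbLib

variable {S : Scheme.{u}} {G P Q : Over S} [GrpObj G]

/-- The point of the group carrying the second point of a pseudo-torsor to the first. -/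
noncomputable def tdiv {a : AlgGrp.Action G P} (ha : NonAbH1.IsPseudoTorsorSch a) {T : Over S} (x y : T ⟶ P) :
    T ⟶ G :=
  (SchTorsor.exists_div ha x y).choose

theorem tdiv_act {a : AlgGrp.Action G P} (ha : NonAbH1.IsPseudoTorsorSch a) {T : Over S} (x y : T ⟶ P) :
    lift (tdiv ha x y) y ≫ a.act = x :=
  (SchTorsor.exists_div ha x y).choose_spec

theorem tdiv_eq {a : AlgGrp.Action G P} (ha : NonAbH1.IsPseudoTorsorSch a) {T : Over S} {x y : T ⟶ P}
    {g : T ⟶ G} (h : lift g y ≫ a.act = x) : tdiv ha x y = g :=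
  SchTorsor.act_free ha ((tdiv_act ha x y).trans h.symm)

theorem comp_tdiv {a : AlgGrp.Action G P} (ha : NonAbH1.IsPseudoTorsorSch a) {T T' : Over S} (j : T' ⟶ T)
    (x y : T ⟶ P) : tdiv ha (j ≫ x) (j ≫ y) = j ≫ tdiv ha x y :=
  tdiv_eq ha (by rw [← comp_lift_assoc, tdiv_act])

/-- Moving a point of `Q` by the group element carrying `x₀` to `x₁`. -/
noncomputable def move {a : AlgGrp.Action G P} (ha : NonAbH1.IsPseudoTorsorSch a) (b : AlgGrp.Action G Q)
    {T : Over S} (x₀ x₁ : T ⟶ P) (q : T ⟶ Q) : T ⟶ Q :=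
  lift (tdiv ha x₁ x₀) q ≫ b.act

variable {a : AlgGrp.Action G P} (ha : NonAbH1.IsPseudoTorsorSch a) (b : AlgGrp.Action G Q)

theorem move_self {T : Over S} (x : T ⟶ P) (q : T ⟶ Q) : move ha b x x q = q := by
  rw [move, tdiv_eq ha (SchTorsor.one_act_pt a x), SchTorsor.one_act_pt]

theorem move_move {T : Over S} (x₀ x₁ x₂ : T ⟶ P) (q : T ⟶ Q) :
    move ha b x₁ x₂ (move ha b x₀ x₁ q) = move ha b x₀ x₂ q := by
  have e : tdiv ha x₂ x₀ = tdiv ha x₂ x₁ * tdiv ha x₁ x₀ :=
    tdiv_eq ha (by rw [SchTorsor.act_assoc, tdiv_act, tdiv_act])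
  rw [move, move, move, e, SchTorsor.act_assoc]

theorem comp_move {T T' : Over S} (j : T' ⟶ T) (x₀ x₁ : T ⟶ P) (q : T ⟶ Q) :
    j ≫ move ha b x₀ x₁ q = move ha b (j ≫ x₀) (j ≫ x₁) (j ≫ q) := by
  rw [move, move, comp_tdiv, comp_lift_assoc]

/-- Two morphisms of `S`-schemes moved in the same way on underlying schemes. -/
theorem move_left_congr {T T' : Over S} (j : T' ⟶ T) {x₀ x₁ : T ⟶ P} {q : T ⟶ Q} {y₀ y₁ : T' ⟶ P} {r : T' ⟶ Q}
    (h₀ : y₀.left = j.left ≫ x₀.left) (h₁ : y₁.left = j.left ≫ x₁.left) (hq : r.left = j.left ≫ q.left) :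
    (move ha b y₀ y₁ r).left = j.left ≫ (move ha b x₀ x₁ q).left := by
  rw [← Over.comp_left, comp_move]
  obtain rfl : y₀ = j ≫ x₀ := Over.OverMorphism.ext h₀
  obtain rfl : y₁ = j ≫ x₁ := Over.OverMorphism.ext h₁
  obtain rfl : r = j ≫ q := Over.OverMorphism.ext hq
  rfl

theorem lifts_fst_hom {T : Scheme.{u}} {x₀ : T ⟶ P.left}
    (v : Lifts (Over.mk (pullback.snd Q.hom P.hom)) x₀) :
    (v.1 ≫ pullback.fst Q.hom P.hom) ≫ Q.hom = x₀ ≫ P.hom := by
  rw [Category.assoc, pullback.condition, ← Category.assoc]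
  exact congrArg (· ≫ P.hom) v.2

/-- The transition of the descent datum. -/
noncomputable def isomMap {T : Scheme.{u}} (x₀ x₁ : T ⟶ P.left) (h : x₀ ≫ P.hom = x₁ ≫ P.hom)
    (v : Lifts (Over.mk (pullback.snd Q.hom P.hom)) x₀) : Lifts (Over.mk (pullback.snd Q.hom P.hom)) x₁ :=
  ⟨pullback.lift
    (move ha b (T := Over.mk (x₀ ≫ P.hom)) (Over.homMk x₀ rfl) (Over.homMk x₁ h.symm)
      (Over.homMk (v.1 ≫ pullback.fst Q.hom P.hom) (lifts_fst_hom v))).left x₁
    ((Over.w _).trans h), pullback.lift_snd _ _ _⟩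

theorem isomMap_fst {T : Scheme.{u}} (x₀ x₁ : T ⟶ P.left) (h : x₀ ≫ P.hom = x₁ ≫ P.hom)
    (v : Lifts (Over.mk (pullback.snd Q.hom P.hom)) x₀) {T₀ : Over S} (j : T₀ ⟶ Over.mk (x₀ ≫ P.hom))
    {X₀ X₁ : T₀ ⟶ P} {q : T₀ ⟶ Q} (h₀ : X₀.left = j.left ≫ x₀) (h₁ : X₁.left = j.left ≫ x₁)
    (hq : q.left = j.left ≫ v.1 ≫ pullback.fst Q.hom P.hom) :
    (move ha b X₀ X₁ q).left = j.left ≫ (isomMap ha b x₀ x₁ h v).1 ≫ pullback.fst Q.hom P.hom := by
  rw [isomMap, pullback.lift_fst]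
  exact move_left_congr ha b j h₀ h₁ hq

theorem isomMap_comp {T : Scheme.{u}} (x₀ x₁ x₂ : T ⟶ P.left) (h₀₁ : x₀ ≫ P.hom = x₁ ≫ P.hom)
    (h₁₂ : x₁ ≫ P.hom = x₂ ≫ P.hom) (v : Lifts (Over.mk (pullback.snd Q.hom P.hom)) x₀) :
    isomMap ha b x₁ x₂ h₁₂ (isomMap ha b x₀ x₁ h₀₁ v) = isomMap ha b x₀ x₂ (h₀₁.trans h₁₂) v := by
  let T₀ : Over S := Over.mk (x₀ ≫ P.hom)
  let X₀ : T₀ ⟶ P := Over.homMk x₀ rfl
  let X₁ : T₀ ⟶ P := Over.homMk x₁ h₀₁.symm
  let X₂ : T₀ ⟶ P := Over.homMk x₂ (h₀₁.trans h₁₂).symm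
  let q₀ : T₀ ⟶ Q := Over.homMk (v.1 ≫ pullback.fst Q.hom P.hom) (lifts_fst_hom v)
  let j : T₀ ⟶ Over.mk (x₁ ≫ P.hom) := Over.homMk (𝟙 T) (by simpa [T₀] using h₀₁.symm)
  have e₁ := isomMap_fst ha b x₀ x₁ h₀₁ v (𝟙 T₀) (X₀ := X₀) (X₁ := X₁) (q := q₀) (Category.id_comp _).symm
    (Category.id_comp _).symm (Category.id_comp _).symm
  have e₂ := isomMap_fst ha b x₀ x₂ (h₀₁.trans h₁₂) v (𝟙 T₀) (X₀ := X₀) (X₁ := X₂) (q := q₀) (Category.id_comp _).symm
    (Category.id_comp _).symm (Category.id_comp _).symm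
  have e₃ := isomMap_fst ha b x₁ x₂ h₁₂ (isomMap ha b x₀ x₁ h₀₁ v) j (X₀ := X₁) (X₁ := X₂)
    (q := move ha b X₀ X₁ q₀) (Category.id_comp _).symm (Category.id_comp _).symm
    (e₁.trans ((Category.id_comp _).trans (Category.id_comp _).symm))
  rw [move_move, e₂] at e₃
  refine Subtype.ext (pullback.hom_ext ?_ ((isomMap ha b x₁ x₂ h₁₂ _).2.trans (isomMap ha b x₀ x₂ _ v).2.symm))
  exact (((Category.id_comp _).symm.trans e₃).trans (Category.id_comp _)).symm

theorem isomMap_self {T : Scheme.{u}} (x : T ⟶ P.left) (v : Lifts (Over.mk (pullback.snd Q.hom P.hom)) x) :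
    isomMap ha b x x rfl v = v := by
  refine Subtype.ext (pullback.hom_ext ?_ ((isomMap ha b x x rfl v).2.trans v.2.symm))
  rw [isomMap, pullback.lift_fst, move_self]
  rfl

/-- The descent datum of the scheme of isomorphisms. -/
noncomputable def isomDD : SchDD P.hom where
  obj := Over.mk (pullback.snd Q.hom P.hom)
  φ T x₀ x₁ h :=
    { toFun := isomMap ha b x₀ x₁ h
      invFun := isomMap ha b x₁ x₀ h.symm
      left_inv := fun v => (isomMap_comp ha b x₀ x₁ x₀ h h.symm v).trans (isomMap_self ha b x₀ v)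
      right_inv := fun v => (isomMap_comp ha b x₁ x₀ x₁ h.symm h v).trans (isomMap_self ha b x₁ v) }
  φ_natural T T' g x₀ x₁ h h' v v' hv' := by
    show (isomMap ha b _ _ h' v').1 = g ≫ (isomMap ha b x₀ x₁ h v).1
    refine pullback.hom_ext ?_ ((isomMap ha b _ _ h' v').2.trans
      ((congrArg (g ≫ ·) (isomMap ha b x₀ x₁ h v).2.symm).trans (Category.assoc _ _ _).symm))
    rw [Category.assoc]
    refine Eq.trans ?_ (isomMap_fst ha b x₀ x₁ h v
      (Over.homMk g (Category.assoc _ _ _).symm : Over.mk ((g ≫ x₀) ≫ P.hom) ⟶ Over.mk (x₀ ≫ P.hom))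
      (X₀ := Over.homMk (g ≫ x₀) rfl) (X₁ := Over.homMk (g ≫ x₁) h'.symm)
      (q := Over.homMk (v'.1 ≫ pullback.fst Q.hom P.hom) (lifts_fst_hom v')) rfl rfl
      (by show v'.1 ≫ _ = g ≫ _; rw [hv', Category.assoc]))
    exact pullback.lift_fst _ _ _
  φ_self T x v := isomMap_self ha b x v
  φ_comp T x₀ x₁ x₂ h₀₁ h₁₂ v := isomMap_comp ha b x₀ x₁ x₂ h₀₁ h₁₂ v


/-- An evaluation morphism exhibiting `U` as the scheme of isomorphisms from `P` to `Q`. -/
structure IsIsom (a : AlgGrp.Action G P) (b : AlgGrp.Action G Q) {U : Over S} (E : U ⊗ P ⟶ Q) : Prop where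
  isIso : IsIso (lift E (snd U P))
  equivariant : ∀ {T : Over S} (u : T ⟶ U) (g : T ⟶ G) (x : T ⟶ P),
    lift u (lift g x ≫ a.act) ≫ E = lift g (lift u x ≫ E) ≫ b.act

include ha in
/-- The scheme of isomorphisms between two torsors exists when the target is affine over the base. -/
theorem exists_isom [IsAffineHom Q.hom] [Flat P.hom] [Surjective P.hom] [QuasiCompact P.hom] :
    ∃ (U : Over S) (E : U ⊗ P ⟶ Q), IsIsom a b E := by
  let D := isomDD ha b
  have : IsAffineHom (pullback.snd Q.hom P.hom) :=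
    isAffineHom_isStableUnderBaseChange.of_isPullback (IsPullback.of_hasPullback Q.hom P.hom) ‹_›
  have hcov : Presieve.ofArrows (fun _ : PUnit.{u + 1} => P.left) (fun _ => P.hom) ∈ Scheme.fpqcPrecoverage S := by
    rw [Presieve.ofArrows_pUnit]
    exact P.hom.singleton_mem_fpqcPrecoverage
  have heff := DescLib.IndQA.isEffective_of_indQA (fun _ : PUnit.{u + 1} => P.hom) hcov
    ((SchDDFam.ofSchDD.{u} P.hom).obj D) fun _ => DescLib.indQA_of_isAffineHom (pullback.snd Q.hom P.hom)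
  obtain ⟨U, ⟨I⟩⟩ := (DescLib.isEffective_ofSchDD_iff P.hom D).1 heff
  let f : pullback P.hom U.hom ⟶ pullback Q.hom P.hom := I.hom.hom.left
  have hf : f ≫ pullback.snd Q.hom P.hom = pullback.fst P.hom U.hom := Over.w I.hom.hom
  let sy := pullbackSymmetry U.hom P.hom
  let E : U ⊗ P ⟶ Q := Over.homMk (sy.hom ≫ f ≫ pullback.fst Q.hom P.hom) (by
    show _ = pullback.fst U.hom P.hom ≫ U.hom
    simp only [Category.assoc]
    rw [pullback.condition, ← Category.assoc f, hf, pullback.condition, ← Category.assoc sy.hom,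
      pullbackSymmetry_hom_comp_snd])
  refine ⟨U, E, ?_, ?_⟩
  · have e : (lift E (snd U P)).left = sy.hom ≫ f := pullback.hom_ext
      ((congrArg CommaMorphism.left (lift_fst E (snd U P))).trans (Category.assoc _ _ _).symm)
      ((congrArg CommaMorphism.left (lift_snd E (snd U P))).trans
        ((pullbackSymmetry_hom_comp_fst U.hom P.hom).symm.trans
          ((congrArg (sy.hom ≫ ·) hf.symm).trans (Category.assoc _ _ _).symm)))
    have : IsIso I.hom.hom :=
      ⟨I.inv.hom, by rw [← SchDD.comp_hom, I.hom_inv_id]; rfl, by rw [← SchDD.comp_hom, I.inv_hom_id]; rfl⟩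
    have : IsIso f := (Over.forget P.left).map_isIso I.hom.hom
    have : IsIso ((Over.forget S).map (lift E (snd U P))) := by
      show IsIso (lift E (snd U P)).left
      rw [e]; infer_instance
    exact isIso_of_reflects_iso _ (Over.forget S)
  · intro T u g x
    let y := lift g x ≫ a.act
    have hxy : x.left ≫ P.hom = y.left ≫ P.hom := (Over.w x).trans (Over.w y).symm
    have hxu : x.left ≫ P.hom = u.left ≫ U.hom := (Over.w x).trans (Over.w u).symm
    let v : Lifts ((toDD P.hom).obj U).obj x.left := ⟨pullback.lift x.left u.left hxu, pullback.lift_fst _ _ _⟩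
    let w : Lifts D.obj x.left := ⟨v.1 ≫ f, (Category.assoc _ _ _).trans ((congrArg (v.1 ≫ ·) hf).trans v.2)⟩
    have hcomm : (isomMap ha b x.left y.left hxy w).1 = (canMap P.hom U x.left y.left hxy v).1 ≫ f :=
      I.hom.comm x.left y.left hxy v w rfl
    have hev : ∀ z : T ⟶ P, (lift u z ≫ E).left =
        pullback.lift z.left u.left ((Over.w z).trans (Over.w u).symm) ≫ f ≫ pullback.fst Q.hom P.hom := fun z => by
      show (lift u z).left ≫ sy.hom ≫ f ≫ _ = _
      rw [← Category.assoc]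
      congr 1
      refine pullback.hom_ext ?_ ?_
      · rw [Category.assoc, pullbackSymmetry_hom_comp_fst, pullback.lift_fst]
        exact congrArg CommaMorphism.left (lift_snd u z)
      · rw [Category.assoc, pullbackSymmetry_hom_comp_snd, pullback.lift_snd]
        exact congrArg CommaMorphism.left (lift_fst u z)
    let j : T ⟶ Over.mk (x.left ≫ P.hom) := Over.homMk (𝟙 T.left) ((Category.id_comp _).trans (Over.w x))
    have hmove := isomMap_fst ha b x.left y.left hxy w j (X₀ := x) (X₁ := y) (q := lift u x ≫ E)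
      (Category.id_comp _).symm (Category.id_comp _).symm ((hev x).trans (by
        show _ = 𝟙 T.left ≫ (v.1 ≫ f) ≫ _
        rw [Category.id_comp]
        exact (Category.assoc _ _ _).symm))
    have e : lift g (lift u x ≫ E) ≫ b.act = move ha b x y (lift u x ≫ E) := by
      rw [move, tdiv_eq ha (g := g) rfl]
    rw [e]
    refine Over.OverMorphism.ext ((hev y).trans (Eq.trans ?_ hmove.symm))
    rw [hcomm]
    refine Eq.trans ?_ (Category.id_comp _).symm
    rw [Category.assoc]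
    congr 1
    refine pullback.hom_ext ?_ ?_
    · exact (pullback.lift_fst _ _ _).trans (canMap P.hom U x.left y.left hxy v).2.symm
    · rw [pullback.lift_snd]
      exact ((pullback.lift_snd _ _ _).trans (pullback.lift_snd _ _ _)).symm

/-- Points of the scheme of isomorphisms from equivariant morphisms. -/
theorem IsIsom.exists_point {U : Over S} {E : U ⊗ P ⟶ Q} (hE : IsIsom a b E)
    (ht : NonAbH1.IsTorsorFor Scheme.fpqcPrecoverage a) {T : Over S} (ψ : T ⊗ P ⟶ Q)
    (hψ : ∀ {Z : Over S} (t : Z ⟶ T) (g : Z ⟶ G) (x : Z ⟶ P),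
      lift t (lift g x ≫ a.act) ≫ ψ = lift g (lift t x ≫ ψ) ≫ b.act) :
    ∃ u : T ⟶ U, u ▷ P ≫ E = ψ := by
  have := hE.isIso
  let r : T ⊗ P ⟶ U := lift ψ (snd T P) ≫ inv (lift E (snd U P)) ≫ fst U P
  have hr0 : lift r (snd T P) = lift ψ (snd T P) ≫ inv (lift E (snd U P)) := by
    refine CartesianMonoidalCategory.hom_ext _ _ (by simp [r]) ?_
    rw [lift_snd, Category.assoc, show inv (lift E (snd U P)) ≫ snd U P = snd Q P by
      rw [IsIso.inv_comp_eq, lift_snd], lift_snd]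
  have hr : ∀ {Z : Over S} (z : Z ⟶ T ⊗ P), lift (z ≫ r) (z ≫ snd T P) ≫ E = z ≫ ψ := fun z => by
    rw [← comp_lift_assoc, hr0, Category.assoc]
    congr 1
    rw [show inv (lift E (snd U P)) ≫ E = fst Q P by rw [IsIso.inv_comp_eq, lift_fst], lift_fst]
  have hloc : HasLocSec Scheme.fpqcTopology (T ◁ toUnit P) := (SchTorsor.hasLocSec_toUnit ht.2).whiskerLeft T
  obtain ⟨χ, hχ, -⟩ := hloc.existsUnique_desc r fun Z p q h => by
    have ht' : p ≫ fst T P = q ≫ fst T P := by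
      simpa using congrArg (· ≫ fst T (𝟙_ (Over S))) h
    obtain ⟨g, hg⟩ := SchTorsor.exists_div ht.1 (p ≫ snd T P) (q ≫ snd T P)
    have e1 : lift (q ≫ r) (p ≫ snd T P) ≫ E = lift g (q ≫ ψ) ≫ b.act := by
      rw [← hg, hE.equivariant, hr]
    have e2 : p = lift (q ≫ fst T P) (lift g (q ≫ snd T P) ≫ a.act) :=
      CartesianMonoidalCategory.hom_ext _ _ (by rw [lift_fst, ht']) (by rw [lift_snd, hg])
    have e3 : p ≫ ψ = lift g (q ≫ ψ) ≫ b.act := by
      rw [e2, hψ, ← comp_lift]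
      simp
    have e4 : lift (p ≫ r) (p ≫ snd T P) ≫ lift E (snd U P) = lift (q ≫ r) (p ≫ snd T P) ≫ lift E (snd U P) := by
      refine CartesianMonoidalCategory.hom_ext _ _ ?_ (by simp)
      rw [Category.assoc, Category.assoc, lift_fst, hr, e3, e1]
    simpa using congrArg (· ≫ fst U P) ((cancel_mono _).1 e4)
  refine ⟨(ρ_ T).inv ≫ χ, ?_⟩
  have hu : fst T P ≫ (ρ_ T).inv ≫ χ = r := by
    rw [← hχ, ← Category.assoc]
    congr 1
    exact CartesianMonoidalCategory.hom_ext _ _ (by simp) (toUnit_unique _ _)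
  have := hr (𝟙 (T ⊗ P))
  rw [Category.id_comp, Category.id_comp, Category.id_comp] at this
  rw [← this]
  congr 1
  exact CartesianMonoidalCategory.hom_ext _ _ (by rw [lift_fst, whiskerRight_fst, hu]) (by simp)

/-- A section of the scheme of isomorphisms is an equivariant morphism. -/
theorem IsIsom.exists_hom {U : Over S} {E : U ⊗ P ⟶ Q} (hE : IsIsom a b E) (σ : 𝟙_ (Over S) ⟶ U) :
    ∃ φ : P ⟶ Q, a.act ≫ φ = (G ◁ φ) ≫ b.act := by
  refine ⟨lift (toUnit P ≫ σ) (𝟙 P) ≫ E, AlgGrp.Action.hom_ext_lift₂ fun Z g x => ?_⟩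
  rw [lift_whiskerLeft_assoc, ← Category.assoc (lift g x), comp_lift_assoc, Category.comp_id, comp_lift_assoc,
    Category.comp_id, ← Category.assoc, ← Category.assoc x, toUnit_unique ((lift g x ≫ a.act) ≫ toUnit P) (x ≫ toUnit P)]
  exact hE.equivariant _ g x

/-- The underlying morphisms of the scheme of isomorphisms and of the target agree over the source. -/
theorem IsIsom.snd_property {U : Over S} {E : U ⊗ P ⟶ Q} (hE : IsIsom a b E) (W : MorphismProperty Scheme.{u})
    [W.RespectsIso] (h : W (pullback.snd Q.hom P.hom)) : W (pullback.snd U.hom P.hom) := by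
  have := hE.isIso
  let e : pullback U.hom P.hom ⟶ pullback Q.hom P.hom := (lift E (snd U P)).left
  have : IsIso e := (Over.forget S).map_isIso (lift E (snd U P))
  have he : e ≫ pullback.snd Q.hom P.hom = pullback.snd U.hom P.hom :=
    congrArg CommaMorphism.left (lift_snd E (snd U P))
  rwa [← he, W.cancel_left_of_respectsIso]

end Groth.Agent.NonAbLib
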