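import Groth.Agent.NonAbLib.DedekindExt
import Groth.Agent.NonAbLib.EquivPoints
import Groth.Agent.NonAbLib.IsomSch
import Groth.Agent.NeronBasic.Basic
import Mathlib.RingTheory.Flat.TorsionFree
import Mathlib.RingTheory.Flat.FaithfullyFlat.Algebra

/-!
# Generically isomorphic torsors under proper flat groups over Dedekind domains
-/

universe u

open CategoryTheory CategoryTheory.Limits MonoidalCategory CartesianMonoidalCategory MonObj GrpObj AlgebraicGeometry
open Groth.Agent.GrpSchLib.TopDescent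

namespace Groth.Agent.NonAbLib

variable {R : Type u} [CommRing R] [IsDedekindDomain R] {G P Q : Over (Spec (CommRingCat.of R))} [GrpObj G]

/-- A cover trivialising two proper torsors, with the data over its generic point. -/
theorem exists_cover [IsProper P.hom] [IsProper Q.hom] [Surjective P.hom] [Surjective Q.hom] :
    ∃ (R' L : Type u) (_ : CommRing R') (_ : IsDomain R') (_ : Field L) (_ : Algebra R' L) (_ : IsFractionRing R' L)
      (a : R →+* R') (c : FractionRing R →+* L),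
      (∀ (I : Ideal R') [I.IsPrime], ValuationRing (Localization.AtPrime I)) ∧
      a.Flat ∧ Surjective (Spec.map (CommRingCat.ofHom a)) ∧
      IsPullback (Spec.map (CommRingCat.ofHom (algebraMap R' L))) (Spec.map (CommRingCat.ofHom c))
        (Spec.map (CommRingCat.ofHom a)) (Neron.genPt R) ∧
      (∃ p : Spec (CommRingCat.of R') ⟶ P.left, p ≫ P.hom = Spec.map (CommRingCat.ofHom a)) ∧
      (∃ q : Spec (CommRingCat.of R') ⟶ Q.left, q ≫ Q.hom = Spec.map (CommRingCat.ofHom a)) := by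
  let K := FractionRing R
  have : Surjective (P ⊗ Q).hom := inferInstanceAs (Surjective (pullback.fst P.hom Q.hom ≫ P.hom))
  have : IsProper (P ⊗ Q).hom := inferInstanceAs (IsProper (pullback.fst P.hom Q.hom ≫ P.hom))
  let f := pullback.snd (P ⊗ Q).hom (Neron.genPt R)
  have : Nonempty (pullback (P ⊗ Q).hom (Neron.genPt R) : Scheme.{u}) := by
    obtain ⟨x, -⟩ := f.surjective (Classical.arbitrary _)
    exact ⟨x⟩
  obtain ⟨L, _, _, _, y, hy⟩ := exists_finite_point f
  let : Algebra R L := ((algebraMap K L).comp (algebraMap R K)).toAlgebra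
  have : IsScalarTower R K L := .of_algebraMap_eq fun _ => rfl
  let R' := integralClosure R L
  have : IsFractionRing R' L := integralClosure.isFractionRing_of_finite_extension K L
  have : IsIntegrallyClosed R' := integralClosure.isIntegrallyClosedOfFiniteExtension K
  have hRL : Function.Injective (algebraMap R L) :=
    (algebraMap K L).injective.comp (IsFractionRing.injective R K)
  have hRR' : Function.Injective (algebraMap R R') := fun r r' h => hRL (congrArg Subtype.val h)
  have hv : ∀ (I : Ideal R') [I.IsPrime], ValuationRing (Localization.AtPrime I) := fun I hI =>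
    valuationRing_localization (R := R) (L := L) hRL
      (fun x => (IsFractionRing.isAlgebraic_iff R K L).2 (Algebra.IsAlgebraic.isAlgebraic (R := K) x)) I
  have : FaithfulSMul R R' := (faithfulSMul_iff_algebraMap_injective R R').2 hRR'
  have : IsLocalization (Algebra.algebraMapSubmonoid R' (nonZeroDivisors R)) L :=
    IsIntegralClosure.isLocalization R K L R'
  have : IsLocalization ((nonZeroDivisors R).map (algebraMap R R')) L := ‹_›
  have hpo : CategoryTheory.IsPushout (CommRingCat.ofHom (algebraMap R R')) (CommRingCat.ofHom (algebraMap R K))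
      (CommRingCat.ofHom (algebraMap R' L)) (CommRingCat.ofHom (algebraMap K L)) :=
    CommRingCat.isPushout_of_isLocalization (algebraMap R R') (algebraMap K L) (RingHom.ext fun _ => rfl)
      (nonZeroDivisors R)
  have hsurj : Surjective (Spec.map (CommRingCat.ofHom (algebraMap R R'))) :=
    ⟨Algebra.IsIntegral.comap_surjective R R'⟩
  have hext : ∀ {X : Scheme.{u}} (sX : X ⟶ Spec (CommRingCat.of R)) [IsProper sX] (h : Spec (CommRingCat.of L) ⟶ X),
      h ≫ sX = Spec.map (CommRingCat.ofHom (algebraMap R L)) →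
      ∃ H, H ≫ sX = Spec.map (CommRingCat.ofHom (algebraMap R R')) := fun sX _ h hh => by
    obtain ⟨H, hH, -⟩ := exists_extend (R' := R') (L := L) (fun I hI => hv I) sX (algebraMap R R') h
      (hh.trans (by rw [← Spec.map_comp]; rfl))
    exact ⟨H, hH⟩
  have hy' : (y ≫ pullback.fst (P ⊗ Q).hom (Neron.genPt R)) ≫ (P ⊗ Q).hom =
      Spec.map (CommRingCat.ofHom (algebraMap R L)) := by
    rw [Category.assoc, pullback.condition, reassoc_of% hy, ← Spec.map_comp]
    rfl
  refine ⟨R', L, inferInstance, inferInstance, inferInstance, inferInstance, inferInstance, algebraMap R R',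
    algebraMap K L, fun I hI => hv I, RingHom.flat_algebraMap_iff.2 inferInstance, hsurj,
    isPullback_SpecMap_of_isPushout _ _ _ _ hpo, ?_, ?_⟩
  · refine hext P.hom (y ≫ pullback.fst _ _ ≫ (fst P Q).left) ?_
    rw [← hy', Category.assoc, Category.assoc, Category.assoc, Over.w (fst P Q)]
  · refine hext Q.hom (y ≫ pullback.fst _ _ ≫ (snd P Q).left) ?_
    rw [← hy', Category.assoc, Category.assoc, Category.assoc, Over.w (snd P Q)]

/-- Generically isomorphic torsors under a proper flat group over a Dedekind domain are isomorphic. -/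
theorem equivIso_of_generic [IsProper G.hom] {a : AlgGrp.Action G P} {b : AlgGrp.Action G Q}
    [IsProper P.hom] [Flat P.hom] [Surjective P.hom] [IsProper Q.hom] [Surjective Q.hom]
    (ha : NonAbH1.IsTorsorFor Scheme.fpqcPrecoverage a) (hb : NonAbH1.IsTorsorFor Scheme.fpqcPrecoverage b)
    (ψ₀ : Over.mk (Neron.genPt R) ⊗ P ⟶ Q) (hψ₀ : ∀ {Z : Over (Spec (CommRingCat.of R))}
      (t : Z ⟶ Over.mk (Neron.genPt R)) (g : Z ⟶ G) (x : Z ⟶ P),
      lift t (lift g x ≫ a.act) ≫ ψ₀ = lift g (lift t x ≫ ψ₀) ≫ b.act) :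
    Nonempty (NonAbH1.EquivIso a b) := by
  obtain ⟨R', L, _, _, _, _, _, ρ, c, hv, hflat, hsurj, hsq, ⟨p', hp'⟩, ⟨q', hq'⟩⟩ := exists_cover (P := P) (Q := Q)
  let T : Over (Spec (CommRingCat.of R)) := Over.mk (Spec.map (CommRingCat.ofHom ρ))
  let η0 : Over (Spec (CommRingCat.of R)) := Over.mk (Neron.genPt R)
  let TL : Over (Spec (CommRingCat.of R)) :=
    Over.mk (Spec.map (CommRingCat.ofHom (algebraMap R' L)) ≫ Spec.map (CommRingCat.ofHom ρ))
  let jT : TL ⟶ T := Over.homMk (Spec.map (CommRingCat.ofHom (algebraMap R' L))) rfl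
  let jη : TL ⟶ η0 := Over.homMk (Spec.map (CommRingCat.ofHom c)) hsq.w.symm
  let p : T ⟶ P := Over.homMk p' hp'
  let q : T ⟶ Q := Over.homMk q' hq'
  let gL : TL ⟶ G := tdiv hb.1 (lift jη (jT ≫ p) ≫ ψ₀) (jT ≫ q)
  obtain ⟨g', hg', hgL⟩ := exists_extend (R' := R') (L := L) (fun I hI => hv I) G.hom ρ gL.left (Over.w gL)
  let g : T ⟶ G := Over.homMk g' hg'
  have hg : jT ≫ g = gL := Over.OverMorphism.ext hgL
  let Ψ : P ⊗ T ⟶ Q :=
    lift (tdiv ha.1 (fst P T) (snd P T ≫ p) * (snd P T ≫ g)) (snd P T ≫ q) ≫ b.act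
  have hpt : ∀ {Z : Over (Spec (CommRingCat.of R))} (z : Z ⟶ P ⊗ T),
      z ≫ Ψ = lift (tdiv ha.1 (z ≫ fst P T) (z ≫ snd P T ≫ p) * (z ≫ snd P T ≫ g)) (z ≫ snd P T ≫ q) ≫ b.act := by
    intro Z z
    simp only [Ψ, comp_lift_assoc, MonObj.comp_mul, comp_tdiv]
  -- over the generic point the morphism is the given one
  have hgen : ∀ {Z : Over (Spec (CommRingCat.of R))} (z : Z ⟶ P ⊗ T) (k : Z ⟶ η0),
      z ≫ Ψ = lift k (z ≫ fst P T) ≫ ψ₀ := by
    intro Z z k
    let l : Z ⟶ TL := Over.homMk (hsq.lift (z ≫ snd P T).left k.left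
      ((Over.w (z ≫ snd P T)).trans (Over.w k).symm)) (by
        show _ ≫ _ ≫ _ = _
        rw [IsPullback.lift_fst_assoc]
        exact Over.w (z ≫ snd P T))
    have hlT : l ≫ jT = z ≫ snd P T := Over.OverMorphism.ext (hsq.lift_fst _ _ _)
    have hlη : l ≫ jη = k := Over.OverMorphism.ext (hsq.lift_snd _ _ _)
    have eg : z ≫ snd P T ≫ g = l ≫ gL := by rw [← Category.assoc, ← hlT, Category.assoc, hg]
    have ep : z ≫ snd P T ≫ p = l ≫ jT ≫ p := by rw [← Category.assoc, ← hlT, Category.assoc]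
    have eq' : z ≫ snd P T ≫ q = l ≫ jT ≫ q := by rw [← Category.assoc, ← hlT, Category.assoc]
    have e0 : lift (l ≫ gL) (l ≫ jT ≫ q) ≫ b.act = lift k (l ≫ jT ≫ p) ≫ ψ₀ := by
      rw [← comp_lift_assoc l gL, tdiv_act, comp_lift_assoc, hlη]
    rw [hpt, eg, ep, eq', SchTorsor.act_assoc, e0, ← hψ₀, tdiv_act]
  -- flatness of the double product
  let Z0 := P ⊗ (T ⊗ T)
  have : Surjective T.hom := hsurj
  have : QuasiCompact T.hom := inferInstanceAs (QuasiCompact (Spec.map _))
  have : Flat T.hom := (HasRingHomProperty.Spec_iff (P := @Flat)).2 hflat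
  have : Flat (T ⊗ T).hom := inferInstanceAs (Flat (pullback.fst T.hom T.hom ≫ T.hom))
  have : Flat Z0.hom := inferInstanceAs (Flat (pullback.fst P.hom (T ⊗ T).hom ≫ P.hom))
  let z₁ : Z0 ⟶ P ⊗ T := P ◁ fst T T
  let z₂ : Z0 ⟶ P ⊗ T := P ◁ snd T T
  have hagree : z₁ ≫ Ψ = z₂ ≫ Ψ := by
    refine Over.OverMorphism.ext (NeronBasic.eq_of_stDominant Q.hom
      ((Over.w (z₁ ≫ Ψ)).trans (Over.w (z₂ ≫ Ψ)).symm) (pullback.fst Z0.hom (Neron.genPt R)) ?_)
    let W : Over (Spec (CommRingCat.of R)) := Over.mk (pullback.fst Z0.hom (Neron.genPt R) ≫ Z0.hom)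
    let w : W ⟶ Z0 := Over.homMk (pullback.fst Z0.hom (Neron.genPt R)) rfl
    let k : W ⟶ η0 := Over.homMk (pullback.snd Z0.hom (Neron.genPt R)) pullback.condition.symm
    have := (hgen (w ≫ z₁) k).trans (((congrArg (fun m => lift k m ≫ ψ₀) ?_)).trans (hgen (w ≫ z₂) k).symm)
    · rw [Category.assoc, Category.assoc] at this
      exact congrArg CommaMorphism.left this
    · simp [z₁, z₂]
  -- descent
  have hloc : HasLocSec Scheme.fpqcTopology (P ◁ toUnit T) := by
    refine (SchTorsor.hasLocSec_toUnit (X := T) ⟨Presieve.singleton T.hom, T.hom.singleton_mem_fpqcPrecoverage, ?_⟩).whiskerLeft P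
    rintro S' f ⟨⟩
    exact ⟨𝟙 _, Category.id_comp _⟩
  obtain ⟨χ, hχ, -⟩ := hloc.existsUnique_desc Ψ fun Z u v huv => by
    have h1 : u ≫ fst P T = v ≫ fst P T := by simpa using congrArg (· ≫ fst P (𝟙_ _)) huv
    let z : Z ⟶ Z0 := lift (u ≫ fst P T) (lift (u ≫ snd P T) (v ≫ snd P T))
    have e1 : z ≫ z₁ = u := by apply CartesianMonoidalCategory.hom_ext <;> simp [z, z₁]
    have e2 : z ≫ z₂ = v := by apply CartesianMonoidalCategory.hom_ext <;> simp [z, z₂, h1]
    rw [← e1, ← e2, Category.assoc, Category.assoc, hagree]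
  let φ : P ⟶ Q := (ρ_ P).inv ≫ χ
  have hφ : fst P T ≫ φ = Ψ := by
    rw [← hχ, ← Category.assoc]
    congr 1
    exact CartesianMonoidalCategory.hom_ext _ _ (by simp) (toUnit_unique _ _)
  have heq : a.act ≫ φ = (G ◁ φ) ≫ b.act := by
    have hl : HasLocSec Scheme.fpqcTopology ((G ⊗ P) ◁ toUnit T) := by
      refine (SchTorsor.hasLocSec_toUnit (X := T) ⟨Presieve.singleton T.hom, T.hom.singleton_mem_fpqcPrecoverage, ?_⟩).whiskerLeft _
      rintro S' f ⟨⟩
      exact ⟨𝟙 _, Category.id_comp _⟩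
    have hl' : ∀ {W : Over (Spec (CommRingCat.of R))} (r s : G ⊗ P ⟶ W),
        fst (G ⊗ P) T ≫ r = fst (G ⊗ P) T ≫ s → r = s := fun r s h => by
      rw [← cancel_epi (ρ_ (G ⊗ P)).hom]
      refine hl.hom_ext ?_
      rw [rightUnitor_hom, ← Category.assoc, ← Category.assoc, whiskerLeft_fst]
      exact h
    refine hl' _ _ ?_
    let gg := fst (G ⊗ P) T ≫ fst G P
    let x := fst (G ⊗ P) T ≫ snd G P
    let t := snd (G ⊗ P) T
    have e1 : fst (G ⊗ P) T ≫ a.act ≫ φ = lift (lift gg x ≫ a.act) t ≫ Ψ := by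
      have e : lift gg x = fst (G ⊗ P) T := by apply CartesianMonoidalCategory.hom_ext <;> simp [gg, x]
      rw [← hφ, lift_fst_assoc, e, Category.assoc]
    have e2 : fst (G ⊗ P) T ≫ (G ◁ φ) ≫ b.act = lift gg (lift x t ≫ Ψ) ≫ b.act := by
      rw [← hφ, lift_fst_assoc, ← Category.assoc]
      congr 1
      apply CartesianMonoidalCategory.hom_ext <;> simp [gg, x]
    have e3 : tdiv ha.1 (lift gg x ≫ a.act) (t ≫ p) = gg * tdiv ha.1 x (t ≫ p) :=
      tdiv_eq ha.1 (by rw [SchTorsor.act_assoc, tdiv_act])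
    rw [e1, e2, hpt, hpt]
    simp only [lift_fst, lift_snd_assoc]
    rw [e3, _root_.mul_assoc, SchTorsor.act_assoc]
  have := SchTorsor.isIso_of_equivariant ha hb.1 φ heq
  exact ⟨⟨asIso φ, heq⟩⟩

end Groth.Agent.NonAbLib
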