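import Groth.Agent.SchTorsor.NormalExt
import Mathlib.AlgebraicGeometry.Morphisms.Etale
import Mathlib.AlgebraicGeometry.Morphisms.QuasiFinite
import Mathlib.RingTheory.Unramified.LocalStructure
import Mathlib.RingTheory.Etale.QuasiFinite

/-!
# Sections of separated etale morphisms over normal integral schemes
-/

universe u

open CategoryTheory CategoryTheory.Limits AlgebraicGeometry TopologicalSpace Polynomial

namespace Groth.Agent.NonAbLib

/-- A standard etale algebra with a point in the fraction field of a normal domain has a section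
near any prime to which the point specialises. -/
theorem exists_algHom_away {R A K : Type u} [CommRing R] [IsDomain R] [IsIntegrallyClosed R] [CommRing A]
    [Algebra R A] [Algebra.Etale R A] [Field K] [Algebra R K] [IsFractionRing R K]
    (ψ : A →ₐ[R] K) (q : Ideal A) [q.IsPrime] (hq : RingHom.ker ψ ≤ q) :
    ∃ (g : R), g ∉ q.comap (algebraMap R A) ∧ ∃ (φ : A →ₐ[R] Localization.Away g)
      (l : Localization.Away g →ₐ[R] K), l.comp φ = ψ := by
  have : Algebra.IsEtaleAt R q := Algebra.FormallyEtale.comp R A _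
  obtain ⟨f, hfq, ⟨⟨P⟩⟩⟩ := Algebra.IsEtaleAt.exists_isStandardEtale (R := R) q
  let Af := Localization.Away f
  have hf0 : ψ f ≠ 0 := fun h => hfq (hq h)
  let ψf : Af →ₐ[R] K := IsLocalization.Away.liftAlgHom f (f := ψ) (IsUnit.mk0 _ hf0)
  have hψf : ∀ a, ψf (algebraMap A Af a) = ψ a := fun a => IsLocalization.Away.lift_eq f (IsUnit.mk0 _ hf0) a
  have hxf : aeval (ψf P.x) P.f = 0 := (P.hasMap.map ψf).1
  obtain ⟨r, hr⟩ := (IsIntegrallyClosed.isIntegral_iff (R := R) (x := ψf P.x)).1 ⟨P.f, P.monic_f, hxf⟩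
  have hg : P.g.eval r ∉ q.comap (algebraMap R A) := fun hmem => by
    let y := aeval P.x P.g
    obtain ⟨⟨a, ⟨_, n, rfl⟩⟩, ha⟩ := IsLocalization.surj (Submonoid.powers f)
      (y - algebraMap R Af (P.g.eval r))
    have hy : ψf (y - algebraMap R Af (P.g.eval r)) = 0 := by
      rw [map_sub, ψf.commutes, sub_eq_zero, ← aeval_algHom_apply, ← hr, aeval_algebraMap_apply_eq_algebraMap_eval]
    have haq : a ∈ q := hq (by
      show ψ a = 0
      rw [← hψf, ← ha, map_mul, hy, zero_mul])
    have hy' : y * algebraMap A Af (f ^ n) =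
        algebraMap A Af (a + algebraMap R A (P.g.eval r) * f ^ n) := by
      rw [map_add, ← ha, map_mul, ← IsScalarTower.algebraMap_apply]
      ring
    have hmem' : a + algebraMap R A (P.g.eval r) * f ^ n ∈ q := add_mem haq (q.mul_mem_right _ hmem)
    have hu : IsUnit (algebraMap A Af (a + algebraMap R A (P.g.eval r) * f ^ n)) := by
      rw [← hy']
      exact P.hasMap.2.mul (IsLocalization.map_units Af (⟨f ^ n, n, rfl⟩ : Submonoid.powers f))
    have hprime := IsLocalization.isPrime_of_isPrime_disjoint (Submonoid.powers f) Af q ‹_›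
      ((Ideal.disjoint_powers_iff_notMem_of_isPrime _).mpr hfq)
    exact hprime.ne_top (Ideal.eq_top_of_isUnit_mem _ (Ideal.mem_map_of_mem _ hmem') hu)
  have hg0 : algebraMap R K (P.g.eval r) ≠ 0 := by
    intro h
    rw [IsFractionRing.to_map_eq_zero_iff] at h
    exact hg (by rw [h]; exact zero_mem _)
  let Rg := Localization.Away (P.g.eval r)
  let l : Rg →ₐ[R] K := IsLocalization.Away.liftAlgHom (P.g.eval r) (f := Algebra.ofId R K) (IsUnit.mk0 _ hg0)
  have hm : P.HasMap (algebraMap R Rg r) := by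
    constructor
    · rw [aeval_algebraMap_apply_eq_algebraMap_eval]
      have : algebraMap R K (P.f.eval r) = 0 := by
        rw [← aeval_algebraMap_apply_eq_algebraMap_eval, hr]; exact hxf
      rw [IsFractionRing.to_map_eq_zero_iff] at this
      rw [this, map_zero]
    · rw [aeval_algebraMap_apply_eq_algebraMap_eval]
      exact IsLocalization.Away.algebraMap_isUnit _
  let φ : Af →ₐ[R] Rg := (P.P.lift _ hm).comp P.equivRing.toAlgHom
  refine ⟨P.g.eval r, hg, φ.comp (IsScalarTower.toAlgHom R A Af), l, ?_⟩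
  have key : (l.comp φ).comp P.equivRing.symm.toAlgHom = ψf.comp P.equivRing.symm.toAlgHom := by
    refine P.P.hom_ext ?_
    simp only [AlgHom.comp_apply, AlgEquiv.coe_toAlgHom, StandardEtalePresentation.equivRing_symm_X, φ]
    rw [StandardEtalePresentation.equivRing_x, StandardEtalePair.lift_X, AlgHom.commutes, hr]
  ext a
  have := AlgHom.congr_fun key (P.equivRing (algebraMap A Af a))
  simp only [AlgHom.comp_apply, AlgEquiv.coe_toAlgHom, AlgEquiv.symm_apply_apply] at this
  exact this.trans (hψf a)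

variable {X Y : Scheme.{u}} [AlgebraicGeometry.IsIntegral X]

/-- A section over the generic point of an etale morphism extends near any point to which it specialises. -/
theorem exists_lift_nhd (hX : Pi1.IsNormalScheme X) (g : Y ⟶ X) [Etale g]
    (t : Spec X.functionField ⟶ Y) (ht : t ≫ g = X.fromSpecStalk (genericPoint X))
    (e : Y) (he : ∀ z : Spec X.functionField, t z ⤳ e) :
    ∃ (W : Scheme.{u}) (j : W ⟶ X) (_ : IsOpenImmersion j), g e ∈ Set.range j ∧
      ∃ σ : W ⟶ Y, σ ≫ g = j ∧ ∀ z : Spec X.functionField ⟶ W,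
        z ≫ j = X.fromSpecStalk (genericPoint X) → z ≫ σ = t := by
  obtain ⟨U, hU, heU, -⟩ := exists_isAffineOpen_mem_and_subset (x := g e) (U := ⊤) trivial
  obtain ⟨V, hV, heV, hVU⟩ := exists_isAffineOpen_mem_and_subset (x := e) (U := g ⁻¹ᵁ U) heU
  have hη : genericPoint X ∈ U := SchTorsor.genericPoint_mem U heU
  have : Nonempty U := ⟨⟨_, hη⟩⟩
  haveI := (S9821.result X).1 hX U hU
  haveI := functionField_isFractionRing_of_isAffineOpen X U hU
  have hrange : Set.range t ⊆ Set.range hV.fromSpec := by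
    rintro _ ⟨z, rfl⟩
    rw [hV.range_fromSpec]
    exact (he z).mem_open V.isOpen heV
  obtain ⟨ψ, hψ⟩ := Spec.map_surjective (IsOpenImmersion.lift hV.fromSpec t hrange)
  have ht' : Spec.map ψ ≫ hV.fromSpec = t := by
    rw [hψ, IsOpenImmersion.lift_fac]
  let χ := g.appLE U V hVU
  have hgen : X.fromSpecStalk (genericPoint X) = Spec.map (X.presheaf.germ U (genericPoint X) hη) ≫ hU.fromSpec := by
    rw [← hU.fromSpecStalk_eq_fromSpecStalk hη]
    rfl
  have hA : χ ≫ ψ = X.presheaf.germ U (genericPoint X) hη := by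
    apply Spec.map_injective
    rw [← cancel_mono hU.fromSpec, ← hgen, ← ht, ← ht', Category.assoc, Spec.map_comp, Category.assoc,
      IsAffineOpen.SpecMap_appLE_fromSpec g hU hV hVU]
  letI : Algebra Γ(X, U) Γ(Y, V) := χ.hom.toAlgebra
  have : Algebra.Etale Γ(X, U) Γ(Y, V) := HasRingHomProperty.appLE @Etale g inferInstance ⟨U, hU⟩ ⟨V, hV⟩ hVU
  let ψ' : Γ(Y, V) →ₐ[Γ(X, U)] X.functionField :=
    { ψ.hom with commutes' := fun a => congr($(hA) a) }
  let q : ↥(Spec Γ(Y, V)) := hV.primeIdealOf ⟨e, heV⟩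
  have hq : RingHom.ker ψ' ≤ q.asIdeal := by
    let z : ↥(Spec X.functionField) := IsLocalRing.closedPoint X.functionField
    let p := Spec.map ψ z
    have hp : p ⤳ q := by
      refine hV.fromSpec.isOpenEmbedding.isInducing.specializes_iff.1 ?_
      have h1 : hV.fromSpec p = t z := by rw [← Scheme.Hom.comp_apply, ht']
      rw [h1, hV.fromSpec_primeIdealOf]
      exact he z
    refine le_trans (fun a ha => ?_) ((PrimeSpectrum.le_iff_specializes p q).2 hp)
    show ψ.hom a ∈ (IsLocalRing.closedPoint X.functionField).asIdeal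
    rw [show ψ.hom a = 0 from ha]
    exact zero_mem _
  obtain ⟨r, hr, φ, l, hl⟩ := exists_algHom_away ψ' q.asIdeal hq
  let a := CommRingCat.ofHom (algebraMap Γ(X, U) (Localization.Away r))
  have hj : IsOpenImmersion (Spec.map a) := IsOpenImmersion.of_isLocalization r
  refine ⟨Spec (CommRingCat.of (Localization.Away r)), Spec.map a ≫ hU.fromSpec, inferInstance, ?_,
    Spec.map (CommRingCat.ofHom φ.toRingHom) ≫ hV.fromSpec, ?_, fun z hz => ?_⟩
  · have h1 : Spec.map χ q ∈ Set.range (Spec.map a) := by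
      erw [PrimeSpectrum.localization_away_comap_range (Localization.Away r) r]
      exact hr
    obtain ⟨w, hw⟩ := h1
    refine ⟨w, ?_⟩
    rw [Scheme.Hom.comp_apply, hw, ← Scheme.Hom.comp_apply, IsAffineOpen.SpecMap_appLE_fromSpec g hU hV hVU,
      Scheme.Hom.comp_apply, hV.fromSpec_primeIdealOf]
  · rw [Category.assoc, ← IsAffineOpen.SpecMap_appLE_fromSpec g hU hV hVU, ← Spec.map_comp_assoc]
    congr 2
    ext x
    exact φ.commutes x
  · have hz' : z = Spec.map (CommRingCat.ofHom l.toRingHom) := by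
      rw [← cancel_mono (Spec.map a ≫ hU.fromSpec), hz, hgen, ← Spec.map_comp_assoc]
      congr 2
      ext x
      exact (l.commutes x).symm
    rw [hz', ← ht', ← Spec.map_comp_assoc]
    congr 2
    ext x
    exact AlgHom.congr_fun hl x

/-- A point over the generic point of a separated etale scheme over a normal integral scheme extends to
a section as soon as it specialises to some point over every point of the base. -/
theorem exists_section_of_etale (hX : Pi1.IsNormalScheme X) (g : Y ⟶ X) [Etale g] [IsSeparated g]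
    (t : Spec X.functionField ⟶ Y) (ht : t ≫ g = X.fromSpecStalk (genericPoint X))
    (he : ∀ x : X, ∃ e : Y, g e = x ∧ ∀ z : Spec X.functionField, t z ⤳ e) :
    ∃ σ : X ⟶ Y, σ ≫ g = 𝟙 X ∧ X.fromSpecStalk (genericPoint X) ≫ σ = t := by
  choose e hge hspec using he
  choose W j hj hmem σ hσ hσt using fun x => exists_lift_nhd hX g t ht (e x) (hspec x)
  have hmem' : ∀ x, x ∈ Set.range (j x) := fun x => by simpa [hge] using hmem x
  let 𝒰 : X.OpenCover :=
    { I₀ := X
      X := W
      f := j
      mem₀ := by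
        rw [Scheme.ofArrows_mem_precoverage_iff]
        exact ⟨fun x => ⟨x, hmem' x⟩, hj⟩ }
  have hcompat : ∀ x y : X, pullback.fst (𝒰.f x) (𝒰.f y) ≫ σ x = pullback.snd (𝒰.f x) (𝒰.f y) ≫ σ y := by
    intro x y
    have := hj x
    have := hj y
    refine SchTorsor.hom_ext_generic (pullback.fst (j x) (j y) ≫ j x) g ?_ ?_ fun z hz => ?_
    · rw [Category.assoc, hσ]
    · rw [Category.assoc, hσ, pullback.condition]
    · rw [← Category.assoc, ← Category.assoc, hσt x _ (by rw [Category.assoc]; exact hz),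
        hσt y _ (by rw [Category.assoc, ← pullback.condition]; exact hz)]
  refine ⟨𝒰.glueMorphisms σ hcompat, ?_, ?_⟩
  · refine 𝒰.hom_ext _ _ fun x => ?_
    rw [Scheme.Cover.ι_glueMorphisms_assoc, Category.comp_id]
    exact hσ x
  · let x := genericPoint X
    have := hj x
    have hsub : Set.range (X.fromSpecStalk x) ⊆ Set.range (j x) := by
      rintro _ ⟨z, rfl⟩
      have hz : X.fromSpecStalk x z ⤳ x := by
        have : X.fromSpecStalk x z ∈ Set.range (X.fromSpecStalk x) := ⟨z, rfl⟩
        rwa [Scheme.range_fromSpecStalk] at this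
      exact hz.mem_open (j x).opensRange.isOpen (hmem' x)
    have h1 : j x ≫ 𝒰.glueMorphisms σ hcompat = σ x := Scheme.Cover.ι_glueMorphisms 𝒰 σ hcompat x
    rw [← IsOpenImmersion.lift_fac (j x) _ hsub, Category.assoc, h1]
    exact hσt x _ (IsOpenImmersion.lift_fac _ _ _)

section Field

variable {k : Type u} [Field k]

/-- Base changes of separated etale schemes over a field are specializing. -/
theorem specializingMap_pullback_snd {G T : Scheme.{u}} (f : G ⟶ Spec (CommRingCat.of k)) [Etale f]
    (b : T ⟶ Spec (CommRingCat.of k)) : SpecializingMap (pullback.snd f b) := by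
  intro z t ht
  let p := pullback.fst f b z
  have hlqf : LocallyQuasiFinite f := by
    rw [HasRingHomProperty.iff_appLE (P := @LocallyQuasiFinite)]
    intro U₀ W₀ e'
    have := HasRingHomProperty.appLE @Etale f inferInstance U₀ W₀ e'
    algebraize [(f.appLE U₀.1 W₀.1 e').hom]
    exact (inferInstance : Algebra.QuasiFinite Γ(Spec (CommRingCat.of k), U₀.1) Γ(G, W₀.1))
  have hdisc : DiscreteTopology G := by
    let c : ↥(Spec (CommRingCat.of k)) := IsLocalRing.closedPoint k
    have h1 : _root_.IsDiscrete (f ⁻¹' {c}) := f.isDiscrete_preimage_singleton c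
    have h2 : f ⁻¹' {c} = Set.univ := Set.eq_univ_of_forall fun x => Set.mem_singleton_iff.2 (Subsingleton.elim _ _)
    rw [h2] at h1
    exact isDiscrete_univ_iff.1 h1
  let U : G.Opens := ⟨{p}, isOpen_discrete _⟩
  have : CompactSpace (U : Scheme.{u}) := isCompact_iff_compactSpace.mp isCompact_singleton
  have : QuasiCompact (U.ι ≫ f) := quasiCompact_of_compactSpace _
  have : IsFinite (U.ι ≫ f) := IsFinite.of_locallyQuasiFinite _
  let m : pullback (U.ι ≫ f) b ⟶ pullback f b :=
    pullback.map _ _ _ _ U.ι (𝟙 _) (𝟙 _) (by simp) (by simp)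
  have hm : m ≫ pullback.snd f b = pullback.snd (U.ι ≫ f) b :=
    (pullback.lift_snd _ _ _).trans (Category.comp_id _)
  have hz : z ∈ Set.range m := by
    have hr := Scheme.Pullback.range_map
      (U.ι ≫ f) b f b U.ι (𝟙 _) (𝟙 _) (by simp) (by simp)
    rw [hr]
    exact ⟨⟨⟨p, rfl⟩, rfl⟩, pullback.snd f b z, by simp⟩
  obtain ⟨w, hw₀⟩ := hz
  obtain ⟨w', hw', hw''⟩ := (pullback.snd (U.ι ≫ f) b).isClosedMap.specializingMap (a := w) (b := t)
    (show pullback.snd (U.ι ≫ f) b w ⤳ t by rw [← hm, Scheme.Hom.comp_apply, hw₀]; exact ht)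
  exact ⟨m w', hw₀ ▸ hw'.map m.continuous, by rw [← Scheme.Hom.comp_apply, hm]; exact hw''⟩

end Field

end Groth.Agent.NonAbLib
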