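import Groth.Agent.NonAbLib.EtaleNormal
import Groth.Agent.NonAbLib.TorsorSch
import Groth.Agent.SchTorsor.Props
import Groth.Agent.EtFound.Descent
import Groth.Agent.GrpSchLib.AntiAffineHom
import Groth.Prelude.Def_ActBC

/-!
# Torsors under etale groups over a field, on normal integral schemes
-/

universe u

open CategoryTheory CategoryTheory.Limits MonoidalCategory CartesianMonoidalCategory MonObj GrpObj AlgebraicGeometry

namespace Groth.Agent.NonAbLib

variable {k : Type u} [Field k] {G : Over (Spec (CommRingCat.of k))} [GrpObj G]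
  {S : Scheme.{u}} {s : S ⟶ Spec (CommRingCat.of k)}

theorem isSeparated_grp_field (G : Over (Spec (CommRingCat.of k))) [GrpObj G] : IsSeparated G.hom :=
  GrpSchLib.AntiAffine.isSeparated_grp G

theorem isSeparated_torsor {E : Over S} {a : AlgGrp.Action (Red.bc s G) E}
    (h : NonAbH1.IsTorsorFor Scheme.fpqcPrecoverage a) : IsSeparated E.hom := by
  have := EtFound.fpqc_isSeparated.{u}
  have := isSeparated_grp_field G
  exact SchTorsor.torsor_property @IsSeparated h (inferInstanceAs (IsSeparated (pullback.snd G.hom s)))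

theorem etale_torsor [Etale G.hom] {E : Over S} {a : AlgGrp.Action (Red.bc s G) E}
    (h : NonAbH1.IsTorsorFor Scheme.fpqcPrecoverage a) : Etale E.hom :=
  have : IsZariskiLocalAtTarget (@Etale : MorphismProperty Scheme.{u}) :=
    HasRingHomProperty.instIsZariskiLocalAtTarget _
  SchTorsor.torsor_property @Etale h (inferInstanceAs (Etale (pullback.snd G.hom s)))

variable [AlgebraicGeometry.IsIntegral S]

theorem exists_section_of_generic [Etale G.hom] (hS : Pi1.IsNormalScheme S)
    (E : NonAbH1.TorsorSch (Red.bc s G) Scheme.fppfPrecoverage)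
    (t : Spec S.functionField ⟶ E.X.left) (ht : t ≫ E.X.hom = S.fromSpecStalk (genericPoint S)) :
    ∃ σ : S ⟶ E.X.left, σ ≫ E.X.hom = 𝟙 S ∧ S.fromSpecStalk (genericPoint S) ≫ σ = t := by
  have hE := torsor_mono fppf_le_fpqc E.isTorsor
  have := isSeparated_torsor hE
  have := etale_torsor hE
  refine exists_section_of_etale hS E.X.hom t ht fun x => ?_
  obtain ⟨Z, p, _, _, _, sec, hsec⟩ := exists_single_fppf E.isTorsor.2
  let σ : Over.mk p ⟶ E.X := Over.homMk sec hsec
  let e := lift ((Red.bc s G ◁ σ) ≫ E.act.act) (snd (Red.bc s G) (Over.mk p))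
  have : IsIso e := SchTorsor.isIso_of_section E.isTorsor.1 σ
  let w : pullback G.hom (p ≫ s) ⟶ pullback E.X.hom p :=
    (pullbackLeftPullbackSndIso G.hom s p).inv ≫ e.left
  have : IsIso w := by
    have : IsIso e.left := (Over.forget S).map_isIso e
    exact IsIso.comp_isIso
  have hw : w ≫ pullback.snd E.X.hom p = pullback.snd G.hom (p ≫ s) := by
    have h1 : e ≫ snd E.X (Over.mk p) = snd (Red.bc s G) (Over.mk p) := lift_snd _ _
    have h2 : e.left ≫ pullback.snd E.X.hom p = pullback.snd (pullback.snd G.hom s) p :=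
      congrArg CommaMorphism.left h1
    rw [Category.assoc, h2, pullbackLeftPullbackSndIso_inv_snd_snd]
  obtain ⟨z', hz'⟩ := p.surjective x
  obtain ⟨η', hη', hη''⟩ := Flat.generalizingMap p (a := z') (b := genericPoint S)
    (by rw [hz']; exact genericPoint_specializes x)
  let pt : ↥(Spec S.functionField) := IsLocalRing.closedPoint S.functionField
  have hpt : E.X.hom (t pt) = genericPoint S := by
    rw [← Scheme.Hom.comp_apply, ht]
    exact Scheme.fromSpecStalk_closedPoint
  obtain ⟨y, hy₁, hy₂⟩ := Scheme.Pullback.exists_preimage_pullback (f := E.X.hom) (g := p) (t pt) η'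
    (hpt.trans hη''.symm)
  obtain ⟨c, rfl⟩ := w.surjective y
  rw [← Scheme.Hom.comp_apply w, hw] at hy₂
  obtain ⟨c', hc', hc''⟩ := specializingMap_pullback_snd G.hom (p ≫ s) (a := c)
    (show pullback.snd G.hom (p ≫ s) c ⤳ z' by rw [hy₂]; exact hη')
  refine ⟨pullback.fst E.X.hom p (w c'), ?_, fun z => ?_⟩
  · rw [← Scheme.Hom.comp_apply, pullback.condition, Scheme.Hom.comp_apply, ← Scheme.Hom.comp_apply w, hw]
    exact (congrArg p hc'').trans hz'
  · rw [@Subsingleton.elim _ (inferInstanceAs (Subsingleton (PrimeSpectrum S.functionField))) z pt, ← hy₁]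
    exact (hc'.map w.continuous).map (pullback.fst E.X.hom p).continuous

theorem residue_generic_isIso : IsIso (S.residue (genericPoint S)) :=
  (ConcreteCategory.isIso_iff_bijective _).2
    ⟨RingHom.injective (R := S.functionField) (S.residue (genericPoint S)).hom, S.residue_surjective _⟩

theorem fromSpecResidueField_generic :
    S.fromSpecResidueField (genericPoint S) =
      Spec.map (S.residue (genericPoint S)) ≫ S.fromSpecStalk (genericPoint S) := rfl

theorem exists_section_of_residueField [Etale G.hom] (hS : Pi1.IsNormalScheme S)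
    (E : NonAbH1.TorsorSch (Red.bc s G) Scheme.fppfPrecoverage)
    (x : Spec (S.residueField (genericPoint S)) ⟶ E.X.left)
    (hx : x ≫ E.X.hom = S.fromSpecResidueField (genericPoint S)) :
    ∃ σ : S ⟶ E.X.left, σ ≫ E.X.hom = 𝟙 S ∧ S.fromSpecResidueField (genericPoint S) ≫ σ = x := by
  have := residue_generic_isIso (S := S)
  obtain ⟨σ, hσ, hσ'⟩ := exists_section_of_generic hS E (inv (Spec.map (S.residue (genericPoint S))) ≫ x) (by
    rw [Category.assoc, hx, fromSpecResidueField_generic, IsIso.inv_hom_id_assoc])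
  exact ⟨σ, hσ, by rw [fromSpecResidueField_generic, Category.assoc, hσ', IsIso.hom_inv_id_assoc]⟩

theorem section_ext_residueField
    (E : NonAbH1.TorsorSch (Red.bc s G) Scheme.fppfPrecoverage)
    (σ₁ σ₂ : S ⟶ E.X.left) (h₁ : σ₁ ≫ E.X.hom = 𝟙 S) (h₂ : σ₂ ≫ E.X.hom = 𝟙 S)
    (h : S.fromSpecResidueField (genericPoint S) ≫ σ₁ = S.fromSpecResidueField (genericPoint S) ≫ σ₂) :
    σ₁ = σ₂ := by
  have := residue_generic_isIso (S := S)
  have := isSeparated_torsor (torsor_mono fppf_le_fpqc E.isTorsor)
  rw [fromSpecResidueField_generic, Category.assoc, Category.assoc, cancel_epi] at h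
  exact SchTorsor.section_ext E.X.hom h₁ h₂ h

end Groth.Agent.NonAbLib
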