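import Groth.Agent.SGA1Q.Exists
import Groth.Agent.SGA1Q.Free
import Groth.Agent.SGA1Q.BaseChange
import Groth.Prelude.Def_GalTw2
import Mathlib.FieldTheory.Galois.Basic

/-!
# Galois descent of schemes through quotients by finite groups
-/

universe u

open CategoryTheory CategoryTheory.Limits AlgebraicGeometry GalTw TopologicalSpace

namespace Groth.Agent.NonAbLib

section Section

variable {Z B : Scheme.{u}} {Γ : Type u} [Group Γ] [Finite Γ] {ρ : Γ →* Aut Z} {q : Z ⟶ B}

omit [Finite Γ] in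
theorem graphMap_fst (hinv : ∀ g : Γ, (ρ g).hom ≫ q = q) (g : Γ) :
    SGA1Q.graphMap hinv g ≫ pullback.fst q q = 𝟙 Z := pullback.lift_fst _ _ _

omit [Finite Γ] in
theorem graphMap_snd (hinv : ∀ g : Γ, (ρ g).hom ≫ q = q) (g : Γ) :
    SGA1Q.graphMap hinv g ≫ pullback.snd q q = (ρ g).hom := pullback.lift_snd _ _ _

/-- The translates of a section of a free quotient form a disjoint open cover. -/
theorem isIso_sigmaDesc_section (hq : SGA1.IsQuot ρ q) (hfree : SGA1Q.FreeOnGeomPoints ρ)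
    (s : B ⟶ Z) (hs : s ≫ q = 𝟙 B) : IsIso (Sigma.desc fun g : Γ => s ≫ (ρ g).hom) := by
  let c : Z ⟶ pullback q q := pullback.lift (q ≫ s) (𝟙 Z) (by
    rw [Category.assoc, hs, Category.comp_id, Category.id_comp])
  have hiso := SGA1Q.isIso_sigmaDesc_graphMap hfree hq
  have hc₁ : c ≫ pullback.fst q q = q ≫ s := pullback.lift_fst _ _ _
  have hc₂ : c ≫ pullback.snd q q = 𝟙 Z := pullback.lift_snd _ _ _
  have hjq : ∀ g : Γ, (s ≫ (ρ g).hom) ≫ q = 𝟙 B := fun g =>
    (Category.assoc _ _ _).trans ((congrArg (s ≫ ·) (hq.inv g)).trans hs)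
  have hj : ∀ g : Γ, IsPullback (s ≫ (ρ g).hom) s c (SGA1Q.graphMap hq.inv g) := by
    intro g
    have key : ∀ t : PullbackCone c (SGA1Q.graphMap hq.inv g),
        t.fst ≫ q ≫ s = t.snd ∧ t.fst = t.snd ≫ (ρ g).hom := fun t => by
      constructor
      · have := congrArg (· ≫ pullback.fst q q) t.condition
        simpa only [Category.assoc, hc₁, graphMap_fst, Category.comp_id] using this
      · have := congrArg (· ≫ pullback.snd q q) t.condition
        simpa only [Category.assoc, hc₂, graphMap_snd, Category.comp_id] using this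
    refine IsPullback.mk ⟨pullback.hom_ext ?_ ?_⟩ ⟨PullbackCone.IsLimit.mk _ (fun t => t.fst ≫ q) ?_ ?_ ?_⟩
    · rw [Category.assoc (_ ≫ _), hc₁, ← Category.assoc, hjq, Category.id_comp, Category.assoc, graphMap_fst,
        Category.comp_id]
    · rw [Category.assoc (_ ≫ _), hc₂, Category.comp_id, Category.assoc, graphMap_snd]
    · intro t
      refine Eq.trans ?_ ((congrArg (· ≫ (ρ g).hom) (key t).1).trans (key t).2.symm)
      simp only [Category.assoc]
    · intro t
      rw [Category.assoc]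
      exact (key t).1
    · intro t m hm₁ hm₂
      rw [← hm₁, Category.assoc]
      exact (Category.comp_id m).symm.trans (congrArg (m ≫ ·) (hjq g).symm)
  have hgi : ∀ g, IsOpenImmersion (SGA1Q.graphMap hq.inv g) := fun g => by
    rw [← Sigma.ι_desc (fun g : Γ => SGA1Q.graphMap hq.inv g) g]
    infer_instance
  have : ∀ g : Γ, IsOpenImmersion (s ≫ (ρ g).hom) := fun g =>
    MorphismProperty.of_isPullback (hj g).flip (hgi g)
  have hc : ∀ z, pullback.fst q q (c z) = s (q z) := fun z =>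
    congr(($(pullback.lift_fst (q ≫ s) (𝟙 Z) _)).base z)
  have hdisj : Pairwise (Function.onFun Disjoint fun g => Set.range (s ≫ (ρ g).hom)) := by
    intro g h hne
    refine Set.disjoint_left.2 ?_
    rintro _ ⟨x, rfl⟩ ⟨y, hy⟩
    have e1 : SGA1Q.graphMap hq.inv h (s y) = SGA1Q.graphMap hq.inv g (s x) := by
      rw [← Scheme.Hom.comp_apply, ← (hj h).w, Scheme.Hom.comp_apply, hy, ← Scheme.Hom.comp_apply, (hj g).w,
        Scheme.Hom.comp_apply]
    let S := Sigma.desc (fun g : Γ => SGA1Q.graphMap hq.inv g)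
    have hS : ∀ g z, S (Sigma.ι (fun _ : Γ => Z) g z) = SGA1Q.graphMap hq.inv g z := fun g z =>
      congr(($(Sigma.ι_desc (fun g : Γ => SGA1Q.graphMap hq.inv g) g)).base z)
    have e2 : S (Sigma.ι (fun _ : Γ => Z) h (s y)) = S (Sigma.ι (fun _ : Γ => Z) g (s x)) := by
      rw [hS, hS]; exact e1
    have e3 := S.isOpenEmbedding.injective e2
    have := (sigmaMk (fun _ : Γ => Z)).injective (a₁ := ⟨h, s y⟩) (a₂ := ⟨g, s x⟩) (by simpa using e3)
    exact hne (congrArg Sigma.fst this).symm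
  have : IsOpenImmersion (Sigma.desc fun g : Γ => s ≫ (ρ g).hom) := isOpenImmersion_sigmaDesc _ _ hdisj
  have : Surjective (Sigma.desc fun g : Γ => s ≫ (ρ g).hom) := by
    refine ⟨fun z => ?_⟩
    obtain ⟨w, hw⟩ := (Sigma.desc (fun g : Γ => SGA1Q.graphMap hq.inv g)).surjective (c z)
    obtain ⟨⟨g, x⟩, rfl⟩ := (sigmaMk (fun _ : Γ => Z)).surjective w
    rw [sigmaMk_mk, ← Scheme.Hom.comp_apply, Sigma.ι_desc] at hw
    obtain ⟨b, hb, -⟩ := Scheme.exists_preimage_of_isPullback (hj g) z x hw.symm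
    exact ⟨Sigma.ι (fun _ : Γ => B) g b, by rw [← Scheme.Hom.comp_apply, Sigma.ι_desc]; exact hb⟩
  exact isIso_of_isOpenImmersion_of_opensRange_eq_top _
    (Opens.ext ((Sigma.desc fun g : Γ => s ≫ (ρ g).hom).surjective.range_eq))

end Section

variable {k : Type u} [Field k] {K : Type u} [Field K] [Algebra k K]

/-- An action on the underlying scheme lying over the Galois action is free. -/
theorem freeOnGeomPoints_of_over [Finite (K ≃ₐ[k] K)] {Z : Scheme.{u}} (v : Z ⟶ Spec (CommRingCat.of K))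
    (ρ : (K ≃ₐ[k] K) →* Aut Z) (hv : ∀ σ, (ρ σ).hom ≫ v = v ≫ specMap K σ⁻¹) :
    SGA1Q.FreeOnGeomPoints ρ := by
  intro Ω _ _ ξ σ h
  have h' : ξ ≫ v ≫ specMap K σ⁻¹ = ξ ≫ v := by rw [← hv, reassoc_of% h]
  obtain ⟨φ, hφ⟩ := Spec.map_surjective (ξ ≫ v)
  rw [← Category.assoc, ← hφ, specMap, ← Spec.map_comp] at h'
  refine inv_eq_one.1 (AlgEquiv.ext fun x => φ.hom.injective ?_)
  exact congr($(Spec.map_injective h').hom x)

variable (K) in
/-- The Galois action on the scheme underlying a base change. -/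
noncomputable def galRep (X : Over (Spec (CommRingCat.of k))) : (K ≃ₐ[k] K) →* Aut (bcK K X).left where
  toFun σ := (galIso K σ X).symm
  map_one' := Iso.ext (show galMap K (1 : K ≃ₐ[k] K)⁻¹ X = 𝟙 _ by rw [inv_one, galMap_one])
  map_mul' σ τ := Iso.ext (show galMap K (σ * τ)⁻¹ X = galMap K τ⁻¹ X ≫ galMap K σ⁻¹ X by
    rw [galMap_mul, mul_inv_rev])

theorem galRep_hom (X : Over (Spec (CommRingCat.of k))) (σ : K ≃ₐ[k] K) :
    (galRep K X σ).hom = galMap K σ⁻¹ X := rfl

instance : Subsingleton ↥(Spec (CommRingCat.of k)) := inferInstanceAs (Subsingleton (PrimeSpectrum k))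

variable [FiniteDimensional k K] [IsGalois k K]

omit [FiniteDimensional k K] [IsGalois k K] in
theorem galRep_snd (X : Over (Spec (CommRingCat.of k))) (σ : K ≃ₐ[k] K) :
    (galRep K X σ).hom ≫ (bcK K X).hom = (bcK K X).hom ≫ specMap K σ⁻¹ :=
  galMap_snd K σ⁻¹ X

theorem isQuot_galRep (X : Over (Spec (CommRingCat.of k))) :
    SGA1.IsQuot (galRep K X) (pullback.fst X.hom (SGA7.pt (K := k) K).hom) := by
  let ρ₀ : (K ≃ₐ[k] K) →* Aut (Spec (CommRingCat.of K)) :=
    { toFun := fun σ =>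
        { hom := specMap K σ⁻¹
          inv := specMap K σ
          hom_inv_id := by rw [← specMap_mul, inv_mul_cancel, specMap_one]
          inv_hom_id := by rw [← specMap_mul, mul_inv_cancel, specMap_one] }
      map_one' := Iso.ext (by show specMap K (1 : K ≃ₐ[k] K)⁻¹ = 𝟙 _; rw [inv_one, specMap_one])
      map_mul' := fun σ τ => Iso.ext (by
        show specMap K (σ * τ)⁻¹ = specMap K τ⁻¹ ≫ specMap K σ⁻¹
        rw [← specMap_mul, mul_inv_rev]) }
  have : Algebra.IsInvariant k K (K ≃ₐ[k] K) :=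
    ⟨fun x hx => IntermediateField.mem_bot.1 ((IsGalois.mem_bot_iff_fixed x).2 hx)⟩
  have h0 : SGA1.IsQuot ρ₀ (SGA7.pt (K := k) K).hom := by
    refine SGA1Q.isQuot_Spec (K ≃ₐ[k] K) K k ρ₀ (Set.ext fun f => ⟨?_, ?_⟩)
    · rintro ⟨σ, rfl⟩; exact ⟨σ⁻¹, rfl⟩
    · rintro ⟨σ, rfl⟩; exact ⟨σ⁻¹, by show specMap K σ⁻¹⁻¹ = _; rw [inv_inv]; rfl⟩
  exact SGA1Q.isQuot_baseChange h0 X.hom _ _ (IsPullback.of_hasPullback _ _).flip (galRep K X)
    (fun σ => galMap_snd K σ⁻¹ X) (fun σ => galMap_fst K σ⁻¹ X)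

omit [IsGalois k K] in
theorem freeOnGeomPoints_galRep (X : Over (Spec (CommRingCat.of k))) :
    SGA1Q.FreeOnGeomPoints (galRep K X) :=
  freeOnGeomPoints_of_over _ _ (galRep_snd X)

omit [FiniteDimensional k K] [IsGalois k K] in
theorem twHom_eq_self_iff {X Y : Over (Spec (CommRingCat.of k))} (f : bcK K Y ⟶ bcK K X) :
    (∀ σ, twHom σ f = f) ↔ ∀ σ, galMap K σ Y ≫ f.left = f.left ≫ galMap K σ X := by
  refine ⟨fun h σ => ?_, fun h σ => Over.OverMorphism.ext ?_⟩
  · conv_rhs => rw [← h σ]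
    simp
  · rw [twHom_left, reassoc_of% h σ, galMap_mul, mul_inv_cancel, galMap_one, Category.comp_id]

omit [FiniteDimensional k K] [IsGalois k K] in
theorem twHom_map {X Y : Over (Spec (CommRingCat.of k))} (g : Y ⟶ X) (σ : K ≃ₐ[k] K) :
    twHom σ ((Over.pullback (SGA7.pt (K := k) K).hom).map g) = (Over.pullback (SGA7.pt (K := k) K).hom).map g := by
  refine (twHom_eq_self_iff _).2 (fun τ => ?_) σ
  let pt := (SGA7.pt (K := k) K).hom
  have h1 : ((Over.pullback pt).map g).left ≫ pullback.fst X.hom pt = pullback.fst Y.hom pt ≫ g.left :=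
    pullback.lift_fst _ _ _
  have h2 : ((Over.pullback pt).map g).left ≫ pullback.snd X.hom pt = pullback.snd Y.hom pt :=
    pullback.lift_snd _ _ _
  refine pullback.hom_ext ?_ ?_
  · simp only [Category.assoc, pt] at *
    rw [galMap_fst, h1, galMap_fst_assoc]
  · simp only [Category.assoc, pt] at *
    rw [galMap_snd, reassoc_of% h2, h2, galMap_snd]

/-- Galois invariant morphisms between base changes descend. -/
theorem exists_desc_hom {X Y : Over (Spec (CommRingCat.of k))} (f : bcK K Y ⟶ bcK K X)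
    (hf : ∀ σ, twHom σ f = f) :
    ∃! g : Y ⟶ X, (Over.pullback (SGA7.pt (K := k) K).hom).map g = f := by
  let pt := (SGA7.pt (K := k) K).hom
  have hq := isQuot_galRep (K := K) Y
  have hinv : ∀ σ, (galRep K Y σ).hom ≫ f.left ≫ pullback.fst X.hom pt = f.left ≫ pullback.fst X.hom pt :=
    fun σ => by rw [galRep_hom, reassoc_of% (twHom_eq_self_iff f).1 hf σ⁻¹, galMap_fst]
  obtain ⟨g, hg, -⟩ := SGA1Q.desc_existsUnique_isQuot hq (f.left ≫ pullback.fst X.hom pt) hinv
  have hw : f.left ≫ pullback.snd X.hom pt = pullback.snd Y.hom pt := Over.w f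
  have hgX : g ≫ X.hom = Y.hom := by
    refine (SGA1Q.desc_existsUnique_isQuot hq (pullback.fst Y.hom pt ≫ Y.hom) fun σ => ?_).unique ?_ rfl
    · rw [← Category.assoc, hq.inv]
    · rw [← Category.assoc, hg, Category.assoc, pullback.condition, ← Category.assoc, hw, pullback.condition]
  refine ⟨Over.homMk g hgX, Over.OverMorphism.ext (pullback.hom_ext ?_ ?_), fun g' hg' =>
    Over.OverMorphism.ext ?_⟩
  · exact (pullback.lift_fst _ _ _).trans hg
  · exact (pullback.lift_snd _ _ _).trans hw.symm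
  · refine (SGA1Q.desc_existsUnique_isQuot hq (f.left ≫ pullback.fst X.hom pt) hinv).unique ?_ hg
    rw [← hg']
    exact (pullback.lift_fst _ _ _).symm

theorem map_pullback_injective {X Y : Over (Spec (CommRingCat.of k))} {g g' : Y ⟶ X}
    (h : (Over.pullback (SGA7.pt (K := k) K).hom).map g = (Over.pullback (SGA7.pt (K := k) K).hom).map g') :
    g = g' :=
  (exists_desc_hom _ (twHom_map g')).unique h rfl

end Groth.Agent.NonAbLib
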