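import Groth.Agent.NonAbLib.GlueRing
import Groth.Agent.S15769
import Groth.Prelude.Def_ActBC
import Mathlib.AlgebraicGeometry.Morphisms.Flat
import Mathlib.RingTheory.Localization.BaseChange
import Mathlib.Algebra.Category.Ring.Constructions

/-!
# Glueing morphisms from flat schemes to quasi-affine ones
-/

universe u

open CategoryTheory CategoryTheory.Limits AlgebraicGeometry TopologicalSpace TensorProduct

namespace Groth.Agent.NonAbLib

variable {A A' : Type u} [CommRing A] [CommRing A'] [Algebra A A'] {t : A}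

local notation "uA" => Spec.map (CommRingCat.ofHom (algebraMap A A'))
local notation "ut" => Spec.map (CommRingCat.ofHom (algebraMap A (Localization.Away t)))

theorem glue_affine (h : GlueSetup (algebraMap A A') t) {X : Scheme.{u}} [X.IsQuasiAffine]
    (p : X ⟶ Spec (CommRingCat.of A)) {B : Type u} [CommRing B] [Algebra A B] [Module.Flat A B] :
    (∀ g₁ g₂ : Spec (CommRingCat.of B) ⟶ X,
      g₁ ≫ p = Spec.map (CommRingCat.ofHom (algebraMap A B)) →
      g₂ ≫ p = Spec.map (CommRingCat.ofHom (algebraMap A B)) →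
      pullback.fst (Spec.map (CommRingCat.ofHom (algebraMap A B))) uA ≫ g₁ =
        pullback.fst (Spec.map (CommRingCat.ofHom (algebraMap A B))) uA ≫ g₂ →
      pullback.fst (Spec.map (CommRingCat.ofHom (algebraMap A B))) ut ≫ g₁ =
        pullback.fst (Spec.map (CommRingCat.ofHom (algebraMap A B))) ut ≫ g₂ → g₁ = g₂) ∧
    ∀ (a : pullback (Spec.map (CommRingCat.ofHom (algebraMap A B))) uA ⟶ X)
      (c : pullback (Spec.map (CommRingCat.ofHom (algebraMap A B))) ut ⟶ X),
      a ≫ p = pullback.fst _ _ ≫ Spec.map (CommRingCat.ofHom (algebraMap A B)) →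
      c ≫ p = pullback.fst _ _ ≫ Spec.map (CommRingCat.ofHom (algebraMap A B)) →
      (∀ (T : Scheme.{u}) (x : T ⟶ pullback (Spec.map (CommRingCat.ofHom (algebraMap A B))) uA)
        (y : T ⟶ pullback (Spec.map (CommRingCat.ofHom (algebraMap A B))) ut),
        x ≫ pullback.fst _ _ = y ≫ pullback.fst _ _ → x ≫ a = y ≫ c) →
      ∃ g : Spec (CommRingCat.of B) ⟶ X, g ≫ p = Spec.map (CommRingCat.ofHom (algebraMap A B)) ∧
        pullback.fst _ _ ≫ g = a ∧ pullback.fst _ _ ≫ g = c := by
  let f := Spec.map (CommRingCat.ofHom (algebraMap A B))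
  let tB := algebraMap A B t
  have hB := h.baseChange (B := B)
  let fX : pullback p f ⟶ X := pullback.fst p f
  let pX : pullback p f ⟶ Spec (CommRingCat.of B) := pullback.snd p f
  have : IsAffineHom fX :=
    isAffineHom_isStableUnderBaseChange.of_isPullback (IsPullback.of_hasPullback p f).flip inferInstance
  have : (pullback p f).IsQuasiAffine := Scheme.IsQuasiAffine.of_isAffineHom fX
  obtain ⟨huniq, hex⟩ := S15769.result B (B ⊗[A] A') (algebraMap B (B ⊗[A] A')) tB hB.bij hB.tor (pullback p f) pX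
  let uB := Spec.map (CommRingCat.ofHom (algebraMap B (B ⊗[A] A')))
  let uBt := Spec.map (CommRingCat.ofHom (algebraMap B (Localization.Away tB)))
  let eA := pullbackSpecIso A B A'
  have heA : eA.hom ≫ uB = pullback.fst f uA := pullbackSpecIso_hom_fst' A B A'
  let m := Localization.awayMap (algebraMap A B) t
  have hm : m.comp (algebraMap A (Localization.Away t)) = (algebraMap B (Localization.Away tB)).comp (algebraMap A B) :=
    IsLocalization.map_comp _
  have hpo : IsPushout (CommRingCat.ofHom (algebraMap A B)) (CommRingCat.ofHom (algebraMap A (Localization.Away t)))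
      (CommRingCat.ofHom (algebraMap B (Localization.Away tB))) (CommRingCat.ofHom m) := by
    have : IsLocalization ((Submonoid.powers t).map (algebraMap A B)) (Localization.Away tB) := by
      rw [Submonoid.map_powers]; infer_instance
    exact CommRingCat.isPushout_of_isLocalization (algebraMap A B) m hm (Submonoid.powers t)
  have hpb : IsPullback uBt (Spec.map (CommRingCat.ofHom m)) f ut :=
    isPullback_SpecMap_of_isPushout _ _ _ _ hpo
  let et := hpb.isoPullback
  have het : et.hom ≫ pullback.fst f ut = uBt := hpb.isoPullback_hom_fst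
  refine ⟨fun g₁ g₂ h₁ h₂ e₁ e₂ => ?_, fun a c ha hc hcompat => ?_⟩
  · have := huniq (pullback.lift g₁ (𝟙 _) (by rw [h₁, Category.id_comp]))
      (pullback.lift g₂ (𝟙 _) (by rw [h₂, Category.id_comp])) (pullback.lift_snd _ _ _) (pullback.lift_snd _ _ _)
      (pullback.hom_ext
        (by
          show (uB ≫ _) ≫ _ = (uB ≫ _) ≫ _
          simp only [Category.assoc, pullback.lift_fst]
          rw [← cancel_epi eA.hom, reassoc_of% heA, reassoc_of% heA, e₁])
        (by simp only [Category.assoc, pullback.lift_snd]))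
      (pullback.hom_ext
        (by
          show (uBt ≫ _) ≫ _ = (uBt ≫ _) ≫ _
          simp only [Category.assoc, pullback.lift_fst]
          rw [← het, Category.assoc, Category.assoc, e₂])
        (by simp only [Category.assoc, pullback.lift_snd]))
    simpa only [pullback.lift_fst] using congrArg (· ≫ pullback.fst p f) this
  · let x' : Spec (CommRingCat.of (B ⊗[A] A')) ⟶ pullback p f := pullback.lift (eA.inv ≫ a) uB (by
      rw [Category.assoc, ha, ← heA, Category.assoc, Iso.inv_hom_id_assoc])
    let xt : Spec (CommRingCat.of (Localization.Away tB)) ⟶ pullback p f := pullback.lift (et.hom ≫ c) uBt (by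
      rw [Category.assoc, hc, reassoc_of% het])
    let j₁ := Spec.map (CommRingCat.ofHom (algebraMap (B ⊗[A] A') (Localization.Away (algebraMap B (B ⊗[A] A') tB))))
    let j₂ := Spec.map (CommRingCat.ofHom (Localization.awayMap (algebraMap B (B ⊗[A] A')) tB))
    have hj : j₁ ≫ uB = j₂ ≫ uBt := by
      simp only [j₁, j₂, uB, uBt, ← Spec.map_comp, ← CommRingCat.ofHom_comp]
      congr 2
      exact (IsLocalization.map_comp _).symm
    obtain ⟨s, hs, hs', hst⟩ := hex x' xt (pullback.lift_snd _ _ _) (pullback.lift_snd _ _ _) (pullback.hom_ext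
      (by
        show (j₁ ≫ x') ≫ _ = (j₂ ≫ xt) ≫ _
        simp only [Category.assoc, x', xt, pullback.lift_fst]
        have := hcompat _ (j₁ ≫ eA.inv) (j₂ ≫ et.hom) (by
          rw [Category.assoc, Category.assoc, het, ← heA, Iso.inv_hom_id_assoc, hj])
        simpa only [Category.assoc] using this)
      (by
        show (j₁ ≫ x') ≫ _ = (j₂ ≫ xt) ≫ _
        simp only [Category.assoc, x', xt, pullback.lift_snd]
        exact hj))
    refine ⟨s ≫ fX, ?_, ?_, ?_⟩
    · rw [Category.assoc, show fX ≫ p = pX ≫ f from pullback.condition, reassoc_of% hs]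
    · rw [← heA, Category.assoc, show uB ≫ s ≫ fX = x' ≫ fX from by rw [reassoc_of% hs'],
        show x' ≫ fX = eA.inv ≫ a from pullback.lift_fst _ _ _, Iso.hom_inv_id_assoc]
    · rw [← cancel_epi et.hom, reassoc_of% het, show uBt ≫ s ≫ fX = xt ≫ fX from by rw [reassoc_of% hst],
        show xt ≫ fX = et.hom ≫ c from pullback.lift_fst _ _ _]

variable (h : GlueSetup (algebraMap A A') t) {U X : Scheme.{u}} (f : U ⟶ Spec (CommRingCat.of A)) [Flat f]
  [X.IsQuasiAffine] (p : X ⟶ Spec (CommRingCat.of A))

include h in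
theorem glue_unique_scheme {g₁ g₂ : U ⟶ X} (h₁ : g₁ ≫ p = f) (h₂ : g₂ ≫ p = f)
    (e₁ : pullback.fst f uA ≫ g₁ = pullback.fst f uA ≫ g₂)
    (e₂ : pullback.fst f ut ≫ g₁ = pullback.fst f ut ≫ g₂) : g₁ = g₂ := by
  refine U.affineOpenCover.openCover.hom_ext _ _ fun i => ?_
  let j : Spec (U.affineOpenCover.X i) ⟶ U := U.affineOpenCover.f i
  obtain ⟨φ, hφ⟩ := Spec.map_surjective (j ≫ f)
  let : Algebra A (U.affineOpenCover.X i) := φ.hom.toAlgebra
  have : IsOpenImmersion j := U.affineOpenCover.map_prop i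
  have : Flat j := inferInstance
  have : Flat (Spec.map φ) := by rw [hφ]; infer_instance
  have : Module.Flat A (U.affineOpenCover.X i) := Flat.SpecMap_iff.1 this
  have hmap : Spec.map (CommRingCat.ofHom (algebraMap A (U.affineOpenCover.X i))) = j ≫ f := hφ
  refine (glue_affine h p (B := (U.affineOpenCover.X i))).1 (j ≫ g₁) (j ≫ g₂) ?_ ?_ ?_ ?_
  · exact (Category.assoc _ _ _).trans ((congrArg (j ≫ ·) h₁).trans hmap.symm)
  · exact (Category.assoc _ _ _).trans ((congrArg (j ≫ ·) h₂).trans hmap.symm)
  · let m := pullback.map (Spec.map (CommRingCat.ofHom (algebraMap A (U.affineOpenCover.X i)))) uA f uA j (𝟙 _) (𝟙 _)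
      (by simp [hmap]) (by simp)
    have hm : m ≫ pullback.fst f uA = pullback.fst _ _ ≫ j := pullback.lift_fst _ _ _
    rw [← reassoc_of% hm, e₁, reassoc_of% hm]
  · let m := pullback.map (Spec.map (CommRingCat.ofHom (algebraMap A (U.affineOpenCover.X i)))) ut f ut j (𝟙 _) (𝟙 _)
      (by simp [hmap]) (by simp)
    have hm : m ≫ pullback.fst f ut = pullback.fst _ _ ≫ j := pullback.lift_fst _ _ _
    rw [← reassoc_of% hm, e₂, reassoc_of% hm]

include h in
theorem glue_exists_scheme (a : pullback f uA ⟶ X) (c : pullback f ut ⟶ X)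
    (ha : a ≫ p = pullback.fst f uA ≫ f) (hc : c ≫ p = pullback.fst f ut ≫ f)
    (hcompat : ∀ (T : Scheme.{u}) (x : T ⟶ pullback f uA) (y : T ⟶ pullback f ut),
      x ≫ pullback.fst f uA = y ≫ pullback.fst f ut → x ≫ a = y ≫ c) :
    ∃ g : U ⟶ X, g ≫ p = f ∧ pullback.fst f uA ≫ g = a ∧ pullback.fst f ut ≫ g = c := by
  let 𝒰 := U.affineOpenCover.openCover
  have hloc : ∀ i, ∃ g : 𝒰.X i ⟶ X, g ≫ p = 𝒰.f i ≫ f ∧
      (∀ (T : Scheme.{u}) (x : T ⟶ pullback f uA) (y : T ⟶ 𝒰.X i),
        y ≫ 𝒰.f i = x ≫ pullback.fst f uA → y ≫ g = x ≫ a) ∧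
      (∀ (T : Scheme.{u}) (x : T ⟶ pullback f ut) (y : T ⟶ 𝒰.X i),
        y ≫ 𝒰.f i = x ≫ pullback.fst f ut → y ≫ g = x ≫ c) := by
    intro i
    let j : Spec (U.affineOpenCover.X i) ⟶ U := U.affineOpenCover.f i
    obtain ⟨φ, hφ⟩ := Spec.map_surjective (j ≫ f)
    let : Algebra A (U.affineOpenCover.X i) := φ.hom.toAlgebra
    have : IsOpenImmersion j := U.affineOpenCover.map_prop i
    have : Flat j := inferInstance
    have : Flat (Spec.map φ) := by rw [hφ]; infer_instance
    have : Module.Flat A (U.affineOpenCover.X i) := Flat.SpecMap_iff.1 this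
    let fi := Spec.map (CommRingCat.ofHom (algebraMap A (U.affineOpenCover.X i)))
    have hmap : fi = j ≫ f := hφ
    let mA : pullback fi uA ⟶ pullback f uA := pullback.lift (pullback.fst fi uA ≫ j) (pullback.snd fi uA)
      (by rw [← pullback.condition, hmap, Category.assoc])
    let mt : pullback fi ut ⟶ pullback f ut := pullback.lift (pullback.fst fi ut ≫ j) (pullback.snd fi ut)
      (by rw [← pullback.condition, hmap, Category.assoc])
    have hmA : mA ≫ pullback.fst f uA = pullback.fst fi uA ≫ j := pullback.lift_fst _ _ _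
    have hmt : mt ≫ pullback.fst f ut = pullback.fst fi ut ≫ j := pullback.lift_fst _ _ _
    obtain ⟨g, hg, hga, hgc⟩ := (glue_affine h p (B := (U.affineOpenCover.X i))).2 (mA ≫ a) (mt ≫ c)
      (by rw [Category.assoc, ha, reassoc_of% hmA]; exact (congrArg (pullback.fst fi uA ≫ ·) hmap).symm)
      (by rw [Category.assoc, hc, reassoc_of% hmt]; exact (congrArg (pullback.fst fi ut ≫ ·) hmap).symm)
      (fun T x y e => by
        have := hcompat T (x ≫ mA) (y ≫ mt) (by rw [Category.assoc, Category.assoc, hmA, hmt, reassoc_of% e])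
        simpa only [Category.assoc] using this)
    refine ⟨g, hg.trans hmap, fun T x y e => ?_, fun T x y e => ?_⟩
    · let z : T ⟶ pullback fi uA := pullback.lift y (x ≫ pullback.snd f uA) (by
        rw [Category.assoc, ← pullback.condition, hmap, ← Category.assoc]
        exact (congrArg (· ≫ f) e).trans (Category.assoc _ _ _))
      have hz : z ≫ mA = x := pullback.hom_ext
        (by rw [Category.assoc, hmA]; exact (pullback.lift_fst_assoc _ _ _ _).trans e)
        (by rw [Category.assoc, pullback.lift_snd]; exact pullback.lift_snd _ _ _)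
      rw [← hz, Category.assoc, ← hga]
      exact (pullback.lift_fst_assoc _ _ _ _).symm
    · let z : T ⟶ pullback fi ut := pullback.lift y (x ≫ pullback.snd f ut) (by
        rw [Category.assoc, ← pullback.condition, hmap, ← Category.assoc]
        exact (congrArg (· ≫ f) e).trans (Category.assoc _ _ _))
      have hz : z ≫ mt = x := pullback.hom_ext
        (by rw [Category.assoc, hmt]; exact (pullback.lift_fst_assoc _ _ _ _).trans e)
        (by rw [Category.assoc, pullback.lift_snd]; exact pullback.lift_snd _ _ _)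
      rw [← hz, Category.assoc, ← hgc]
      exact (pullback.lift_fst_assoc _ _ _ _).symm
  choose g hgp hgA hgt using hloc
  have hglue : ∀ i i', pullback.fst (𝒰.f i) (𝒰.f i') ≫ g i = pullback.snd (𝒰.f i) (𝒰.f i') ≫ g i' := by
    intro i i'
    refine glue_unique_scheme h (pullback.fst (𝒰.f i) (𝒰.f i') ≫ 𝒰.f i ≫ f) p ?_ ?_ ?_ ?_
    · rw [Category.assoc, hgp]
    · rw [Category.assoc, hgp, pullback.condition_assoc]
    all_goals
      let q := pullback.fst (𝒰.f i) (𝒰.f i') ≫ 𝒰.f i
    · let x : pullback (pullback.fst (𝒰.f i) (𝒰.f i') ≫ 𝒰.f i ≫ f) uA ⟶ pullback f uA :=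
        pullback.lift (pullback.fst _ _ ≫ q) (pullback.snd _ _) (by
          simp only [q, Category.assoc]; exact pullback.condition)
      exact (Category.assoc _ _ _).symm.trans (((hgA i _ x _ ((Category.assoc _ _ _).trans (pullback.lift_fst _ _ _).symm)).trans
        (hgA i' _ x _ ((Category.assoc _ _ _).trans ((congrArg (_ ≫ ·) pullback.condition.symm).trans (pullback.lift_fst _ _ _).symm))).symm).trans (Category.assoc _ _ _))
    · let x : pullback (pullback.fst (𝒰.f i) (𝒰.f i') ≫ 𝒰.f i ≫ f) ut ⟶ pullback f ut :=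
        pullback.lift (pullback.fst _ _ ≫ q) (pullback.snd _ _) (by
          simp only [q, Category.assoc]; exact pullback.condition)
      exact (Category.assoc _ _ _).symm.trans (((hgt i _ x _ ((Category.assoc _ _ _).trans (pullback.lift_fst _ _ _).symm)).trans
        (hgt i' _ x _ ((Category.assoc _ _ _).trans ((congrArg (_ ≫ ·) pullback.condition.symm).trans (pullback.lift_fst _ _ _).symm))).symm).trans (Category.assoc _ _ _))
  refine ⟨𝒰.glueMorphisms g hglue, 𝒰.hom_ext _ _ fun i => by rw [Scheme.Cover.ι_glueMorphisms_assoc]; exact hgp i,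
    ?_, ?_⟩
  · refine (Scheme.Cover.hom_ext (𝒰.pullback₁ (pullback.fst f uA)) _ _ fun i => ?_)
    show pullback.fst (pullback.fst f uA) (𝒰.f i) ≫ _ = pullback.fst _ _ ≫ a
    rw [pullback.condition_assoc]
    exact (congrArg (_ ≫ ·) (Scheme.Cover.ι_glueMorphisms 𝒰 g hglue i)).trans (hgA i _ _ _ pullback.condition.symm)
  · refine (Scheme.Cover.hom_ext (𝒰.pullback₁ (pullback.fst f ut)) _ _ fun i => ?_)
    show pullback.fst (pullback.fst f ut) (𝒰.f i) ≫ _ = pullback.fst _ _ ≫ c
    rw [pullback.condition_assoc]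
    exact (congrArg (_ ≫ ·) (Scheme.Cover.ι_glueMorphisms 𝒰 g hglue i)).trans (hgt i _ _ _ pullback.condition.symm)

end Groth.Agent.NonAbLib
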