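import Mathlib.RingTheory.Flat.Basic
import Mathlib.RingTheory.TensorProduct.Maps
import Mathlib.RingTheory.Ideal.Quotient.Operations

/-!
# The glueing hypotheses survive flat base change
-/

universe u

open TensorProduct

namespace Groth.Agent.NonAbLib

variable {A A' B : Type u} [CommRing A] [CommRing A'] [Algebra A A'] [CommRing B] [Algebra A B] (t : A)

/-- The glueing set-up. -/
structure GlueSetup {A A' : Type u} [CommRing A] [CommRing A'] (φ : A →+* A') (t : A) : Prop where
  bij : ∀ m : ℕ, Function.Bijective (Ideal.quotientMap (Ideal.map φ (Ideal.span {t} ^ m)) φ Ideal.le_comap_map)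
  tor : ∀ a' : A', (∃ m : ℕ, φ t ^ m * a' = 0) → ∃! a : A, (∃ m : ℕ, t ^ m * a = 0) ∧ φ a = a'

theorem bij_baseChange
    (hq : ∀ m : ℕ, Function.Bijective (Ideal.quotientMap (Ideal.map (algebraMap A A') (Ideal.span {t} ^ m))
      (algebraMap A A') Ideal.le_comap_map)) (m : ℕ) :
    Function.Bijective (Ideal.quotientMap (Ideal.map (algebraMap B (B ⊗[A] A')) (Ideal.span {algebraMap A B t} ^ m))
      (algebraMap B (B ⊗[A] A')) Ideal.le_comap_map) := by
  obtain ⟨hinj, hsurj⟩ := hq m
  let q' := Ideal.map (algebraMap A A') (Ideal.span {t} ^ m)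
  let e := RingEquiv.ofBijective _ (hq m)
  let J := Ideal.span {algebraMap A B t} ^ m
  have hJ : Ideal.span {t} ^ m ≤ J.comap (algebraMap A B) := by
    rw [← Ideal.map_le_iff_le_comap, Ideal.map_pow, Ideal.map_span, Set.image_singleton]
  let r₀ : A' →+* B ⧸ J :=
    (Ideal.quotientMap J (algebraMap A B) hJ).comp (e.symm.toRingHom.comp (Ideal.Quotient.mk q'))
  let r₁ : A' →ₐ[A] B ⧸ J :=
    { r₀ with
      commutes' := fun a => by
        show Ideal.quotientMap J (algebraMap A B) hJ (e.symm (Ideal.Quotient.mk q' (algebraMap A A' a))) = _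
        have : e.symm (Ideal.Quotient.mk q' (algebraMap A A' a)) = Ideal.Quotient.mk _ a := by
          rw [RingEquiv.symm_apply_eq]; rfl
        rw [this, Ideal.quotientMap_mk]
        rfl }
  let r : B ⊗[A] A' →ₐ[A] B ⧸ J := Algebra.TensorProduct.lift (Ideal.Quotient.mkₐ A J) r₁ fun _ _ => Commute.all _ _
  refine ⟨?_, fun x => ?_⟩
  · rw [injective_iff_map_eq_zero]
    intro x hx
    obtain ⟨b, rfl⟩ := Ideal.Quotient.mk_surjective x
    rw [Ideal.quotientMap_mk, Ideal.Quotient.eq_zero_iff_mem] at hx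
    have hle : Ideal.map (algebraMap B (B ⊗[A] A')) J ≤ RingHom.ker r.toRingHom := by
      rw [Ideal.map_le_iff_le_comap]
      intro c hc
      show r (c ⊗ₜ 1) = 0
      simp only [r, Algebra.TensorProduct.lift_tmul, map_one, mul_one]
      exact Ideal.Quotient.eq_zero_iff_mem.2 hc
    have := hle hx
    have h : r (b ⊗ₜ 1) = 0 := this
    simpa [r] using h
  · obtain ⟨x, rfl⟩ := Ideal.Quotient.mk_surjective x
    induction x with
    | zero => exact ⟨0, by simp⟩
    | add x y hx hy =>
      obtain ⟨a, ha⟩ := hx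
      obtain ⟨b, hb⟩ := hy
      exact ⟨a + b, by rw [map_add, ha, hb, map_add]⟩
    | tmul b a' =>
      obtain ⟨z, hz⟩ := hsurj (Ideal.Quotient.mk _ a')
      obtain ⟨a, rfl⟩ := Ideal.Quotient.mk_surjective z
      rw [Ideal.quotientMap_mk, Ideal.Quotient.eq] at hz
      refine ⟨Ideal.Quotient.mk _ (b * algebraMap A B a), ?_⟩
      rw [Ideal.quotientMap_mk, Ideal.Quotient.eq]
      have h1 : (b ⊗ₜ[A] (1 : A')) * ((1 : B) ⊗ₜ[A] (algebraMap A A' a - a')) ∈
          Ideal.map (algebraMap B (B ⊗[A] A')) J := by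
        refine Ideal.mul_mem_left _ _ ?_
        have h2 := Ideal.mem_map_of_mem (Algebra.TensorProduct.includeRight : A' →ₐ[A] B ⊗[A] A').toRingHom hz
        rw [Ideal.map_map] at h2
        have h3 : (Algebra.TensorProduct.includeRight : A' →ₐ[A] B ⊗[A] A').toRingHom.comp (algebraMap A A') =
            (algebraMap B (B ⊗[A] A')).comp (algebraMap A B) := by
          ext c
          simp
        rw [h3, ← Ideal.map_map, Ideal.map_pow, Ideal.map_span, Set.image_singleton] at h2
        exact h2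
      convert h1 using 1
      rw [Algebra.TensorProduct.tmul_mul_tmul, mul_one, one_mul, TensorProduct.tmul_sub,
        Algebra.algebraMap_eq_smul_one a (A := A'), ← TensorProduct.smul_tmul, Algebra.smul_def, mul_comm]
      rfl

theorem tor_baseChange [Module.Flat A B]
    (htor : ∀ a' : A', (∃ m : ℕ, algebraMap A A' t ^ m * a' = 0) →
      ∃! a : A, (∃ m : ℕ, t ^ m * a = 0) ∧ algebraMap A A' a = a')
    (b' : B ⊗[A] A') (h : ∃ m : ℕ, algebraMap B (B ⊗[A] A') (algebraMap A B t) ^ m * b' = 0) :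
    ∃! b : B, (∃ m : ℕ, algebraMap A B t ^ m * b = 0) ∧ algebraMap B (B ⊗[A] A') b = b' := by
  let K : ℕ → Submodule A A := fun m => LinearMap.ker (LinearMap.mulLeft A (t ^ m))
  have huniq : ∀ a : A, (∃ m : ℕ, t ^ m * a = 0) → algebraMap A A' a = 0 → a = 0 := fun a ha h0 =>
    (htor 0 ⟨0, mul_zero _⟩).unique ⟨ha, h0⟩ ⟨⟨0, mul_zero _⟩, map_zero _⟩
  let ψ : ∀ m, K m →ₗ[A] A' := fun m => (Algebra.linearMap A A').comp (K m).subtype
  have hψi : ∀ m, Function.Injective (ψ m) := fun m => by
    rw [injective_iff_map_eq_zero]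
    rintro ⟨a, ha⟩ h0
    exact Subtype.ext (huniq a ⟨m, ha⟩ h0)
  have hψe : ∀ m, Function.Exact (ψ m) (LinearMap.mulLeft A (algebraMap A A' t ^ m)) := fun m a' => by
    refine ⟨fun ha => ?_, ?_⟩
    · obtain ⟨a, ⟨⟨j, hj⟩, rfl⟩, -⟩ := htor a' ⟨m, ha⟩
      refine ⟨⟨a, ?_⟩, rfl⟩
      refine huniq _ ⟨j, by rw [LinearMap.mulLeft_apply, mul_left_comm, hj, mul_zero]⟩ ?_
      rw [LinearMap.mulLeft_apply, map_mul, map_pow]
      exact ha
    · rintro ⟨⟨a, ha⟩, rfl⟩
      show algebraMap A A' t ^ m * algebraMap A A' a = 0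
      rw [← map_pow, ← map_mul, show t ^ m * a = 0 from ha, map_zero]
  -- the map `B ⊗ K → B`
  let κ : ∀ m, B ⊗[A] K m →ₗ[A] B := fun m => (TensorProduct.rid A B).toLinearMap.comp ((K m).subtype.lTensor B)
  have hψκ : ∀ m z, algebraMap B (B ⊗[A] A') (κ m z) = (ψ m).lTensor B z := fun m z => by
    induction z with
    | zero => simp
    | add x y hx hy => rw [map_add, map_add, hx, hy, map_add]
    | tmul b a =>
      simp only [κ, ψ, LinearMap.comp_apply, LinearEquiv.coe_coe, LinearMap.lTensor_tmul, TensorProduct.rid_tmul,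
        Submodule.subtype_apply, Algebra.linearMap_apply, Algebra.TensorProduct.algebraMap_apply,
        Algebra.algebraMap_self, RingHom.id_apply, Algebra.algebraMap_eq_smul_one (A := A'), TensorProduct.smul_tmul]
  have hκ : ∀ m z, algebraMap A B t ^ m * κ m z = 0 := fun m z => by
    induction z with
    | zero => simp
    | add x y hx hy => rw [map_add, mul_add, hx, hy, add_zero]
    | tmul b a =>
      simp only [κ, LinearMap.comp_apply, LinearEquiv.coe_coe, LinearMap.lTensor_tmul, TensorProduct.rid_tmul,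
        Submodule.subtype_apply]
      rw [← map_pow, ← Algebra.smul_def, smul_smul, show t ^ m * (a : A) = 0 from a.2, zero_smul]
  have hκs : ∀ m b, algebraMap A B t ^ m * b = 0 → ∃ z, κ m z = b := fun m b hb => by
    have he : Function.Exact ((K m).subtype.lTensor B) ((LinearMap.mulLeft A (t ^ m)).lTensor B) :=
      Module.Flat.lTensor_exact B (LinearMap.exact_subtype_ker_map _)
    obtain ⟨z, hz⟩ := (he ((TensorProduct.rid A B).symm b)).1 (by
      rw [TensorProduct.rid_symm_apply, LinearMap.lTensor_tmul, LinearMap.mulLeft_apply, mul_one]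
      rw [show t ^ m = t ^ m • (1 : A) by simp, ← TensorProduct.smul_tmul, Algebra.smul_def, map_pow, hb,
        TensorProduct.zero_tmul])
    exact ⟨z, by simp [κ, hz]⟩
  obtain ⟨m, hm⟩ := h
  have he' : Function.Exact ((ψ m).lTensor B) ((LinearMap.mulLeft A (algebraMap A A' t ^ m)).lTensor B) :=
    Module.Flat.lTensor_exact B (hψe m)
  have hmul : ∀ y : B ⊗[A] A', (LinearMap.mulLeft A (algebraMap A A' t ^ m)).lTensor B y =
      algebraMap B (B ⊗[A] A') (algebraMap A B t) ^ m * y := fun y => by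
    have e1 : algebraMap B (B ⊗[A] A') (algebraMap A B t) ^ m = (1 : B) ⊗ₜ[A] (algebraMap A A' t ^ m) := by
      rw [← IsScalarTower.algebraMap_apply, ← map_pow, ← map_pow, Algebra.algebraMap_eq_smul_one,
        Algebra.algebraMap_eq_smul_one (A := A'), TensorProduct.tmul_smul, Algebra.TensorProduct.one_def]
    induction y with
    | zero => simp
    | add x y hx hy => rw [map_add, hx, hy, mul_add]
    | tmul b a => rw [e1, LinearMap.lTensor_tmul, Algebra.TensorProduct.tmul_mul_tmul, one_mul]; rfl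
  obtain ⟨z, rfl⟩ := (he' b').1 ((hmul b').trans hm)
  refine ⟨κ m z, ⟨⟨m, hκ m z⟩, hψκ m z⟩, ?_⟩
  rintro b ⟨⟨j, hj⟩, hb⟩
  rw [← sub_eq_zero]
  obtain ⟨w, hw⟩ := hκs (j + m) (b - κ m z) (by
    rw [mul_sub, pow_add, mul_assoc, mul_assoc, hκ, mul_zero, sub_zero, mul_left_comm, hj, mul_zero])
  have hw0 : (ψ (j + m)).lTensor B w = 0 := by rw [← hψκ, hw, map_sub, hb, hψκ, sub_self]
  rw [← hw, Module.Flat.lTensor_preserves_injective_linearMap (M := B) (ψ (j + m)) (hψi _)
    (hw0.trans (map_zero _).symm), map_zero]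

theorem GlueSetup.baseChange [Module.Flat A B] (h : GlueSetup (algebraMap A A') t) :
    GlueSetup (algebraMap B (B ⊗[A] A')) (algebraMap A B t) :=
  ⟨bij_baseChange t h.bij, tor_baseChange t h.tor⟩

end Groth.Agent.NonAbLib
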