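import Groth.Agent.NonAbLib.Sheaf
import Mathlib.CategoryTheory.Sites.Point.Basic
import Mathlib.CategoryTheory.Sites.Over
import Mathlib.Algebra.Category.Grp.FilteredColimits
import Mathlib.Algebra.Category.Grp.Limits
import Mathlib.CategoryTheory.Limits.Types.Filtered
import Mathlib.CategoryTheory.Category.ULift

/-!
# Sheaves of groups with trivial torsors: products of skyscrapers along a family of points
-/

universe u

open CategoryTheory CategoryTheory.Limits Opposite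

namespace Groth.Agent.NonAbLib

open NonAbH1 CechTorsor

variable {C : Type (u + 1)} [Category.{u} C] {J : GrothendieckTopology C}

section Pi

variable {ι : Type u} (Φ : ι → GrothendieckTopology.Point.{u} J) (M : ι → GrpCat.{u + 1})

/-- The product of the skyscraper presheaves of groups with values `M i` at the points `Φ i`. -/
def piSky : Cᵒᵖ ⥤ GrpCat.{u + 1} where
  obj V := GrpCat.of (∀ i, (Φ i).fiber.obj V.unop → M i)
  map {V W} a := GrpCat.ofHom
    { toFun := fun h i w => h i ((Φ i).fiber.map a.unop w)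
      map_one' := rfl
      map_mul' := fun _ _ => rfl }
  map_id V := by
    ext h i w
    simp
  map_comp a b := by
    ext h i w
    simp

theorem isSheaf_piSky : Presheaf.IsSheaf J (piSky Φ M) := by
  refine (Presheaf.isSheaf_iff_isSheaf_forget J (piSky Φ M) (forget GrpCat.{u + 1})).2 ?_
  rw [isSheaf_iff_isSheaf_of_type]
  intro V S hS x hx
  have hv : ∀ (i : ι) (v : (Φ i).fiber.obj V), ∃ (W : C) (f : W ⟶ V) (_ : S f) (w : (Φ i).fiber.obj W),
      (Φ i).fiber.map f w = v := fun i v => (Φ i).jointly_surjective S hS v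
  choose W f hf w hw using hv
  let t : ∀ i, (Φ i).fiber.obj V → M i := fun i v => (x (f i v) (hf i v)) i (w i v)
  refine ⟨t, fun W' f' hf' => funext fun i => funext fun w' => ?_, fun t' ht' => ?_⟩
  · show (x _ (hf i ((Φ i).fiber.map f' w'))) i (w i _) = (x f' hf') i w'
    let A := (Φ i).fiber.elementsMk V ((Φ i).fiber.map f' w')
    let α₁ : (Φ i).fiber.elementsMk _ (w i ((Φ i).fiber.map f' w')) ⟶ A := ⟨f i _, hw i _⟩
    let α₂ : (Φ i).fiber.elementsMk _ w' ⟶ A := ⟨f', rfl⟩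
    obtain ⟨z, q₁, q₂, fac⟩ := IsCofiltered.cospan α₁ α₂
    rw [Subtype.ext_iff] at fac
    have hc := congrFun (congrFun (hx q₁.1 q₂.1 (hf i _) hf' fac) i) z.2
    change (x _ (hf i _)) i ((Φ i).fiber.map q₁.1 z.2) = (x f' hf') i ((Φ i).fiber.map q₂.1 z.2) at hc
    have h1 : (Φ i).fiber.map q₁.1 z.2 = w i ((Φ i).fiber.map f' w') := q₁.2
    have h2 : (Φ i).fiber.map q₂.1 z.2 = w' := q₂.2
    rw [h1, h2] at hc
    exact hc
  · funext i v
    have := congrFun (congrFun (ht' (f i v) (hf i v)) i) (w i v)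
    change (t' i ((Φ i).fiber.map (f i v) (w i v))) = _ at this
    rwa [hw] at this

/-- The sheaf of groups underlying `piSky`. -/
def piSkySheaf : Sheaf J GrpCat.{u + 1} := ⟨piSky Φ M, isSheaf_piSky Φ M⟩

variable {Φ M}

/-- Every torsor under a product of skyscrapers has a global section. -/
theorem hasSection_piSky (U : C) (P : Torsor ((piSkySheaf Φ M).over U)) : P.HasSection := by
  classical
  have hT := P.isTorsor.1
  have hne : ∀ (i : ι) (u₀ : (Φ i).fiber.obj U), ∃ (T : Over U) (w : (Φ i).fiber.obj T.left),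
      (Φ i).fiber.map T.hom w = u₀ ∧ Nonempty (P.P.obj.obj (op T)) := by
    intro i u₀
    obtain ⟨S, hS, hS'⟩ := P.isTorsor.2 (Over.mk (𝟙 U))
    rw [J.mem_over_iff] at hS
    obtain ⟨T, f, hf, w, hw⟩ := (Φ i).jointly_surjective _ hS u₀
    have hf' := (Sieve.overEquiv_iff S f).1 hf
    exact ⟨_, w, by simpa using hw, hS' _ hf'⟩
  choose T w₀ hw₀ hs using hne
  let R : ∀ (W : Over U) (_t : P.P.obj.obj (op W)) (i : ι) (_v : (Φ i).fiber.obj W.left), M i → Prop :=
    fun W t i v val => ∃ (Z : Over U) (z : (Φ i).fiber.obj Z.left) (a : Z ⟶ W)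
      (b : Z ⟶ T i ((Φ i).fiber.map W.hom v)) (g : ((piSkySheaf Φ M).over U).obj.obj (op Z)),
      (Φ i).fiber.map a.left z = v ∧ (Φ i).fiber.map b.left z = w₀ i _ ∧
        P.smul g (P.P.obj.map a.op t) = P.P.obj.map b.op (hs i _).some ∧ g i z = val
  have hex : ∀ (W : Over U) t i v, ∃ val, R W t i v val := by
    intro W t i v
    let A := (Φ i).fiber.elementsMk U ((Φ i).fiber.map W.hom v)
    let α₁ : (Φ i).fiber.elementsMk _ v ⟶ A := ⟨W.hom, rfl⟩
    let α₂ : (Φ i).fiber.elementsMk _ (w₀ i ((Φ i).fiber.map W.hom v)) ⟶ A := ⟨(T i _).hom, hw₀ i _⟩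
    obtain ⟨z, q₁, q₂, fac⟩ := IsCofiltered.cospan α₁ α₂
    rw [Subtype.ext_iff] at fac
    let Z : Over U := Over.mk (q₁.1 ≫ W.hom)
    let a : Z ⟶ W := Over.homMk q₁.1 rfl
    let b : Z ⟶ T i ((Φ i).fiber.map W.hom v) := Over.homMk q₂.1 fac.symm
    obtain ⟨g, hg, -⟩ := hT (op Z) (P.P.obj.map a.op t) (P.P.obj.map b.op (hs i _).some)
    exact ⟨g i z.2, Z, z.2, a, b, g, q₁.2, q₂.2, hg, rfl⟩
  have huniq : ∀ (W : Over U) t i v val val', R W t i v val → R W t i v val' → val = val' := by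
    rintro W t i v _ _ ⟨Z, z, a, b, g, ha, hb, hg, rfl⟩ ⟨Z', z', a', b', g', ha', hb', hg', rfl⟩
    let α₁ : (Φ i).fiber.elementsMk _ z ⟶ (Φ i).fiber.elementsMk _ v := ⟨a.left, ha⟩
    let α₂ : (Φ i).fiber.elementsMk _ z' ⟶ (Φ i).fiber.elementsMk _ v := ⟨a'.left, ha'⟩
    obtain ⟨y, q₁, q₂, fac⟩ := IsCofiltered.cospan α₁ α₂
    let β₁ : (Φ i).fiber.elementsMk _ z ⟶ (Φ i).fiber.elementsMk _ (w₀ i ((Φ i).fiber.map W.hom v)) :=
      ⟨b.left, hb⟩
    let β₂ : (Φ i).fiber.elementsMk _ z' ⟶ (Φ i).fiber.elementsMk _ (w₀ i ((Φ i).fiber.map W.hom v)) :=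
      ⟨b'.left, hb'⟩
    let e := IsCofiltered.eqHom (q₁ ≫ β₁) (q₂ ≫ β₂)
    let y' := IsCofiltered.eq (q₁ ≫ β₁) (q₂ ≫ β₂)
    have he := IsCofiltered.eq_condition (q₁ ≫ β₁) (q₂ ≫ β₂)
    rw [Subtype.ext_iff] at fac he
    simp only [CategoryOfElements.comp_val] at fac he
    let Z'' : Over U := Over.mk ((e.1 ≫ q₁.1) ≫ Z.hom)
    let p : Z'' ⟶ Z := Over.homMk (e.1 ≫ q₁.1) rfl
    let q : Z'' ⟶ Z' := Over.homMk (e.1 ≫ q₂.1) (by
      show (e.1 ≫ q₂.1) ≫ Z'.hom = (e.1 ≫ q₁.1) ≫ Z.hom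
      rw [← Over.w a, ← Over.w a']
      simp only [Category.assoc]
      rw [reassoc_of% fac])
    have hpa : p ≫ a = q ≫ a' := by
      refine Over.OverMorphism.ext ?_
      show (e.1 ≫ q₁.1) ≫ a.left = (e.1 ≫ q₂.1) ≫ a'.left
      simp only [Category.assoc]
      exact congrArg (e.1 ≫ ·) fac
    have hpb : p ≫ b = q ≫ b' := by
      refine Over.OverMorphism.ext ?_
      show (e.1 ≫ q₁.1) ≫ b.left = (e.1 ≫ q₂.1) ≫ b'.left
      simpa only [Category.assoc] using he
    have h1 := congrArg (P.P.obj.map p.op) hg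
    have h2 := congrArg (P.P.obj.map q.op) hg'
    rw [P.map_smul, map_comp_pt, map_comp_pt, hpa, hpb] at h1
    rw [P.map_smul, map_comp_pt, map_comp_pt] at h2
    have h3 := congrFun (congrFun (smul_cancel hT (h1.trans h2.symm)) i) y'.2
    change g i ((Φ i).fiber.map (e.1 ≫ q₁.1) y'.2) = g' i ((Φ i).fiber.map (e.1 ≫ q₂.1) y'.2) at h3
    have k1 : (Φ i).fiber.map (e.1 ≫ q₁.1) y'.2 = z := (e ≫ q₁).2
    have k2 : (Φ i).fiber.map (e.1 ≫ q₂.1) y'.2 = z' := (e ≫ q₂).2
    rwa [k1, k2] at h3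
  choose val hval using hex
  let d : ∀ (W : Over U), P.P.obj.obj (op W) → ((piSkySheaf Φ M).over U).obj.obj (op W) :=
    fun W t i v => val W t i v
  have hnat : ∀ {V W : Over U} (k : V ⟶ W) t,
      ((piSkySheaf Φ M).over U).obj.map k.op (d W t) = d V (P.P.obj.map k.op t) := by
    intro V W k t
    funext i v
    show val W t i ((Φ i).fiber.map k.left v) = val V _ i v
    obtain ⟨Z, z, a, b, g, ha, hb, hg, hgz⟩ := hval V (P.P.obj.map k.op t) i v
    refine huniq _ _ _ _ _ _ (hval _ _ _ _) ?_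
    rw [map_comp_pt] at hg
    have hv : (Φ i).fiber.map W.hom ((Φ i).fiber.map k.left v) = (Φ i).fiber.map V.hom v := by
      exact (Functor.map_comp_apply _ _ _ _).symm.trans (congrArg (fun m => (Φ i).fiber.map m v) (Over.w k))
    show ∃ (Z : Over U) (z : (Φ i).fiber.obj Z.left) (a : Z ⟶ W)
      (b : Z ⟶ T i ((Φ i).fiber.map W.hom _)) (g : ((piSkySheaf Φ M).over U).obj.obj (op Z)), _
    rw [hv]
    refine ⟨Z, z, a ≫ k, b, g, ?_, hb, hg, hgz⟩
    rw [← ha, ← Functor.map_comp_apply]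
    rfl
  have hequiv : ∀ (W : Over U) g₀ t, d W (P.smul g₀ t) = d W t * g₀⁻¹ := by
    intro W g₀ t
    funext i v
    obtain ⟨Z, z, a, b, g, ha, hb, hg, hgz⟩ := hval W t i v
    refine huniq _ _ _ _ _ _ (hval _ _ _ _)
      ⟨Z, z, a, b, g * (((piSkySheaf Φ M).over U).obj.map a.op g₀)⁻¹, ha, hb, ?_, ?_⟩
    · rw [P.mul_smul, P.map_smul, ← P.mul_smul, ← P.mul_smul, inv_mul_cancel_right, hg]
    · show g i z * (g₀ i ((Φ i).fiber.map a.left z))⁻¹ = val W t i v * (g₀ i v)⁻¹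
      rw [hgz, ha]
  have hd : ∀ (W : Over U) t t', P.smul (d W t) t = P.smul (d W t') t' := by
    intro W t t'
    obtain ⟨g₀, rfl, -⟩ := hT (op W) t t'
    rw [hequiv, ← P.mul_smul, inv_mul_cancel_right]
  have hdm : ∀ {V W : Over U} (k : V ⟶ W) t,
      P.P.obj.map k.op (P.smul (d W t) t) = P.smul (d V (P.P.obj.map k.op t)) (P.P.obj.map k.op t) :=
    fun k t => by rw [P.map_smul, hnat]
  have hglue : ∀ W : Over U, ∃ q : P.P.obj.obj (op W), ∀ ⦃V : Over U⦄ (k : V ⟶ W) t,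
      P.P.obj.map k.op q = P.smul (d V t) t := by
    intro W
    obtain ⟨S, hS, hne⟩ := P.isTorsor.2 W
    obtain ⟨q, hq⟩ := exists_glue P.P hS (fun V k hk => P.smul (d V (hne k hk).some) (hne k hk).some)
      fun V V' k hk h => by rw [hdm]; exact hd _ _ _
    refine ⟨q, fun V k t => set_sep P.P _ ((J.over U).pullback_stable k hS) fun V' h hh => ?_⟩
    rw [map_comp_pt, hq _ hh, hdm]
    exact hd _ _ _
  choose q hq using hglue
  refine ⟨fun W => q W.unop, ?_⟩
  rintro ⟨V⟩ ⟨W⟩ f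
  obtain ⟨S, hS, hne⟩ := P.isTorsor.2 W
  refine set_sep P.P S hS fun V' k hk => ?_
  obtain ⟨t⟩ := hne k hk
  rw [hq W k t]
  exact (map_comp_pt P.P f.unop k (q V)).trans (hq V _ t)

end Pi

section Stalk

variable (Φ : GrothendieckTopology.Point.{u} J) (F : Sheaf J GrpCat.{u + 1})

instance : IsFiltered (AsSmall.{u + 1} Φ.fiber.Elementsᵒᵖ) := inferInstance

/-- The diagram of sections over the neighbourhoods of a point. -/
def nbhdDiagram : AsSmall.{u + 1} Φ.fiber.Elementsᵒᵖ ⥤ GrpCat.{u + 1} :=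
  AsSmall.down ⋙ (CategoryOfElements.π Φ.fiber).op ⋙ F.obj

/-- The stalk of a sheaf of groups. -/
noncomputable def grpStalk : GrpCat.{u + 1} :=
  (GrpCat.FilteredColimits.colimitCocone.{u + 1, u + 1} (nbhdDiagram Φ F)).pt

/-- The germ map. -/
noncomputable def grpGerm (V : C) (v : Φ.fiber.obj V) : F.obj.obj (op V) ⟶ grpStalk Φ F :=
  (GrpCat.FilteredColimits.colimitCocone.{u + 1, u + 1} (nbhdDiagram Φ F)).ι.app
    (AsSmall.up.obj (op (Φ.fiber.elementsMk V v)))

theorem grpGerm_map {V W : C} (f : W ⟶ V) (w : Φ.fiber.obj W) (g : F.obj.obj (op V)) :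
    grpGerm Φ F W w (F.obj.map f.op g) = grpGerm Φ F V (Φ.fiber.map f w) g := by
  let α : Φ.fiber.elementsMk W w ⟶ Φ.fiber.elementsMk V (Φ.fiber.map f w) := ⟨f, rfl⟩
  exact ConcreteCategory.congr_hom
    ((GrpCat.FilteredColimits.colimitCocone.{u + 1, u + 1} (nbhdDiagram Φ F)).w
      ((AsSmall.up).map α.op)) g

theorem eq_on_nbhd_of_grpGerm_eq {V : C} (v : Φ.fiber.obj V) (g g' : F.obj.obj (op V))
    (h : grpGerm Φ F V v g = grpGerm Φ F V v g') :
    ∃ (W : C) (f : W ⟶ V) (w : Φ.fiber.obj W), Φ.fiber.map f w = v ∧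
      F.obj.map f.op g = F.obj.map f.op g' := by
  obtain ⟨j, a, ha⟩ := (Types.FilteredColimit.isColimit_eq_iff' (isColimitOfPreserves (forget GrpCat.{u + 1})
    (GrpCat.FilteredColimits.colimitCoconeIsColimit.{u + 1, u + 1} (nbhdDiagram Φ F)))
    (i := AsSmall.up.obj (op (Φ.fiber.elementsMk V v))) g g').1 h
  exact ⟨_, (AsSmall.down.map a).unop.1, _, (AsSmall.down.map a).unop.2, ha⟩

end Stalk

/-- A sheaf of groups embeds into one with trivial torsors as soon as the site has enough points. -/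
theorem exists_mono_torsors_trivial {ι : Type u} (Φ : ι → GrothendieckTopology.Point.{u} J)
    (hcons : ∀ (V : C) (S : Sieve V), (∀ (i : ι) (v : (Φ i).fiber.obj V),
      ∃ (W : C) (f : W ⟶ V) (w : (Φ i).fiber.obj W), S f ∧ (Φ i).fiber.map f w = v) → S ∈ J V)
    [∀ U : C, (J.over U).HasSheafCompose (forget GrpCat.{u + 1})]
    (F : Sheaf J GrpCat.{u + 1}) :
    ∃ (G : Sheaf J GrpCat.{u + 1}) (φ : F ⟶ G), (∀ U : Cᵒᵖ, Function.Injective (φ.hom.app U)) ∧
      ∀ (U : C) (P : Torsor (G.over U)), P.IsTrivial := by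
  refine ⟨piSkySheaf Φ (fun i => grpStalk (Φ i) F),
    ⟨{ app := fun V => GrpCat.ofHom
          { toFun := fun g i v => grpGerm (Φ i) F V.unop v g
            map_one' := funext fun i => funext fun v => map_one _
            map_mul' := fun g h => funext fun i => funext fun v => map_mul _ _ _ }
       naturality := fun V W a => by
        ext g
        funext i v
        exact grpGerm_map (Φ i) F a.unop v g }⟩, ?_, fun U P => ?_⟩
  · rintro ⟨V⟩ g g' h
    let S : Sieve V :=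
      { arrows := fun W f => F.obj.map f.op g = F.obj.map f.op g'
        downward_closed := fun {W W'} f hf k => by
          simp only [op_comp, Functor.map_comp]
          exact congrArg (F.obj.map k.op) hf }
    refine group_sep S (hcons V S fun i v => ?_) fun W f hf => hf
    obtain ⟨W, f, w, hw, hf⟩ := eq_on_nbhd_of_grpGerm_eq (Φ i) F v g g' (congrFun (congrFun h i) v)
    exact ⟨W, f, w, hf, hw⟩
  · exact (trivial_iff_hasSection P.isTorsor.1).2 (hasSection_piSky U P)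

end Groth.Agent.NonAbLib
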