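import Mathlib.CategoryTheory.Monoidal.Cartesian.Grp
import Mathlib.CategoryTheory.Limits.HasLimits

/-!
# Limits of group objects are limits of the underlying objects
-/

universe w v u

open CategoryTheory CategoryTheory.Limits MonoidalCategory CartesianMonoidalCategory MonObj GrpObj

namespace Groth.Agent.NonAbLib

variable {C : Type u} [Category.{v} C] [CartesianMonoidalCategory C] {J : Type w} [Category J]

/-- If the underlying diagram has a limit, a limit of group objects is a limit of underlying objects. -/
theorem isLimit_grpForget (D : J ⥤ Grp C) [HasLimit (D ⋙ Grp.forget C)] (c : Cone D) (hc : IsLimit c) :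
    Nonempty (IsLimit ((Grp.forget C).mapCone c)) := by
  classical
  let E := D ⋙ Grp.forget C
  let L := limit E
  let π : ∀ j, L ⟶ (D.obj j).X := fun j => limit.π E j
  have hπ : ∀ {i j} (f : i ⟶ j), π i ≫ (D.map f).hom.hom = π j := fun f => limit.w E f
  have hone : ∀ {i j} (f : i ⟶ j), (η[(D.obj i).X] : 𝟙_ C ⟶ _) ≫ (D.map f).hom.hom = η[(D.obj j).X] :=
    fun f => IsMonHom.one_hom _
  let e : 𝟙_ C ⟶ L := limit.lift E
    { pt := 𝟙_ C
      π := { app := fun j => η[(D.obj j).X], naturality := fun i j f => (Category.id_comp _).trans (hone f).symm } }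
  let m : L ⊗ L ⟶ L := limit.lift E
    { pt := L ⊗ L
      π := { app := fun j => (π j ⊗ₘ π j) ≫ μ[(D.obj j).X]
             naturality := fun i j f => (Category.id_comp _).trans (by
              show _ = ((π i ⊗ₘ π i) ≫ μ[(D.obj i).X]) ≫ (D.map f).hom.hom
              rw [Category.assoc, IsMonHom.mul_hom (f := (D.map f).hom.hom), tensorHom_comp_tensorHom_assoc,
                hπ f]
              rfl) } }
  let n : L ⟶ L := limit.lift E
    { pt := L
      π := { app := fun j => π j ≫ ι[(D.obj j).X]
             naturality := fun i j f => (Category.id_comp _).trans (by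
              show _ = (π i ≫ ι[(D.obj i).X]) ≫ (D.map f).hom.hom
              rw [Category.assoc, GrpObj.inv_hom (f := (D.map f).hom.hom), reassoc_of% (hπ f)]
              rfl) } }
  have he : ∀ j, e ≫ π j = η[(D.obj j).X] := fun j => limit.lift_π _ j
  have hm : ∀ j, m ≫ π j = (π j ⊗ₘ π j) ≫ μ[(D.obj j).X] := fun j => limit.lift_π _ j
  have hn : ∀ j, n ≫ π j = π j ≫ ι[(D.obj j).X] := fun j => limit.lift_π _ j
  let instL : GrpObj L :=
    { one := e
      mul := m
      inv := n
      one_mul := limit.hom_ext fun j => by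
        change ((e ▷ L) ≫ m) ≫ π j = (λ_ L).hom ≫ π j
        rw [Category.assoc, hm, ← tensorHom_id, tensorHom_comp_tensorHom_assoc, he, Category.id_comp]
        rw [← leftUnitor_naturality (π j), ← MonObj.one_mul (X := (D.obj j).X), ← Category.assoc,
          tensorHom_def' η (π j)]
      mul_one := limit.hom_ext fun j => by
        change ((L ◁ e) ≫ m) ≫ π j = (ρ_ L).hom ≫ π j
        rw [Category.assoc, hm, ← id_tensorHom, tensorHom_comp_tensorHom_assoc, he, Category.id_comp]
        rw [← rightUnitor_naturality (π j), ← MonObj.mul_one (X := (D.obj j).X), ← Category.assoc,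
          tensorHom_def (π j) η]
      mul_assoc := limit.hom_ext fun j => by
        change ((m ▷ L) ≫ m) ≫ π j = ((α_ L L L).hom ≫ (L ◁ m) ≫ m) ≫ π j
        simp only [Category.assoc, hm]
        rw [← tensorHom_id, ← id_tensorHom, tensorHom_comp_tensorHom_assoc, tensorHom_comp_tensorHom_assoc,
          hm, Category.id_comp]
        have := associator_naturality_assoc (π j) (π j) (π j) (((D.obj j).X ◁ μ[(D.obj j).X]) ≫ μ[(D.obj j).X])
        rw [← MonObj.mul_assoc] at this
        simp only [← tensorHom_id, ← id_tensorHom, tensorHom_comp_tensorHom_assoc, Category.id_comp,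
          Category.comp_id] at this
        exact this
      left_inv := limit.hom_ext fun j => by
        change (lift n (𝟙 L) ≫ m) ≫ π j = (toUnit L ≫ e) ≫ π j
        rw [Category.assoc, hm, lift_map_assoc, hn, Category.id_comp, Category.assoc, he]
        have := π j ≫= GrpObj.left_inv (D.obj j).X
        rw [comp_lift_assoc, Category.comp_id, ← Category.assoc (π j) (toUnit _), comp_toUnit] at this
        exact this
      right_inv := limit.hom_ext fun j => by
        change (lift (𝟙 L) n ≫ m) ≫ π j = (toUnit L ≫ e) ≫ π j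
        rw [Category.assoc, hm, lift_map_assoc, hn, Category.id_comp, Category.assoc, he]
        have := π j ≫= GrpObj.right_inv (D.obj j).X
        rw [comp_lift_assoc, Category.comp_id, ← Category.assoc (π j) (toUnit _), comp_toUnit] at this
        exact this }
  let L' : Grp C := Grp.mk L
  have hmon : ∀ j, IsMonHom (π j) := fun j => { one_hom := he j, mul_hom := hm j }
  let s : Cone D :=
    { pt := L'
      π := { app := fun j => have := hmon j; (Grp.homMk (π j) : L' ⟶ D.obj j)
             naturality := fun i j f => by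
              refine (Category.id_comp _).trans ?_
              exact InducedCategory.hom_ext (Mon.Hom.ext (hπ f).symm) } }
  let v : c.pt.X ⟶ L := limit.lift E ((Grp.forget C).mapCone c)
  have hv : ∀ j, v ≫ π j = (c.π.app j).hom.hom := fun j => limit.lift_π _ j
  have : IsMonHom v :=
    { one_hom := limit.hom_ext fun j => by
        change (η ≫ v) ≫ π j = e ≫ π j
        rw [Category.assoc, hv, he]
        exact IsMonHom.one_hom _
      mul_hom := limit.hom_ext fun j => by
        change (μ ≫ v) ≫ π j = ((v ⊗ₘ v) ≫ m) ≫ π j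
        rw [Category.assoc, hv, Category.assoc, hm, tensorHom_comp_tensorHom_assoc, hv]
        exact IsMonHom.mul_hom _ }
  let u := hc.lift s
  have hu : ∀ j, u.hom.hom ≫ (c.π.app j).hom.hom = π j := fun j =>
    congrArg (fun φ => φ.hom.hom) (hc.fac s j)
  let v' : c.pt ⟶ L' := Grp.homMk v
  have h1 : v ≫ u.hom.hom = 𝟙 _ := by
    have : v' ≫ u = 𝟙 c.pt := hc.hom_ext fun j => InducedCategory.hom_ext (Mon.Hom.ext (by
      show (v ≫ u.hom.hom) ≫ (c.π.app j).hom.hom = 𝟙 _ ≫ _
      rw [Category.assoc, hu, hv, Category.id_comp]))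
    exact congrArg (fun φ => φ.hom.hom) this
  have h2 : u.hom.hom ≫ v = 𝟙 L := limit.hom_ext fun j => by
    show (u.hom.hom ≫ v) ≫ π j = 𝟙 L ≫ π j
    rw [Category.assoc, hv, hu, Category.id_comp]
  exact ⟨IsLimit.ofIsoLimit (limit.isLimit E)
    (Cone.ext (⟨u.hom.hom, v, h2, h1⟩ : L ≅ c.pt.X) fun j => (hu j).symm)⟩

end Groth.Agent.NonAbLib
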