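import Groth.Agent.NonAbLib.TorsorSch
import Groth.Prelude.Def_ActBC

/-!
# The base point of `H¹` and sections
-/

universe u

open CategoryTheory CategoryTheory.Limits MonoidalCategory CartesianMonoidalCategory MonObj GrpObj AlgebraicGeometry

namespace Groth.Agent.NonAbLib

variable {S : Scheme.{u}} {G : Over S} [GrpObj G]

theorem hasSectionOver_congr {X X' : Over S} (e : X ≅ X') {T : Scheme.{u}} (f : T ⟶ S) :
    NonAbH1.HasSectionOver X f ↔ NonAbH1.HasSectionOver X' f :=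
  ⟨fun ⟨s, hs⟩ => ⟨s ≫ e.hom.left, by rw [Category.assoc, Over.w e.hom, hs]⟩,
    fun ⟨s, hs⟩ => ⟨s ≫ e.inv.left, by rw [Category.assoc, Over.w e.inv, hs]⟩⟩

theorem hasSectionOver_of_cl_eq {K : Precoverage Scheme.{u}} {P P' : NonAbH1.TorsorSch G K} (h : P.cl = P'.cl)
    {T : Scheme.{u}} (f : T ⟶ S) (hs : NonAbH1.HasSectionOver P'.X f) : NonAbH1.HasSectionOver P.X f := by
  let F : NonAbH1.H1Sch G K → Prop :=
    Quot.lift (fun Q => NonAbH1.HasSectionOver Q.X f) fun Q Q' ⟨e⟩ => propext (hasSectionOver_congr e.iso f)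
  exact (congrArg F h).mpr hs

/-- The class of a torsor is the base point exactly when the torsor has a section. -/
theorem cl_eq_one_iff_sch {K : Precoverage Scheme.{u}} [K.HasIsos] (hK : K ≤ Scheme.fpqcPrecoverage)
    (P : NonAbH1.TorsorSch G K) : P.cl = 1 ↔ NonAbH1.HasSectionOver P.X (𝟙 S) := by
  refine ⟨fun h => hasSectionOver_of_cl_eq h (𝟙 S) ⟨η[G].left, Over.w η[G]⟩, fun ⟨s, hs⟩ => ?_⟩
  let σ : 𝟙_ (Over S) ⟶ P.X := Over.homMk s hs
  let f : G ⟶ P.X := P.act.orbitMap σ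
  have hf : (NonAbH1.trivialAction G).act ≫ f = (G ◁ f) ≫ P.act.act := by
    refine AlgGrp.Action.hom_ext_lift₂ fun T g x => ?_
    rw [lift_whiskerLeft_assoc, ← Category.assoc]
    show (g * x) ≫ P.act.orbitMap σ = _
    rw [AlgGrp.Action.comp_orbitMap, AlgGrp.Action.comp_orbitMap, AlgGrp.Action.lift_mul_act]
  have : IsIso f := SchTorsor.isIso_of_equivariant
    (NonAbH1.isTorsorFor_trivialAction G Scheme.fpqcPrecoverage) P.isTorsor.1 f hf
  exact (Quot.sound ⟨{ iso := asIso f, comm := hf }⟩ :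
    (⟨G, NonAbH1.trivialAction G, NonAbH1.isTorsorFor_trivialAction G K⟩ : NonAbH1.TorsorSch G K).cl = P.cl).symm

theorem bc_cl_eq_one_iff {K : Precoverage Scheme.{u}} [K.HasIsos] [K.IsStableUnderBaseChange]
    (hK : K ≤ Scheme.fpqcPrecoverage) {S' : Scheme.{u}} (f : S' ⟶ S) (P : NonAbH1.TorsorSch G K) :
    NonAbH1.H1Sch.bcMap f G K P.cl = 1 ↔ NonAbH1.HasSectionOver P.X f := by
  rw [← NonAbH1.TorsorSch.cl_bc, cl_eq_one_iff_sch hK]
  constructor
  · rintro ⟨s, hs⟩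
    exact ⟨s ≫ pullback.fst P.X.hom f, by
      refine (Category.assoc _ _ _).trans ((congrArg (s ≫ ·) pullback.condition).trans
        ((Category.assoc _ _ _).symm.trans ?_))
      exact (congrArg (· ≫ f) hs).trans (Category.id_comp _)⟩
  · rintro ⟨s, hs⟩
    exact ⟨pullback.lift s (𝟙 S') (by rw [hs, Category.id_comp]), pullback.lift_snd _ _ _⟩

end Groth.Agent.NonAbLib
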