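import Groth.Agent.NonAbLib.Extend.Pair
import Mathlib.LinearAlgebra.TensorProduct.Basis
import Mathlib.AlgebraicGeometry.Morphisms.Flat

/-!
# Global functions of products over a field

For quasi-compact `X` over a field, the global functions of `X × S` only depend on those of `X`
(no separation hypothesis).
-/

set_option autoImplicit false
set_option linter.style.haveILetI false

universe u

open CategoryTheory CategoryTheory.Limits AlgebraicGeometry TopologicalSpace Opposite TensorProduct

noncomputable section

namespace Groth.Agent.NonAbLib.HomAffine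

variable {k : Type u} [Field k] {X X' S : Scheme.{u}} (f : X ⟶ Spec (CommRingCat.of k))
  (g : S ⟶ Spec (CommRingCat.of k))

theorem appLE_congr_hom {A B : Scheme.{u}} {φ ψ : A ⟶ B} (h : φ = ψ) {U : B.Opens} {W : A.Opens}
    (e : W ≤ φ ⁻¹ᵁ U) : φ.appLE U W e = ψ.appLE U W (h ▸ e) := by subst h; rfl

/-- The structure map of the sections. -/
def kmap (W : X.Opens) : k →+* Γ(X, W) := ((Scheme.ΓSpecIso (CommRingCat.of k)).inv ≫ f.appLE ⊤ W le_top).hom

/-- The open `W × V`. -/
def box (W : X.Opens) (V : S.Opens) : (pullback f g).Opens := pullback.fst f g ⁻¹ᵁ W ⊓ pullback.snd f g ⁻¹ᵁ V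

variable {V : S.Opens} {J : Type u} (b : J → Γ(S, V))

/-- `m ↦ ∑ m j ⊗ b j`. -/
def ev (W : X.Opens) : (J →₀ Γ(X, W)) →+ Γ(pullback f g, box f g W V) :=
  Finsupp.liftAddHom fun j =>
    (AddMonoidHom.mulRight ((pullback.snd f g).appLE V (box f g W V) inf_le_right (b j))).comp
      ((pullback.fst f g).appLE W (box f g W V) inf_le_left).hom.toAddMonoidHom

theorem ev_single (W : X.Opens) (j : J) (m : Γ(X, W)) :
    ev f g b W (Finsupp.single j m) = (pullback.fst f g).appLE W (box f g W V) inf_le_left m *
      (pullback.snd f g).appLE V (box f g W V) inf_le_right (b j) :=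
  Finsupp.liftAddHom_apply_single _ j m

theorem box_mono {W W' : X.Opens} (h : W' ≤ W) : box f g W' V ≤ box f g W V :=
  inf_le_inf_right _ ((pullback.fst f g).preimage_mono h)

theorem ev_res {W W' : X.Opens} (h : W' ≤ W) (m : J →₀ Γ(X, W)) :
    (pullback f g).presheaf.map (homOfLE (box_mono f g (V := V) h)).op (ev f g b W m) =
      ev f g b W' (m.mapRange (X.presheaf.map (homOfLE h).op) (map_zero _)) := by
  induction m using Finsupp.induction_linear with
  | zero => simp
  | add m m' hm hm' => rw [map_add, map_add, hm, hm', Finsupp.mapRange_add (map_add _), map_add]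
  | single j x =>
    rw [ev_single, map_mul, Finsupp.mapRange_single, ev_single, ← ConcreteCategory.comp_apply,
      ← ConcreteCategory.comp_apply, ← ConcreteCategory.comp_apply, Scheme.Hom.appLE_map, Scheme.Hom.appLE_map,
      Scheme.Hom.map_appLE]

variable [Algebra k Γ(S, V)] (halg : algebraMap k Γ(S, V) = kmap g V)

include halg in
theorem bijective_ev_affine (hV : IsAffineOpen V) (B : Module.Basis J k Γ(S, V)) {W : X.Opens}
    (hW : IsAffineOpen W) : Function.Bijective (ev f g B W) := by
  classical
  have h : IsPushout ((Scheme.ΓSpecIso (CommRingCat.of k)).inv ≫ f.appLE ⊤ W le_top)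
      ((Scheme.ΓSpecIso (CommRingCat.of k)).inv ≫ g.appLE ⊤ V le_top)
      ((pullback.fst f g).appLE W (box f g W V) inf_le_left)
      ((pullback.snd f g).appLE V (box f g W V) inf_le_right) := by
    have h0 := (isIso_pushoutSection_iff ..).1 (isIso_pushoutSection_of_isAffineOpen
      (IsPullback.of_hasPullback f g) (US := ⊤) (UT := V) (UX := W) le_top le_top
      (show box f g W V = _ from rfl) (isAffineOpen_top _) hV hW)
    exact h0.of_iso (Scheme.ΓSpecIso _) (Iso.refl _) (Iso.refl _) (Iso.refl _)
      (by simp) (by simp) (by simp) (by simp)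
  letI : Algebra k Γ(X, W) := (kmap f W).toAlgebra
  let P := Γ(pullback f g, box f g W V)
  letI : Algebra k P := ((((pullback.fst f g).appLE W (box f g W V) inf_le_left).hom).comp (kmap f W)).toAlgebra
  let a : Γ(X, W) →ₐ[k] P :=
    { ((pullback.fst f g).appLE W (box f g W V) inf_le_left).hom with commutes' := fun _ => rfl }
  let c : Γ(S, V) →ₐ[k] P :=
    { ((pullback.snd f g).appLE V (box f g W V) inf_le_right).hom with
      commutes' := fun t => by
        rw [halg]
        exact (RingHom.congr_fun (congrArg CommRingCat.Hom.hom h.w) t).symm }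
  have hb : Function.Bijective (Algebra.TensorProduct.productMap a c) := by
    refine Extend.bijective_productMap a c ?_
    rw [show CommRingCat.ofHom (algebraMap k Γ(S, V)) = CommRingCat.ofHom (kmap g V) by rw [halg]]
    exact h
  have he : ∀ m, ev f g B W m =
      Algebra.TensorProduct.productMap a c ((TensorProduct.equivFinsuppOfBasisRight B).symm m) := fun m => by
    induction m using Finsupp.induction_linear with
    | zero => simp
    | add m m' hm hm' => rw [map_add, map_add, map_add, hm, hm']
    | single j x =>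
      rw [ev_single, TensorProduct.equivFinsuppOfBasisRight_symm_apply, Finsupp.sum_single_index (by simp),
        Algebra.TensorProduct.productMap_apply_tmul]
      rfl
  exact (funext he : (ev f g B W : _ → _) = _) ▸
    hb.comp (TensorProduct.equivFinsuppOfBasisRight B).symm.bijective

include halg in
theorem injective_ev (hV : IsAffineOpen V) (B : Module.Basis J k Γ(S, V)) (W : X.Opens) :
    Function.Injective (ev f g B W) := by
  refine (injective_iff_map_eq_zero _).2 fun m hm => Finsupp.ext fun j => ?_
  refine X.IsSheaf.section_ext fun x hx => ?_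
  obtain ⟨_, ⟨W', hW', rfl⟩, hxW', hle⟩ := X.isBasis_affineOpens.exists_subset_of_mem_open hx W.2
  have h0 := ev_res f g (B : J → Γ(S, V)) (V := V) hle m
  rw [hm, map_zero] at h0
  have := (bijective_ev_affine f g halg hV B hW').1 (h0.symm.trans (map_zero _).symm)
  exact ⟨W', hle, hxW', by simpa using DFunLike.congr_fun this j⟩

include halg in
theorem bijective_ev_top [CompactSpace X] (hV : IsAffineOpen V) (B : Module.Basis J k Γ(S, V)) :
    Function.Bijective (ev f g B ⊤) := by
  classical
  refine ⟨injective_ev f g halg hV B ⊤, fun y => ?_⟩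
  obtain ⟨I, hI, hcov⟩ := (isCompact_iff_finite_and_eq_biUnion_affineOpens (X := X) (U := (⊤ : X.Opens))).1
    isCompact_univ
  have := hI.fintype
  choose m hm using fun i : I => (bijective_ev_affine f g halg hV B i.1.2).2
    ((pullback f g).presheaf.map (homOfLE (box_mono f g (V := V) (le_top : i.1.1 ≤ ⊤))).op y)
  have hcompat : ∀ j, TopCat.Presheaf.IsCompatible X.presheaf (fun i : I => i.1.1) fun i => m i j := by
    intro j i i'
    have hle : i.1.1 ⊓ i'.1.1 ≤ i.1.1 := inf_le_left
    have hle' : i.1.1 ⊓ i'.1.1 ≤ i'.1.1 := inf_le_right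
    have e : (m i).mapRange (X.presheaf.map (homOfLE hle).op) (map_zero _) =
        (m i').mapRange (X.presheaf.map (homOfLE hle').op) (map_zero _) := injective_ev f g halg hV B _ <| by
      rw [← ev_res, ← ev_res, hm, hm, ← ConcreteCategory.comp_apply, ← ConcreteCategory.comp_apply,
        ← Functor.map_comp, ← Functor.map_comp]
      rfl
    exact DFunLike.congr_fun e j
  have hsup : (⊤ : X.Opens) ≤ iSup fun i : I => i.1.1 := hcov.le.trans (iSup₂_le fun i hi => le_iSup (fun i : I => i.1.1) ⟨i, hi⟩)
  choose a ha hua using fun j => TopCat.Sheaf.existsUnique_gluing' ⟨X.presheaf, X.IsSheaf⟩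
    (fun i : I => i.1.1) ⊤ (fun _ => homOfLE le_top) hsup _ (hcompat j)
  have hsupp : ∀ j, a j ≠ 0 → j ∈ Finset.univ.biUnion fun i : I => (m i).support := fun j hj => by
    by_contra hnot
    refine hj (hua j 0 fun i => ?_).symm
    have : m i j = 0 := by
      simpa using fun h => hnot (Finset.mem_biUnion.2 ⟨i, Finset.mem_univ i, Finsupp.mem_support_iff.2 h⟩)
    rw [this]
    exact map_zero _
  refine ⟨Finsupp.onFinset _ a hsupp, (pullback f g).IsSheaf.section_ext fun z hz => ?_⟩
  obtain ⟨i, hi⟩ := Opens.mem_iSup.1 (hsup (Set.mem_univ (pullback.fst f g z)))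
  refine ⟨box f g i.1.1 V, box_mono f g le_top, ⟨hi, hz.2⟩, ?_⟩
  rw [ev_res f g (B : J → Γ(S, V)) (le_top : i.1.1 ≤ ⊤), ← hm i]
  congr 1
  exact Finsupp.ext fun j => by simpa using ha j i

section Map

variable {f} (f' : X' ⟶ Spec (CommRingCat.of k)) (p : X ⟶ X') (hp : p ≫ f' = f)

/-- `p × S`. -/
def prodMap : pullback f g ⟶ pullback f' g :=
  pullback.lift (pullback.fst f g ≫ p) (pullback.snd f g) (by rw [Category.assoc, hp, pullback.condition])

omit [Algebra k Γ(S, V)] in
theorem box_le : box f g ⊤ V ≤ prodMap g f' p hp ⁻¹ᵁ box f' g ⊤ V := by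
  intro z hz
  refine ⟨trivial, ?_⟩
  show (prodMap g f' p hp ≫ pullback.snd f' g) z ∈ V
  rw [prodMap, pullback.lift_snd]
  exact hz.2

theorem map_ev (m : J →₀ Γ(X', ⊤)) :
    (prodMap g f' p hp).appLE (box f' g ⊤ V) (box f g ⊤ V) (box_le g f' p hp) (ev f' g b ⊤ m) =
      ev f g b ⊤ (m.mapRange p.appTop (map_zero _)) := by
  induction m using Finsupp.induction_linear with
  | zero => simp
  | add m m' hm hm' => rw [map_add, map_add, hm, hm', Finsupp.mapRange_add (map_add _), map_add]
  | single j x =>
    rw [ev_single, map_mul, Finsupp.mapRange_single, ev_single, ← ConcreteCategory.comp_apply,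
      ← ConcreteCategory.comp_apply, ← ConcreteCategory.comp_apply, Scheme.Hom.appLE_comp_appLE,
      Scheme.Hom.appLE_comp_appLE, show p.appTop = p.appLE ⊤ ⊤ le_top by simp [Scheme.Hom.appLE],
      Scheme.Hom.appLE_comp_appLE]
    rw [appLE_congr_hom (show prodMap g f' p hp ≫ pullback.fst f' g = pullback.fst f g ≫ p from pullback.lift_fst _ _ _),
      appLE_congr_hom (show prodMap g f' p hp ≫ pullback.snd f' g = pullback.snd f g from pullback.lift_snd _ _ _)]

include hp halg in
theorem bijective_map_box [CompactSpace X] [CompactSpace X'] (hb : Function.Bijective p.appTop)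
    (hV : IsAffineOpen V) (B : Module.Basis J k Γ(S, V)) :
    Function.Bijective ((prodMap g f' p hp).appLE (box f' g ⊤ V) (box f g ⊤ V) (box_le g f' p hp)) := by
  have h' := bijective_ev_top f' g halg hV B
  refine (Function.Bijective.of_comp_iff _ h').1 ?_
  rw [show (⇑(ConcreteCategory.hom ((prodMap g f' p hp).appLE (box f' g ⊤ V) (box f g ⊤ V) (box_le g f' p hp))) ∘
      ⇑(ev f' g B ⊤)) = ⇑(ev f g B ⊤) ∘ fun m => m.mapRange p.appTop (map_zero _) from
    funext (map_ev g B f' p hp)]
  exact (bijective_ev_top f g halg hV B).comp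
    ⟨Finsupp.mapRange_injective _ (map_zero _) hb.1, Finsupp.mapRange_surjective _ (map_zero _) hb.2⟩

omit [Algebra k Γ(S, V)] in
theorem bijective_map_affine [CompactSpace X] [CompactSpace X'] (hb : Function.Bijective p.appTop) {V : S.Opens}
    (hV : IsAffineOpen V) :
    Function.Bijective ((prodMap g f' p hp).appLE (box f' g ⊤ V) (box f g ⊤ V) (box_le g f' p hp)) :=
  letI := (kmap g V).toAlgebra
  bijective_map_box g rfl f' p hp hb hV (Module.Basis.ofVectorSpace k Γ(S, V))

omit [Algebra k Γ(S, V)] in
include hp in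
/-- Global functions of `X × S` depend only on those of `X`. -/
theorem bijective_appTop_prodMap [CompactSpace X] [CompactSpace X'] (hb : Function.Bijective p.appTop) :
    Function.Bijective (prodMap g f' p hp).appTop := by
  let θ := prodMap g f' p hp
  have hres : ∀ {W : S.Opens} (y : Γ(pullback f' g, ⊤)),
      θ.appLE (box f' g ⊤ W) (box f g ⊤ W) (box_le g f' p hp)
        ((pullback f' g).presheaf.map (homOfLE le_top).op y) =
      (pullback f g).presheaf.map (homOfLE le_top).op (θ.appTop y) := fun {W} y => by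
    rw [← ConcreteCategory.comp_apply, ← ConcreteCategory.comp_apply, Scheme.Hom.map_appLE,
      show θ.appTop = θ.appLE ⊤ ⊤ le_top by simp [Scheme.Hom.appLE], Scheme.Hom.appLE_map]
  refine ⟨fun y y' h => (pullback f' g).IsSheaf.section_ext fun z _ => ?_, fun y => ?_⟩
  · obtain ⟨V, hV, hzV, -⟩ := exists_isAffineOpen_mem_and_subset
      (show pullback.snd f' g z ∈ (⊤ : S.Opens) from trivial)
    exact ⟨box f' g ⊤ V, le_top, ⟨trivial, hzV⟩,
      (bijective_map_affine g f' p hp hb hV).1 (by rw [hres, hres, h])⟩
  · choose w hw using fun V : S.affineOpens => (bijective_map_affine g f' p hp hb V.2).2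
      ((pullback f g).presheaf.map (homOfLE le_top).op y)
    have hmono : ∀ {Y : Scheme.{u}} (q : Y ⟶ Spec (CommRingCat.of k)) {V V' : S.Opens}, V' ≤ V →
        box q g ⊤ V' ≤ box q g ⊤ V :=
      fun {Y} q {V V'} h => inf_le_inf_left _ ((pullback.snd q g).preimage_mono h)
    have hcompat : TopCat.Presheaf.IsCompatible (pullback f' g).presheaf
        (fun V : S.affineOpens => box f' g ⊤ V.1) w := fun V V' => by
      refine (pullback f' g).IsSheaf.section_ext fun z hz => ?_
      obtain ⟨W, hW, hzW, hle⟩ := exists_isAffineOpen_mem_and_subset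
        (show pullback.snd f' g z ∈ V.1 ⊓ V'.1 from ⟨hz.1.2, hz.2.2⟩)
      have key : ∀ (V : S.affineOpens) (h : W ≤ V.1),
          (pullback f' g).presheaf.map (homOfLE (hmono f' h)).op (w V) =
          (Function.surjInv (bijective_map_affine g f' p hp hb hW).2)
            ((pullback f g).presheaf.map (homOfLE le_top).op y) := fun V h => by
        refine (bijective_map_affine g f' p hp hb hW).1 (Eq.trans ?_ (Function.surjInv_eq _ _).symm)
        have hc := congrArg ((pullback f g).presheaf.map (homOfLE (hmono f h)).op) (hw V)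
        rw [← ConcreteCategory.comp_apply, ← ConcreteCategory.comp_apply, Scheme.Hom.appLE_map,
          ← Functor.map_comp] at hc
        rw [← ConcreteCategory.comp_apply, Scheme.Hom.map_appLE]
        exact hc
      refine ⟨box f' g ⊤ W, le_inf (hmono f' fun a ha => (hle ha).1) (hmono f' fun a ha => (hle ha).2),
        ⟨trivial, hzW⟩, ?_⟩
      rw [← ConcreteCategory.comp_apply, ← ConcreteCategory.comp_apply, ← Functor.map_comp, ← Functor.map_comp]
      exact (key V fun a ha => (hle ha).1).trans (key V' fun a ha => (hle ha).2).symm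
    obtain ⟨x, hx, -⟩ := TopCat.Sheaf.existsUnique_gluing' ⟨(pullback f' g).presheaf, (pullback f' g).IsSheaf⟩
      (fun V : S.affineOpens => box f' g ⊤ V.1) ⊤ (fun _ => homOfLE le_top)
      (fun z _ => by
        obtain ⟨V, hV, hzV, -⟩ := exists_isAffineOpen_mem_and_subset
          (show pullback.snd f' g z ∈ (⊤ : S.Opens) from trivial)
        exact Opens.mem_iSup.2 ⟨⟨V, hV⟩, trivial, hzV⟩) w hcompat
    refine ⟨x, (pullback f g).IsSheaf.section_ext fun z _ => ?_⟩
    obtain ⟨V, hV, hzV, -⟩ := exists_isAffineOpen_mem_and_subset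
      (show pullback.snd f g z ∈ (⊤ : S.Opens) from trivial)
    refine ⟨box f g ⊤ V, le_top, ⟨trivial, hzV⟩, ?_⟩
    rw [← hres, ← hw ⟨V, hV⟩]
    exact congrArg _ (hx ⟨V, hV⟩)

end Map

end Groth.Agent.NonAbLib.HomAffine
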