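import Groth.Agent.NonAbLib.IsomSch
import Groth.Agent.NonAbLib.TorsorSch
import Groth.Agent.SchTorsor.Props
import Groth.Agent.SchTorsor.NormalExt

/-!
# Extending morphisms of torsors under finite flat groups over normal bases
-/

universe u

open CategoryTheory CategoryTheory.Limits MonoidalCategory CartesianMonoidalCategory MonObj GrpObj AlgebraicGeometry

namespace Groth.Agent.NonAbLib

variable {X : Scheme.{u}} {G P Q : Over X} [GrpObj G]

theorem finite_flat_torsor [IsFinite G.hom] [Flat G.hom] {a : AlgGrp.Action G P}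
    (ha : NonAbH1.IsTorsorFor Scheme.fpqcPrecoverage a) : IsFinite P.hom ∧ Flat P.hom ∧ Surjective P.hom := by
  have := EtFound.fpqc_isFinite.{u}
  have : IsZariskiLocalAtTarget (@Flat : MorphismProperty Scheme.{u}) :=
    HasRingHomProperty.instIsZariskiLocalAtTarget _
  have : IsZariskiLocalAtTarget (@IsFinite : MorphismProperty Scheme.{u}) := by
    set_option backward.isDefEq.respectTransparency.types false in infer_instance
  exact ⟨SchTorsor.torsor_property @IsFinite ha ‹_›, SchTorsor.torsor_property @Flat ha ‹_›,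
    SchTorsor.surjective_hom ha⟩

set_option backward.isDefEq.respectTransparency.types false in
/-- An equivariant isomorphism over a nonempty part of a normal integral scheme extends. -/
theorem exists_equivIso_of_point [AlgebraicGeometry.IsIntegral X] (hX : Pi1.IsNormalScheme X)
    [IsFinite G.hom] [Flat G.hom] {a : AlgGrp.Action G P} {b : AlgGrp.Action G Q}
    (ha : NonAbH1.IsTorsorFor Scheme.fpqcPrecoverage a) (hb : NonAbH1.IsTorsorFor Scheme.fpqcPrecoverage b)
    {T : Over X} (j : Spec X.functionField ⟶ T.left) (hj : j ≫ T.hom = X.fromSpecStalk (genericPoint X))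
    (ψ : T ⊗ P ⟶ Q) (hψ : ∀ {Z : Over X} (t : Z ⟶ T) (g : Z ⟶ G) (x : Z ⟶ P),
      lift t (lift g x ≫ a.act) ≫ ψ = lift g (lift t x ≫ ψ) ≫ b.act) :
    Nonempty (NonAbH1.EquivIso a b) := by
  obtain ⟨hPf, hPflat, hPs⟩ := finite_flat_torsor ha
  obtain ⟨hQf, -, -⟩ := finite_flat_torsor hb
  obtain ⟨U, E, hE⟩ := exists_isom ha.1 b
  obtain ⟨u₀, -⟩ := hE.exists_point b ha ψ hψ
  have := EtFound.fpqc_isFinite.{u}
  have hQ' : IsFinite (pullback.snd Q.hom P.hom) := MorphismProperty.pullback_snd Q.hom P.hom hQf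
  have : IsFinite U.hom := MorphismProperty.of_pullback_snd_of_descendsAlong
    (P := @IsFinite) (Q := @Surjective ⊓ @Flat ⊓ @QuasiCompact) (g := P.hom) ⟨⟨hPs, hPflat⟩, inferInstance⟩
    (hE.snd_property b @IsFinite hQ')
  obtain ⟨σ, hσ, -⟩ := SchTorsor.exists_section_of_normal hX U.hom (j ≫ u₀.left)
    (by rw [Category.assoc, Over.w u₀, hj])
  obtain ⟨φ, hφ⟩ := hE.exists_hom b (Over.homMk σ hσ : 𝟙_ (Over X) ⟶ U)
  have := SchTorsor.isIso_of_equivariant ha hb.1 φ hφ
  exact ⟨⟨asIso φ, hφ⟩⟩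

end Groth.Agent.NonAbLib
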