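import Mathlib.AlgebraicGeometry.AffineTransitionLimit
import Mathlib.AlgebraicGeometry.Morphisms.Flat
import Mathlib.CategoryTheory.Limits.Constructions.Over.Connected
import Mathlib.CategoryTheory.Comma.Over.Pullback
import Mathlib.RingTheory.Flat.EquationalCriterion
import Mathlib.Algebra.Category.Ring.FilteredColimits
import Mathlib.CategoryTheory.Limits.ConcreteCategory.Basic
import Mathlib.CategoryTheory.Filtered.Connected

/-!
# Cofiltered limits of affine faithfully flat schemes over a base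
-/

universe u

open CategoryTheory CategoryTheory.Limits AlgebraicGeometry

namespace Groth.Agent.NonAbLib

/-- A filtered colimit of flat algebras is flat. -/
theorem flat_of_isColimit {A : CommRingCat.{u}} {J : Type u} [SmallCategory J] [IsFiltered J]
    {F : J ⥤ CommRingCat.{u}} {c : Cocone F} (hc : IsColimit c) (α : ∀ j, A ⟶ F.obj j)
    (hα : ∀ {i j} (f : i ⟶ j), α i ≫ F.map f = α j) (g : A ⟶ c.pt) (hg : ∀ j, α j ≫ c.ι.app j = g)
    (h : ∀ j, (α j).hom.Flat) : g.hom.Flat := by
  classical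
  let _ : Algebra A c.pt := g.hom.toAlgebra
  let hc' := isColimitOfPreserves (forget CommRingCat.{u}) hc
  show Module.Flat A c.pt
  refine Module.Flat.of_forall_isTrivialRelation fun {l} {a} {x} hx => ?_
  choose i y hy using fun b => Concrete.isColimit_exists_rep F hc (x b)
  obtain ⟨j, hj⟩ := IsFiltered.sup_objs_exists (Finset.univ.image i)
  have hij : ∀ b, Nonempty (i b ⟶ j) := fun b => hj (Finset.mem_image_of_mem _ (Finset.mem_univ b))
  let z : Fin l → F.obj j := fun b => F.map (hij b).some (y b)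
  have hz : ∀ b, c.ι.app j (z b) = x b := fun b => by
    rw [← hy b, ← c.w (hij b).some]
    rfl
  have hag : ∀ (j : J) (r : A), c.ι.app j (α j r) = g r := fun j r => by rw [← hg j]; rfl
  have h0 : c.ι.app j (∑ b, α j (a b) * z b) = c.ι.app j 0 := by
    rw [map_sum, map_zero]
    refine Eq.trans (Finset.sum_congr rfl fun b _ => ?_) hx
    rw [map_mul, hag, hz, Algebra.smul_def]
    rfl
  obtain ⟨m, φ, ψ, hm⟩ := Concrete.isColimit_exists_of_rep_eq F hc _ _ h0
  rw [map_zero, map_sum] at hm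
  let _ : Algebra A (F.obj m) := (α m).hom.toAlgebra
  have : Module.Flat A (F.obj m) := h m
  have hm' : ∑ b, a b • F.map φ (z b) = 0 := by
    refine Eq.trans (Finset.sum_congr rfl fun b _ => ?_) hm
    rw [map_mul, Algebra.smul_def]
    congr 1
    show (α m) (a b) = _
    rw [← hα φ]
    rfl
  obtain ⟨k, e, w, hw, he⟩ := Module.Flat.isTrivialRelation_of_sum_smul_eq_zero hm'
  refine ⟨k, e, fun b => c.ι.app m (w b), fun b => ?_, he⟩
  have hwb : F.map φ (z b) = ∑ t, e b t • w t := hw b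
  rw [← hz b, ← c.w φ, ConcreteCategory.comp_apply, hwb, map_sum]
  refine Finset.sum_congr rfl fun t _ => ?_
  rw [Algebra.smul_def, Algebra.smul_def, map_mul]
  congr 1
  exact hag m _

set_option maxHeartbeats 800000 in
set_option backward.isDefEq.respectTransparency.types false in
/-- A cofiltered limit of flat schemes, affine over the base, is flat. -/
theorem flat_of_isLimit {X : Scheme.{u}} {I : Type u} [SmallCategory I] [IsCofiltered I]
    (D : I ⥤ Scheme.{u}) (c : Cone D) (hc : IsLimit c) (p : ∀ i, D.obj i ⟶ X)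
    (hp : ∀ {i j} (f : i ⟶ j), D.map f ≫ p j = p i) (q : c.pt ⟶ X) (hq : ∀ i, c.π.app i ≫ p i = q)
    [hD : ∀ {i j} (f : i ⟶ j), IsAffineHom (D.map f)] [ha : ∀ i, IsAffineHom (p i)]
    (hf : ∀ i, Flat (p i)) : Flat q := by
  obtain ⟨i₀⟩ := (IsCofiltered.nonempty : Nonempty I)
  have := isAffineHom_π_app D c hc i₀
  obtain rfl := hq i₀
  have := hf i₀
  rw [HasRingHomProperty.iff_exists_appLE (P := @Flat)
    (RingHom.Flat.stableUnderComposition.stableUnderCompositionWithLocalizationAway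
      RingHom.Flat.holdsForLocalizationAway).left]
  intro x
  obtain ⟨U, hU, hxU, -⟩ :=
    exists_isAffineOpen_mem_and_subset (U := (⊤ : X.Opens)) (x := (c.π.app i₀ ≫ p i₀) x) trivial
  let U₀ : (D.obj i₀).Opens := p i₀ ⁻¹ᵁ U
  refine ⟨⟨U, hU⟩, ⟨c.π.app i₀ ⁻¹ᵁ U₀, (hU.preimage _).preimage _⟩, hxU, le_rfl, ?_⟩
  let E := opensDiagram D i₀ U₀
  have haffE : ∀ j : Over i₀, IsAffine (E.obj j) := fun j =>
    (hU.preimage (p i₀)).preimage (D.map j.hom)
  obtain ⟨hcol⟩ := nonempty_isColimit_Γ_mapCocone E _ (isLimitOpensCone D c hc i₀ U₀)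
  have hle : ∀ j : Over i₀, D.map j.hom ⁻¹ᵁ U₀ ≤ p j.left ⁻¹ᵁ U := fun j => by
    rw [← hp j.hom]; exact le_rfl
  let gU := ((c.π.app i₀ ≫ p i₀).resLE U (c.π.app i₀ ⁻¹ᵁ U₀) le_rfl).appTop
  let α : ∀ j : (Over i₀)ᵒᵖ, Γ(U.toScheme, ⊤) ⟶ (E.op ⋙ Scheme.Γ).obj j := fun j =>
    ((p j.unop.left).resLE U (D.map j.unop.hom ⁻¹ᵁ U₀) (hle j.unop)).appTop
  have hα : ∀ {i j} (f : i ⟶ j), α i ≫ (E.op ⋙ Scheme.Γ).map f = α j := fun {i j} f => by
    have e : E.map f.unop ≫ (p i.unop.left).resLE U (D.map i.unop.hom ⁻¹ᵁ U₀) (hle i.unop) =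
        (p j.unop.left).resLE U (D.map j.unop.hom ⁻¹ᵁ U₀) (hle j.unop) := by
      simp only [E, opensDiagram, Scheme.Hom.resLE_comp_resLE, hp]
    show ((p i.unop.left).resLE U (D.map i.unop.hom ⁻¹ᵁ U₀) (hle i.unop)).appTop ≫ (E.map f.unop).appTop = _
    exact ((Scheme.Hom.comp_appTop _ _).symm.trans (congrArg Scheme.Hom.appTop e))
  have hg : ∀ j, α j ≫ (Scheme.Γ.mapCocone (opensCone D c i₀ U₀).op).ι.app j = gU := fun j => by
    have e : (opensCone D c i₀ U₀).π.app j.unop ≫ (p j.unop.left).resLE U (D.map j.unop.hom ⁻¹ᵁ U₀) (hle j.unop) =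
        (c.π.app i₀ ≫ p i₀).resLE U (c.π.app i₀ ⁻¹ᵁ U₀) le_rfl := by
      show Scheme.Hom.resLE (c.π.app j.unop.left) _ (c.π.app i₀ ⁻¹ᵁ U₀) _ ≫ _ = _
      rw [Scheme.Hom.resLE_comp_resLE]
      simp only [hq j.unop.left]
    show ((p j.unop.left).resLE U (D.map j.unop.hom ⁻¹ᵁ U₀) (hle j.unop)).appTop ≫
      ((opensCone D c i₀ U₀).π.app j.unop).appTop = _
    exact ((Scheme.Hom.comp_appTop _ _).symm.trans (congrArg Scheme.Hom.appTop e))
  have hfl : gU.hom.Flat := by
    refine flat_of_isColimit hcol α hα gU hg fun j => ?_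
    have := hf j.unop.left
    have : IsAffine U.toScheme := hU
    have : IsAffine (D.map j.unop.hom ⁻¹ᵁ U₀).toScheme := haffE j.unop
    have hfl' : Flat ((p j.unop.left).resLE U (D.map j.unop.hom ⁻¹ᵁ U₀) (hle j.unop)) := by
      rw [Scheme.Hom.resLE]
      infer_instance
    exact HasRingHomProperty.appTop @Flat _ hfl'
  exact (RingHom.Flat.respectsIso.arrow_mk_iso_iff
    (arrowResLEAppIso (c.π.app i₀ ≫ p i₀) U (c.π.app i₀ ⁻¹ᵁ U₀) le_rfl)).1 hfl

set_option backward.isDefEq.respectTransparency.types false in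
/-- A cofiltered limit of affine faithfully flat schemes over a base is affine and faithfully flat. -/
theorem affine_flat_surjective_of_isLimit {X : Scheme.{u}} {I : Type u} [SmallCategory I] [IsCofiltered I]
    (D : I ⥤ Over X) (c : Cone D) (hc : IsLimit c) (ha : ∀ i, IsAffineHom (D.obj i).hom)
    (hf : ∀ i, Flat (D.obj i).hom) (hs : ∀ i, Surjective (D.obj i).hom) :
    IsAffineHom c.pt.hom ∧ Flat c.pt.hom ∧ Surjective c.pt.hom := by
  have : _root_.CategoryTheory.IsConnected I := IsCofiltered.isConnected I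
  let D' : I ⥤ Scheme.{u} := D ⋙ Over.forget X
  let c' : Cone D' := (Over.forget X).mapCone c
  let hc' : IsLimit c' := isLimitOfPreserves (Over.forget X) hc
  have hD : ∀ {i j} (f : i ⟶ j), IsAffineHom (D'.map f) := fun {i j} f => by
    show IsAffineHom (D.map f).left
    have : IsAffineHom ((D.map f).left ≫ (D.obj j).hom) := by rw [Over.w]; exact ha i
    exact IsAffineHom.of_comp _ (D.obj j).hom
  obtain ⟨i₀⟩ := (IsCofiltered.nonempty : Nonempty I)
  have h₀ : IsAffineHom (c.π.app i₀).left := isAffineHom_π_app D' c' hc' i₀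
  have := ha i₀
  have haff : IsAffineHom c.pt.hom := by
    rw [show c.pt.hom = (c.π.app i₀).left ≫ (D.obj i₀).hom from (Over.w (c.π.app i₀)).symm]
    exact MorphismProperty.comp_mem _ _ _ h₀ this
  refine ⟨haff, flat_of_isLimit D' c' hc' (fun i => (D.obj i).hom) (fun f => Over.w (D.map f)) _
    (fun i => Over.w (c.π.app i)) (hD := hD) (ha := ha) hf, ⟨fun x => ?_⟩⟩
  let g : Spec (X.residueField x) ⟶ X := X.fromSpecResidueField x
  let F := Over.pullback g
  let E : I ⥤ Scheme.{u} := (D ⋙ F) ⋙ Over.forget _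
  let hE : IsLimit ((Over.forget _).mapCone (F.mapCone c)) :=
    isLimitOfPreserves (Over.forget _) (isLimitOfPreserves F hc)
  have hFa : ∀ i, IsAffine (E.obj i) := fun i => by
    show IsAffine (pullback (D.obj i).hom g)
    have h : IsAffineHom (pullback.snd (D.obj i).hom g) :=
      MorphismProperty.of_isPullback (P := @IsAffineHom) (IsPullback.of_hasPullback (D.obj i).hom g) (ha i)
    exact @isAffine_of_isAffineHom _ _ (pullback.snd (D.obj i).hom g) h inferInstance
  have : ∀ {i j} (f : i ⟶ j), IsAffineHom (E.map f) := fun {i j} f => by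
    have := hFa i; have := hFa j; infer_instance
  have : ∀ i, Nonempty (E.obj i) := fun i => by
    have := hs i
    have : Surjective (pullback.snd (D.obj i).hom g) := inferInstance
    exact ⟨(Surjective.surj (f := pullback.snd (D.obj i).hom g) (IsLocalRing.closedPoint _)).choose⟩
  have : ∀ i, CompactSpace (E.obj i) := fun i => have := hFa i; inferInstance
  obtain ⟨(y : ↥(pullback c.pt.hom g))⟩ := Scheme.nonempty_of_isLimit E _ hE
  refine ⟨pullback.fst c.pt.hom g y, ?_⟩
  rw [← Scheme.Hom.comp_apply, pullback.condition, Scheme.Hom.comp_apply]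
  exact X.fromSpecResidueField_apply x _

end Groth.Agent.NonAbLib
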