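import Groth.Agent.NonAbLib.IsomNormal
import Groth.Agent.NonAbLib.TorsorSch
import Groth.Agent.SchTorsor.Props
import Groth.Prelude.Def_NoriFGS
import Mathlib.AlgebraicGeometry.Morphisms.LocalFlatDescent

/-!
# Fibre products of pointed torsors under finite group schemes over a field
-/

universe u

open CategoryTheory CategoryTheory.Limits MonoidalCategory CartesianMonoidalCategory MonObj GrpObj AlgebraicGeometry

namespace Groth.Agent.NonAbLib

/-- The unit section of a base changed group, followed by the projection. -/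
theorem bc_eta_fst {S S' : Scheme.{u}} (G : Over S) [GrpObj G] (f : S' ⟶ S) :
    (η[Red.bc f G] : 𝟙_ (Over S') ⟶ Red.bc f G).left ≫ pullback.fst G.hom f =
      f ≫ (η[G] : 𝟙_ (Over S) ⟶ G).left := by
  have h : η[Red.bc f G] = Functor.LaxMonoidal.ε (Over.pullback f) ≫ (Over.pullback f).map η[G] := rfl
  have h1 : ((Over.pullback f).map η[G]).left ≫ pullback.fst G.hom f =
      pullback.fst (𝟙_ (Over S)).hom f ≫ (η[G] : 𝟙_ (Over S) ⟶ G).left := pullback.lift_fst _ _ _
  have h2 : (Functor.LaxMonoidal.ε (Over.pullback f)).left ≫ pullback.fst (𝟙_ (Over S)).hom f = f := by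
    have h4 : (Functor.LaxMonoidal.ε (Over.pullback f)).left ≫ pullback.snd (𝟙_ (Over S)).hom f = 𝟙 _ :=
      Over.w (Functor.LaxMonoidal.ε (Over.pullback f))
    have h5 : pullback.fst (𝟙_ (Over S)).hom f = pullback.snd (𝟙_ (Over S)).hom f ≫ f := by
      rw [← pullback.condition]
      exact (Category.comp_id _).symm
    rw [h5, reassoc_of% h4]
  rw [h, Over.comp_left, Category.assoc, h1, reassoc_of% h2]

/-- A field valued point with image the unit point is the unit. -/
theorem eq_comp_eta_of_mem_range {k : Type u} [Field k] {G : Over (Spec (CommRingCat.of k))} [GrpObj G]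
    [IsSeparated G.hom] {Y : Scheme.{u}} [IsReduced Y] (g : Y ⟶ G.left)
    (h : ∀ y, g y ∈ Set.range (η[G] : 𝟙_ (Over (Spec (CommRingCat.of k))) ⟶ G).left) :
    g = g ≫ G.hom ≫ (η[G] : 𝟙_ (Over (Spec (CommRingCat.of k))) ⟶ G).left := by
  let e := (η[G] : 𝟙_ (Over (Spec (CommRingCat.of k))) ⟶ G).left
  have he : e ≫ G.hom = 𝟙 _ := Over.w (η[G] : 𝟙_ (Over (Spec (CommRingCat.of k))) ⟶ G)
  have : IsClosedImmersion (e ≫ G.hom) := by rw [he]; infer_instance
  have : IsClosedImmersion e := IsClosedImmersion.of_comp e G.hom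
  have : Surjective (pullback.fst g e) := ⟨fun y => by
    obtain ⟨z, hz⟩ := h y
    obtain ⟨w, hw, -⟩ := Scheme.Pullback.exists_preimage_pullback (f := g) (g := e) y z hz.symm
    exact ⟨w, hw⟩⟩
  have := isIso_of_isClosedImmersion_of_surjective (pullback.fst g e)
  have hg : g = inv (pullback.fst g e) ≫ pullback.snd g e ≫ e := by
    rw [← pullback.condition, IsIso.inv_hom_id_assoc]
  change g = g ≫ G.hom ≫ e
  conv_rhs => rw [hg]
  simp only [Category.assoc, reassoc_of% he]
  exact hg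

set_option backward.isDefEq.respectTransparency.types false in
/-- The fibre product of morphisms of pointed torsors surjects onto a connected base. -/
theorem surjective_pullback
    {k : Type u} [Field k] {X : Scheme.{u}} [X.Over (Spec (CommRingCat.of k))] [ConnectedSpace X]
    {x : Spec (CommRingCat.of k) ⟶ X} (hx : x ≫ (X ↘ Spec (CommRingCat.of k)) = 𝟙 _)
    {G G₁ G₂ : Over (Spec (CommRingCat.of k))} [GrpObj G] [GrpObj G₁] [GrpObj G₂]
    [IsFinite G.hom] [IsFinite G₁.hom] [IsFinite G₂.hom]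
    {T T₁ T₂ : Over X}
    {a : AlgGrp.Action (Red.bc (X ↘ Spec (CommRingCat.of k)) G) T}
    {a₁ : AlgGrp.Action (Red.bc (X ↘ Spec (CommRingCat.of k)) G₁) T₁}
    {a₂ : AlgGrp.Action (Red.bc (X ↘ Spec (CommRingCat.of k)) G₂) T₂}
    (hT : NonAbH1.IsPseudoTorsorSch a)
    (hT₁ : NonAbH1.IsTorsorFor Scheme.fpqcPrecoverage a₁)
    (hT₂ : NonAbH1.IsTorsorFor Scheme.fpqcPrecoverage a₂)
    {t : Spec (CommRingCat.of k) ⟶ T.left} {t₁ : Spec (CommRingCat.of k) ⟶ T₁.left}
    {t₂ : Spec (CommRingCat.of k) ⟶ T₂.left}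
    (ht : t ≫ T.hom = x) (ht₁ : t₁ ≫ T₁.hom = x) (ht₂ : t₂ ≫ T₂.hom = x)
    (f₁ : T₁ ⟶ T) (f₂ : T₂ ⟶ T) (hft₁ : t₁ ≫ f₁.left = t) (hft₂ : t₂ ≫ f₂.left = t) :
    Surjective (pullback f₁ f₂).hom := by
  classical
  let s := X ↘ Spec (CommRingCat.of k)
  have hfl : ∀ (H : Over (Spec (CommRingCat.of k))) [IsFinite H.hom],
      IsFinite (Red.bc s H).hom ∧ Flat (Red.bc s H).hom ∧ LocallyOfFinitePresentation (Red.bc s H).hom :=
    fun H _ => ⟨inferInstanceAs (IsFinite (pullback.snd H.hom s)), inferInstanceAs (Flat (pullback.snd H.hom s)),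
      inferInstanceAs (LocallyOfFinitePresentation (pullback.snd H.hom s))⟩
  obtain ⟨hG₁, hG₁', hG₁''⟩ := hfl G₁
  obtain ⟨hG₂, hG₂', hG₂''⟩ := hfl G₂
  obtain ⟨hf₁, hfl₁, -⟩ := finite_flat_torsor hT₁
  obtain ⟨hf₂, hfl₂, -⟩ := finite_flat_torsor hT₂
  have : IsZariskiLocalAtTarget (@LocallyOfFinitePresentation : MorphismProperty Scheme.{u}) :=
    HasRingHomProperty.instIsZariskiLocalAtTarget _
  have := SchTorsor.torsor_property @LocallyOfFinitePresentation hT₁ hG₁''
  have := SchTorsor.torsor_property @LocallyOfFinitePresentation hT₂ hG₂''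
  let W : Over X := T₁ ⊗ T₂
  have hWhom : W.hom = pullback.fst T₁.hom T₂.hom ≫ T₁.hom := rfl
  have : IsFinite W.hom := by rw [hWhom]; infer_instance
  have : Flat W.hom := by rw [hWhom]; infer_instance
  have : LocallyOfFinitePresentation W.hom := by rw [hWhom]; infer_instance
  let d : W ⟶ Red.bc s G := tdiv hT (fst T₁ T₂ ≫ f₁) (snd T₁ T₂ ≫ f₂)
  let D : W.left ⟶ G.left := d.left ≫ pullback.fst G.hom s
  have : DiscreteTopology G.left := by
    have h := G.hom.isDiscrete_preimage (s := Set.univ) (isDiscrete_univ_iff.mpr inferInstance)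
    rw [Set.preimage_univ] at h
    exact isDiscrete_univ_iff.mp h
  let e := (η[G] : 𝟙_ (Over (Spec (CommRingCat.of k))) ⟶ G).left (IsLocalRing.closedPoint k)
  let O : Set W.left := D ⁻¹' {e}
  have hO : IsClopen O := (isClopen_discrete _).preimage D.continuous
  have him : IsClopen (W.hom '' O) := ⟨W.hom.isClosedMap _ hO.1, W.hom.isOpenMap _ hO.2⟩
  -- the marked point
  let P₀ : Over X := Over.mk x
  let w : P₀ ⟶ W := lift (Over.homMk t₁ ht₁) (Over.homMk t₂ ht₂)
  have hw : w.left ≫ D = (η[G] : 𝟙_ (Over (Spec (CommRingCat.of k))) ⟶ G).left := by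
    have h1 : w ≫ d = 1 := by
      rw [← comp_tdiv]
      refine tdiv_eq hT ?_
      rw [SchTorsor.one_act_pt]
      simp only [w, lift_fst_assoc, lift_snd_assoc]
      ext
      exact hft₂.trans hft₁.symm
    show w.left ≫ d.left ≫ pullback.fst G.hom s = _
    rw [← Category.assoc, ← Over.comp_left, h1, Hom.one_def]
    show (toUnit P₀).left ≫ (η[Red.bc s G] : 𝟙_ (Over X) ⟶ Red.bc s G).left ≫ _ = _
    rw [show (toUnit P₀).left = x from rfl, bc_eta_fst, ← Category.assoc]
    erw [hx, Category.id_comp]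
  have hne : (W.hom '' O).Nonempty := by
    refine ⟨_, w.left (IsLocalRing.closedPoint k), ?_, rfl⟩
    show D (w.left (IsLocalRing.closedPoint k)) = e
    exact congrArg (fun m => m (IsLocalRing.closedPoint k)) hw
  refine ⟨fun p => ?_⟩
  obtain ⟨q, hq, hqp⟩ := (him.eq_univ hne).symm ▸ Set.mem_univ p
  -- a point of the fibre product over `p`
  let K := W.left.residueField q
  let j : Spec K ⟶ W.left := W.left.fromSpecResidueField q
  let Z : Over X := Over.mk (j ≫ W.hom)
  let jj : Z ⟶ W := Over.homMk j rfl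
  have hj : ∀ z : Spec K, j z = q := W.left.fromSpecResidueField_apply q
  have h1 : jj ≫ d = 1 := by
    refine Over.OverMorphism.ext (pullback.hom_ext ?_ ?_)
    · rw [Over.comp_left, Category.assoc]
      show j ≫ D = _
      rw [eq_comp_eta_of_mem_range (j ≫ D) fun z => ⟨IsLocalRing.closedPoint k, by
        rw [Scheme.Hom.comp_apply, hj]; exact hq.symm⟩, Hom.one_def]
      show _ = ((toUnit Z).left ≫ (η[Red.bc s G] : 𝟙_ (Over X) ⟶ Red.bc s G).left) ≫ pullback.fst G.hom s
      rw [Category.assoc (toUnit Z).left, bc_eta_fst, show (toUnit Z).left = j ≫ W.hom from rfl]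
      simp only [D, Category.assoc]
      rw [pullback.condition_assoc]
      exact congrArg (j ≫ ·) ((Category.assoc _ _ _).symm.trans (congrArg (· ≫ _) (Over.w d)))
    · exact (Over.w _).trans (Over.w _).symm
  have h2 : (jj ≫ fst T₁ T₂) ≫ f₁ = (jj ≫ snd T₁ T₂) ≫ f₂ := by
    have h := comp_tdiv hT jj (fst T₁ T₂ ≫ f₁) (snd T₁ T₂ ≫ f₂)
    rw [h1] at h
    have := tdiv_act hT (jj ≫ fst T₁ T₂ ≫ f₁) (jj ≫ snd T₁ T₂ ≫ f₂)
    rw [h, SchTorsor.one_act_pt] at this
    simpa [Category.assoc] using this.symm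
  let u := pullback.lift (jj ≫ fst T₁ T₂) (jj ≫ snd T₁ T₂) h2
  let z₀ : Spec K := IsLocalRing.closedPoint K
  refine ⟨u.left z₀, ?_⟩
  rw [← Scheme.Hom.comp_apply, Over.w u]
  show (j ≫ W.hom) z₀ = p
  rw [Scheme.Hom.comp_apply, hj, hqp]

end Groth.Agent.NonAbLib
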