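import Groth.Agent.SchTorsor.Basic
import Groth.Agent.NonAbLib.IsomSch
import Groth.Agent.NonAbLib.TorsorSch
import Groth.Agent.DescLib.IndQAEff
import Groth.Prelude.Def_ActBC
import Mathlib.AlgebraicGeometry.Sites.Fpqc

/-!
# Existence of the push forward of a torsor along a homomorphism to an affine group
-/

universe u

open CategoryTheory CategoryTheory.Limits MonoidalCategory CartesianMonoidalCategory MonObj GrpObj AlgebraicGeometry
open Groth.Agent.GrpSchLib.TopDescent Desc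

namespace Groth.Agent.NonAbLib

variable {S : Scheme.{u}}

set_option backward.isDefEq.respectTransparency.types false in
/-- An fpqc locally trivial scheme has a section over one fpqc covering morphism. -/
theorem exists_single_fpqc {X : Over S} (h : NonAbH1.IsLocallyTrivialFor Scheme.fpqcPrecoverage X) :
    ∃ (Z : Scheme.{u}) (p : Z ⟶ S), Flat p ∧ Surjective p ∧ Presieve.singleton p ∈ Scheme.fpqcPrecoverage S ∧
      NonAbH1.HasSectionOver X p := by
  obtain ⟨R, hR, hsec⟩ := h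
  obtain ⟨J, U, v, rfl⟩ := R.exists_eq_ofArrows
  let 𝒰 : PreZeroHypercover.{u + 1} S := ⟨J, U, v⟩
  have : QuasiCompactCover 𝒰 := (Scheme.presieve₀_mem_qcPrecoverage_iff (E := 𝒰)).1 hR.1
  have hflat : ∀ i, Flat (v i) := ((Scheme.ofArrows_mem_precoverage_iff _).1 hR.2).2
  let 𝒱 := QuasiCompactCover.ulift 𝒰
  let a : 𝒱.I₀ → J := (QuasiCompactCover.uliftHom 𝒰).s₀
  choose sec hsec' using fun i => hsec (v i) (.mk i)
  have hfl : ∀ k, Flat (𝒱.f k) := fun k => hflat _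
  have hse : ∀ k, NonAbH1.HasSectionOver X (𝒱.f k) := fun k => ⟨sec _, hsec' _⟩
  choose sec' hsec'' using hse
  let p : ∐ 𝒱.X ⟶ S := Sigma.desc 𝒱.f
  have hp : Flat p := IsZariskiLocalAtSource.sigmaDesc hfl
  have hqc : QuasiCompactCover (PreZeroHypercover.singleton.{u} p) :=
    .of_hom (𝒱 := 𝒱) ⟨fun _ => PUnit.unit, fun k => Sigma.ι 𝒱.X k, fun k => Sigma.ι_desc _ _⟩
  have hsurj : Surjective p := ⟨fun s => by
    obtain ⟨W, hW, hsW, -⟩ := exists_isAffineOpen_mem_and_subset (U := (⊤ : S.Opens)) (x := s) trivial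
    obtain ⟨t, ht, O, hO, hOe⟩ := hW.isCompactOpenCovered (PreZeroHypercover.singleton p)
    rw [← SetLike.mem_coe, ← hOe] at hsW
    simp only [Set.mem_iUnion] at hsW
    obtain ⟨i, hi, y, -, hy⟩ := hsW
    exact ⟨y, hy⟩⟩
  refine ⟨_, p, hp, hsurj, ⟨?_, ?_⟩, Sigma.desc sec', Sigma.hom_ext _ _ fun k => ?_⟩
  · have := (Scheme.presieve₀_mem_qcPrecoverage_iff (E := PreZeroHypercover.singleton p)).2 hqc
    rwa [PreZeroHypercover.presieve₀_singleton] at this
  · exact (Scheme.singleton_mem_precoverage_iff _ _).2 ⟨hsurj.surj, hp⟩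
  · rw [Sigma.ι_desc_assoc, Sigma.ι_desc, hsec'']

variable {G : Over S} [GrpObj G] {Z : Over S}

/-- A cocycle on a covering: a group valued function on pairs of points. -/
structure PairCocycle (G : Over S) [GrpObj G] (Z : Over S) where
  /-- the values -/
  val : ∀ {T : Over S}, (T ⟶ Z) → (T ⟶ Z) → (T ⟶ G)
  natural : ∀ {T T' : Over S} (j : T' ⟶ T) (x₀ x₁ : T ⟶ Z), j ≫ val x₀ x₁ = val (j ≫ x₀) (j ≫ x₁)
  cocycle : ∀ {T : Over S} (x₀ x₁ x₂ : T ⟶ Z), val x₀ x₁ * val x₁ x₂ = val x₀ x₂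

variable (c : PairCocycle G Z)

theorem PairCocycle.self {T : Over S} (x : T ⟶ Z) : c.val x x = 1 :=
  mul_eq_left.1 (c.cocycle x x x)

/-- Twisting by the cocycle. -/
noncomputable def PairCocycle.move {T : Over S} (x₀ x₁ : T ⟶ Z) (q : T ⟶ G) : T ⟶ G := q * c.val x₀ x₁

theorem PairCocycle.move_left_congr {T T' : Over S} (j : T' ⟶ T) {x₀ x₁ : T ⟶ Z} {q : T ⟶ G}
    {y₀ y₁ : T' ⟶ Z} {r : T' ⟶ G} (h₀ : y₀.left = j.left ≫ x₀.left) (h₁ : y₁.left = j.left ≫ x₁.left)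
    (hq : r.left = j.left ≫ q.left) : (c.move y₀ y₁ r).left = j.left ≫ (c.move x₀ x₁ q).left := by
  obtain rfl : y₀ = j ≫ x₀ := Over.OverMorphism.ext h₀
  obtain rfl : y₁ = j ≫ x₁ := Over.OverMorphism.ext h₁
  obtain rfl : r = j ≫ q := Over.OverMorphism.ext hq
  rw [← Over.comp_left, move, move, MonObj.comp_mul, c.natural]

omit [GrpObj G] in
theorem cocycle_lifts_hom {T : Scheme.{u}} {x₀ : T ⟶ Z.left}
    (v : Lifts (Over.mk (pullback.snd G.hom Z.hom)) x₀) :
    (v.1 ≫ pullback.fst G.hom Z.hom) ≫ G.hom = x₀ ≫ Z.hom := by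
  rw [Category.assoc, pullback.condition, ← Category.assoc]
  exact congrArg (· ≫ Z.hom) v.2

/-- The transition of the twisted descent datum. -/
noncomputable def PairCocycle.map {T : Scheme.{u}} (x₀ x₁ : T ⟶ Z.left) (h : x₀ ≫ Z.hom = x₁ ≫ Z.hom)
    (v : Lifts (Over.mk (pullback.snd G.hom Z.hom)) x₀) : Lifts (Over.mk (pullback.snd G.hom Z.hom)) x₁ :=
  ⟨pullback.lift
    (c.move (T := Over.mk (x₀ ≫ Z.hom)) (Over.homMk x₀ rfl) (Over.homMk x₁ h.symm)
      (Over.homMk (v.1 ≫ pullback.fst G.hom Z.hom) (cocycle_lifts_hom v))).left x₁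
    ((Over.w _).trans h), pullback.lift_snd _ _ _⟩

theorem PairCocycle.map_fst {T : Scheme.{u}} (x₀ x₁ : T ⟶ Z.left) (h : x₀ ≫ Z.hom = x₁ ≫ Z.hom)
    (v : Lifts (Over.mk (pullback.snd G.hom Z.hom)) x₀) {T₀ : Over S} (j : T₀ ⟶ Over.mk (x₀ ≫ Z.hom))
    {X₀ X₁ : T₀ ⟶ Z} {q : T₀ ⟶ G} (h₀ : X₀.left = j.left ≫ x₀) (h₁ : X₁.left = j.left ≫ x₁)
    (hq : q.left = j.left ≫ v.1 ≫ pullback.fst G.hom Z.hom) :
    (c.move X₀ X₁ q).left = j.left ≫ (c.map x₀ x₁ h v).1 ≫ pullback.fst G.hom Z.hom := by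
  rw [map, pullback.lift_fst]
  exact c.move_left_congr j h₀ h₁ hq

theorem PairCocycle.map_comp {T : Scheme.{u}} (x₀ x₁ x₂ : T ⟶ Z.left) (h₀₁ : x₀ ≫ Z.hom = x₁ ≫ Z.hom)
    (h₁₂ : x₁ ≫ Z.hom = x₂ ≫ Z.hom) (v : Lifts (Over.mk (pullback.snd G.hom Z.hom)) x₀) :
    c.map x₁ x₂ h₁₂ (c.map x₀ x₁ h₀₁ v) = c.map x₀ x₂ (h₀₁.trans h₁₂) v := by
  let T₀ : Over S := Over.mk (x₀ ≫ Z.hom)
  let X₀ : T₀ ⟶ Z := Over.homMk x₀ rfl
  let X₁ : T₀ ⟶ Z := Over.homMk x₁ h₀₁.symm
  let X₂ : T₀ ⟶ Z := Over.homMk x₂ (h₀₁.trans h₁₂).symm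
  let q₀ : T₀ ⟶ G := Over.homMk (v.1 ≫ pullback.fst G.hom Z.hom) (cocycle_lifts_hom v)
  let j : T₀ ⟶ Over.mk (x₁ ≫ Z.hom) := Over.homMk (𝟙 T) (by simpa [T₀] using h₀₁.symm)
  have e₁ := c.map_fst x₀ x₁ h₀₁ v (𝟙 T₀) (X₀ := X₀) (X₁ := X₁) (q := q₀) (Category.id_comp _).symm
    (Category.id_comp _).symm (Category.id_comp _).symm
  have e₂ := c.map_fst x₀ x₂ (h₀₁.trans h₁₂) v (𝟙 T₀) (X₀ := X₀) (X₁ := X₂) (q := q₀) (Category.id_comp _).symm
    (Category.id_comp _).symm (Category.id_comp _).symm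
  have e₃ := c.map_fst x₁ x₂ h₁₂ (c.map x₀ x₁ h₀₁ v) j (X₀ := X₁) (X₁ := X₂)
    (q := c.move X₀ X₁ q₀) (Category.id_comp _).symm (Category.id_comp _).symm
    (e₁.trans ((Category.id_comp _).trans (Category.id_comp _).symm))
  rw [show c.move X₁ X₂ (c.move X₀ X₁ q₀) = c.move X₀ X₂ q₀ by
    simp only [move, _root_.mul_assoc, c.cocycle], e₂] at e₃
  refine Subtype.ext (pullback.hom_ext ?_ ((c.map x₁ x₂ h₁₂ _).2.trans (c.map x₀ x₂ _ v).2.symm))
  exact (((Category.id_comp _).symm.trans e₃).trans (Category.id_comp _)).symm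

theorem PairCocycle.map_self {T : Scheme.{u}} (x : T ⟶ Z.left) (v : Lifts (Over.mk (pullback.snd G.hom Z.hom)) x) :
    c.map x x rfl v = v := by
  refine Subtype.ext (pullback.hom_ext ?_ ((c.map x x rfl v).2.trans v.2.symm))
  rw [map, pullback.lift_fst, move, c.self, _root_.mul_one]
  rfl

/-- The twisted descent datum. -/
noncomputable def PairCocycle.dd : SchDD Z.hom where
  obj := Over.mk (pullback.snd G.hom Z.hom)
  φ T x₀ x₁ h :=
    { toFun := c.map x₀ x₁ h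
      invFun := c.map x₁ x₀ h.symm
      left_inv := fun v => (c.map_comp x₀ x₁ x₀ h h.symm v).trans (c.map_self x₀ v)
      right_inv := fun v => (c.map_comp x₁ x₀ x₁ h.symm h v).trans (c.map_self x₁ v) }
  φ_natural T T' g x₀ x₁ h h' v v' hv' := by
    show (c.map _ _ h' v').1 = g ≫ (c.map x₀ x₁ h v).1
    refine pullback.hom_ext ?_ ((c.map _ _ h' v').2.trans
      ((congrArg (g ≫ ·) (c.map x₀ x₁ h v).2.symm).trans (Category.assoc _ _ _).symm))
    rw [Category.assoc]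
    refine Eq.trans ?_ (c.map_fst x₀ x₁ h v
      (Over.homMk g (Category.assoc _ _ _).symm : Over.mk ((g ≫ x₀) ≫ Z.hom) ⟶ Over.mk (x₀ ≫ Z.hom))
      (X₀ := Over.homMk (g ≫ x₀) rfl) (X₁ := Over.homMk (g ≫ x₁) h'.symm)
      (q := Over.homMk (v'.1 ≫ pullback.fst G.hom Z.hom) (cocycle_lifts_hom v')) rfl rfl
      (by show v'.1 ≫ _ = g ≫ _; rw [hv', Category.assoc]))
    exact pullback.lift_fst _ _ _
  φ_self T x v := c.map_self x v
  φ_comp T x₀ x₁ x₂ h₀₁ h₁₂ v := c.map_comp x₀ x₁ x₂ h₀₁ h₁₂ v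

/-- The twisted form of an affine group by a cocycle on a covering exists. -/
theorem PairCocycle.exists_twist [IsAffineHom G.hom]
    (hcov : Presieve.singleton Z.hom ∈ Scheme.fpqcPrecoverage S) :
    ∃ (U : Over S) (E : U ⊗ Z ⟶ G), IsIso (lift E (snd U Z)) ∧
      ∀ {T : Over S} (y : T ⟶ U) (x₀ x₁ : T ⟶ Z),
        lift y x₁ ≫ E = (lift y x₀ ≫ E) * c.val x₀ x₁ := by
  let D := c.dd
  have : IsAffineHom (pullback.snd G.hom Z.hom) :=
    isAffineHom_isStableUnderBaseChange.of_isPullback (IsPullback.of_hasPullback G.hom Z.hom) ‹_›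
  have heff := DescLib.IndQA.isEffective_of_indQA (fun _ : PUnit.{u + 1} => Z.hom)
    (by rw [Presieve.ofArrows_pUnit]; exact hcov)
    ((SchDDFam.ofSchDD.{u} Z.hom).obj D) fun _ => DescLib.indQA_of_isAffineHom (pullback.snd G.hom Z.hom)
  obtain ⟨U, ⟨I⟩⟩ := (DescLib.isEffective_ofSchDD_iff Z.hom D).1 heff
  let f : pullback Z.hom U.hom ⟶ pullback G.hom Z.hom := I.hom.hom.left
  have hf : f ≫ pullback.snd G.hom Z.hom = pullback.fst Z.hom U.hom := Over.w I.hom.hom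
  let sy := pullbackSymmetry U.hom Z.hom
  let E : U ⊗ Z ⟶ G := Over.homMk (sy.hom ≫ f ≫ pullback.fst G.hom Z.hom) (by
    show _ = pullback.fst U.hom Z.hom ≫ U.hom
    simp only [Category.assoc]
    rw [pullback.condition, ← Category.assoc f, hf, pullback.condition, ← Category.assoc sy.hom,
      pullbackSymmetry_hom_comp_snd])
  refine ⟨U, E, ?_, ?_⟩
  · have e : (lift E (snd U Z)).left = sy.hom ≫ f := pullback.hom_ext
      ((congrArg CommaMorphism.left (lift_fst E (snd U Z))).trans (Category.assoc _ _ _).symm)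
      ((congrArg CommaMorphism.left (lift_snd E (snd U Z))).trans
        ((pullbackSymmetry_hom_comp_fst U.hom Z.hom).symm.trans
          ((congrArg (sy.hom ≫ ·) hf.symm).trans (Category.assoc _ _ _).symm)))
    have : IsIso I.hom.hom :=
      ⟨I.inv.hom, by rw [← SchDD.comp_hom, I.hom_inv_id]; rfl, by rw [← SchDD.comp_hom, I.inv_hom_id]; rfl⟩
    have : IsIso f := (Over.forget Z.left).map_isIso I.hom.hom
    have : IsIso ((Over.forget S).map (lift E (snd U Z))) := by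
      show IsIso (lift E (snd U Z)).left
      rw [e]; infer_instance
    exact isIso_of_reflects_iso _ (Over.forget S)
  · intro T y x₀ x₁
    have h : x₀.left ≫ Z.hom = x₁.left ≫ Z.hom := (Over.w x₀).trans (Over.w x₁).symm
    have hxy : x₀.left ≫ Z.hom = y.left ≫ U.hom := (Over.w x₀).trans (Over.w y).symm
    let v : Lifts ((toDD Z.hom).obj U).obj x₀.left := ⟨pullback.lift x₀.left y.left hxy, pullback.lift_fst _ _ _⟩
    let w : Lifts D.obj x₀.left := ⟨v.1 ≫ f, (Category.assoc _ _ _).trans ((congrArg (v.1 ≫ ·) hf).trans v.2)⟩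
    have hcomm : (c.map x₀.left x₁.left h w).1 = (canMap Z.hom U x₀.left x₁.left h v).1 ≫ f :=
      I.hom.comm x₀.left x₁.left h v w rfl
    have hev : ∀ z : T ⟶ Z, (lift y z ≫ E).left =
        pullback.lift z.left y.left ((Over.w z).trans (Over.w y).symm) ≫ f ≫ pullback.fst G.hom Z.hom := fun z => by
      show (lift y z).left ≫ sy.hom ≫ f ≫ _ = _
      rw [← Category.assoc]
      congr 1
      refine pullback.hom_ext ?_ ?_
      · rw [Category.assoc, pullbackSymmetry_hom_comp_fst, pullback.lift_fst]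
        exact congrArg CommaMorphism.left (lift_snd y z)
      · rw [Category.assoc, pullbackSymmetry_hom_comp_snd, pullback.lift_snd]
        exact congrArg CommaMorphism.left (lift_fst y z)
    let j : T ⟶ Over.mk (x₀.left ≫ Z.hom) := Over.homMk (𝟙 T.left) ((Category.id_comp _).trans (Over.w x₀))
    have hmove := c.map_fst x₀.left x₁.left h w j (X₀ := x₀) (X₁ := x₁) (q := lift y x₀ ≫ E)
      (Category.id_comp _).symm (Category.id_comp _).symm ((hev x₀).trans (by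
        show _ = 𝟙 T.left ≫ (v.1 ≫ f) ≫ _
        rw [Category.id_comp]
        exact (Category.assoc _ _ _).symm))
    refine Over.OverMorphism.ext ((hev x₁).trans (Eq.trans ?_ hmove.symm))
    rw [hcomm]
    refine Eq.trans ?_ (Category.id_comp _).symm
    rw [Category.assoc]
    congr 1
    refine pullback.hom_ext ?_ ?_
    · exact (pullback.lift_fst _ _ _).trans (canMap Z.hom U x₀.left x₁.left h v).2.symm
    · rw [pullback.lift_snd]
      exact ((pullback.lift_snd _ _ _).trans (pullback.lift_snd _ _ _)).symm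

/-- The push forward of a torsor along a homomorphism to an affine group exists. -/
theorem exists_pushforward {J J' P : Over S} [GrpObj J] [GrpObj J'] [IsAffineHom J'.hom]
    (φ : J ⟶ J') [IsMonHom φ] {a : AlgGrp.Action J P}
    (ha : NonAbH1.IsTorsorFor Scheme.fpqcPrecoverage a) :
    ∃ P' : NonAbH1.TorsorSch J' Scheme.fpqcPrecoverage, NonAbH1.IsPushforwardAlongSch φ a P'.act := by
  classical
  obtain ⟨Z₀, p, -, -, hcov, s, hs⟩ := exists_single_fpqc ha.2
  let Z : Over S := Over.mk p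
  let σ : Z ⟶ P := Over.homMk s hs
  let c : PairCocycle J' Z :=
    { val := fun x₀ x₁ => tdiv ha.1 (x₀ ≫ σ) (x₁ ≫ σ) ≫ φ
      natural := fun j x₀ x₁ => by rw [← Category.assoc, ← comp_tdiv, Category.assoc, Category.assoc]
      cocycle := fun x₀ x₁ x₂ => by
        rw [← MonObj.mul_comp]
        congr 1
        exact (tdiv_eq ha.1 (by rw [SchTorsor.act_assoc, tdiv_act, tdiv_act])).symm }
  obtain ⟨U, E, hiso, hE⟩ := c.exists_twist hcov
  have hloc : HasLocSec Scheme.fpqcTopology (toUnit Z) :=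
    SchTorsor.hasLocSec_toUnit ⟨_, hcov, fun S' f hf => by
      obtain ⟨⟩ := hf
      exact ⟨𝟙 _, Category.id_comp _⟩⟩
  -- points of `U` in the coordinates of a point of `Z`
  let inE : ∀ {T : Over S}, (T ⟶ J') → (T ⟶ Z) → (T ⟶ U) := fun q z =>
    lift q z ≫ inv (lift E (snd U Z)) ≫ fst U Z
  have hin : ∀ {T : Over S} (q : T ⟶ J') (z : T ⟶ Z), lift (inE q z) z ≫ E = q := fun q z => by
    have h1 : lift (inE q z) z = lift q z ≫ inv (lift E (snd U Z)) := by
      refine CartesianMonoidalCategory.hom_ext _ _ (by simp [inE]) ?_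
      rw [lift_snd, Category.assoc, show inv (lift E (snd U Z)) ≫ snd U Z = snd J' Z by
        rw [IsIso.inv_comp_eq, lift_snd], lift_snd]
    rw [h1, Category.assoc, show inv (lift E (snd U Z)) ≫ E = fst J' Z by
      rw [IsIso.inv_comp_eq, lift_fst], lift_fst]
  have hinj : ∀ {T : Over S} (z : T ⟶ Z) (y y' : T ⟶ U), lift y z ≫ E = lift y' z ≫ E → y = y' :=
    fun z y y' h => by
      have : lift y z ≫ lift E (snd U Z) = lift y' z ≫ lift E (snd U Z) :=
        CartesianMonoidalCategory.hom_ext _ _ (by simpa using h) (by simp)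
      simpa using congrArg (· ≫ fst U Z) ((cancel_mono _).1 this)
  have hcin : ∀ {T T' : Over S} (j : T' ⟶ T) (q : T ⟶ J') (z : T ⟶ Z), j ≫ inE q z = inE (j ≫ q) (j ≫ z) :=
    fun j q z => comp_lift_assoc j q z _
  have hcE : ∀ {T T' : Over S} (j : T' ⟶ T) (y : T ⟶ U) (z : T ⟶ Z),
      j ≫ lift y z ≫ E = lift (j ≫ y) (j ≫ z) ≫ E := fun j y z => comp_lift_assoc j y z E
  -- descent of a family of points
  have hdesc : ∀ {Y W : Over S} (F : Y ⊗ Z ⟶ W),
      (∀ {T : Over S} (y : T ⟶ Y) (z₀ z₁ : T ⟶ Z), lift y z₀ ≫ F = lift y z₁ ≫ F) →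
      ∃ χ : Y ⟶ W, ∀ {T : Over S} (y : T ⟶ Y) (z : T ⟶ Z), y ≫ χ = lift y z ≫ F := by
    intro Y W F hF
    obtain ⟨χ, hχ, -⟩ := (hloc.whiskerLeft Y).existsUnique_desc F fun T p q h => by
      have ht : p ≫ fst Y Z = q ≫ fst Y Z := by simpa using congrArg (· ≫ fst Y (𝟙_ (Over S))) h
      have h1 : ∀ r : T ⟶ Y ⊗ Z, lift (r ≫ fst Y Z) (r ≫ snd Y Z) = r := fun r => by
        rw [← comp_lift, lift_fst_snd, Category.comp_id]
      rw [← h1 p, ← h1 q, ht]
      exact hF _ _ _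
    refine ⟨(ρ_ Y).inv ≫ χ, fun {T} y z => ?_⟩
    rw [← hχ, ← Category.assoc, ← Category.assoc]
    congr 1
    exact CartesianMonoidalCategory.hom_ext _ _ (by simp) (toUnit_unique _ _)
  have hext : ∀ {T : Over S} (y y' : T ⟶ U),
      (∀ {T' : Over S} (j : T' ⟶ T) (z : T' ⟶ Z), lift (j ≫ y) z ≫ E = lift (j ≫ y') z ≫ E) → y = y' := by
    intro T y y' h
    rw [← cancel_epi (ρ_ T).hom]
    refine (hloc.whiskerLeft T).hom_ext ?_
    rw [rightUnitor_hom, ← Category.assoc, ← Category.assoc, whiskerLeft_fst]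
    exact hinj (snd T Z) _ _ (h (fst T Z) (snd T Z))
  -- the action
  obtain ⟨act, hact⟩ := hdesc
    (inE ((fst _ _ ≫ fst J' U) * (lift (fst _ _ ≫ snd J' U) (snd (J' ⊗ U) Z) ≫ E)) (snd (J' ⊗ U) Z))
    fun {T} y z₀ z₁ => by
      refine hinj z₁ _ _ ?_
      rw [hE _ z₀ z₁]
      simp only [inE, comp_lift_assoc]
      simp only [lift_snd, MonObj.comp_mul, comp_lift_assoc, lift_fst_assoc]
      have e0 := hin ((y ≫ fst J' U) * (lift (y ≫ snd J' U) z₀ ≫ E)) z₀
      have e1 := hin ((y ≫ fst J' U) * (lift (y ≫ snd J' U) z₁ ≫ E)) z₁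
      simp only [inE] at e0 e1
      rw [e0, e1, _root_.mul_assoc, ← hE]
  have hact' : ∀ {T : Over S} (g : T ⟶ J') (y : T ⟶ U) (z : T ⟶ Z),
      lift (lift g y ≫ act) z ≫ E = g * (lift y z ≫ E) := fun g y z => by
    rw [hact (lift g y) z]
    simp only [inE, comp_lift_assoc, lift_snd, MonObj.comp_mul, lift_fst_assoc, lift_fst, lift_snd]
    exact hin _ z
  have hact'' : ∀ {T T' : Over S} (j : T' ⟶ T) (g : T ⟶ J') (y : T ⟶ U) (z : T' ⟶ Z),
      lift (j ≫ lift g y ≫ act) z ≫ E = (j ≫ g) * (lift (j ≫ y) z ≫ E) := fun j g y z => by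
    rw [comp_lift_assoc, hact']
  let b : AlgGrp.Action J' U :=
    { act := act
      one_act := AlgGrp.Action.hom_ext_lift₂ fun T v y => hext _ _ fun j z => by
        have hv : v ≫ η[J'] = 1 := by rw [Hom.one_def, toUnit_unique (toUnit T) v]
        rw [lift_whiskerRight_assoc, hv, lift_leftUnitor_hom, hact'', MonObj.comp_one, _root_.one_mul]
      mul_act := AlgGrp.Action.hom_ext_lift₃ fun T g g' y => hext _ _ fun j z => by
        rw [lift_whiskerRight_assoc, ← Hom.mul_def, lift_lift_associator_hom_assoc, lift_whiskerLeft_assoc,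
          hact'', hact'', hact'', MonObj.comp_mul, _root_.mul_assoc] }
  have hb : NonAbH1.IsPseudoTorsorSch b := by
    refine isPseudoTorsor_of_points b fun T y w => ?_
    obtain ⟨g, hg⟩ := hdesc
      ((lift (fst T Z ≫ y) (snd T Z) ≫ E) * (lift (fst T Z ≫ w) (snd T Z) ≫ E)⁻¹) fun t z₀ z₁ => by
        simp only [MonObj.comp_mul, GrpObj.comp_inv, comp_lift_assoc, lift_fst_assoc, lift_snd]
        rw [hE _ z₀ z₁, hE (t ≫ w) z₀ z₁]
        group
    have hg' : ∀ {T' : Over S} (j : T' ⟶ T) (z : T' ⟶ Z),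
        j ≫ g = (lift (j ≫ y) z ≫ E) * (lift (j ≫ w) z ≫ E)⁻¹ := fun j z => by
      rw [hg j z]
      simp only [MonObj.comp_mul, GrpObj.comp_inv, comp_lift_assoc, lift_fst_assoc, lift_snd]
    refine ⟨g, hext _ _ fun j z => ?_, fun g' hg'' => ?_⟩
    · rw [hact'', hg' j z, inv_mul_cancel_right]
    · rw [← cancel_epi (ρ_ T).hom]
      refine (hloc.whiskerLeft T).hom_ext ?_
      rw [rightUnitor_hom, ← Category.assoc, ← Category.assoc, whiskerLeft_fst, hg' _ (snd T Z), eq_mul_inv_iff_mul_eq,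
        ← hact'']
      exact congrArg (fun t => lift (fst T Z ≫ t) (snd T Z) ≫ E) hg''
  have hd : ∀ {T : Over S} (x : T ⟶ P) (z : T ⟶ Z),
      lift x z ≫ tdiv ha.1 (fst P Z) (snd P Z ≫ σ) ≫ φ = tdiv ha.1 x (z ≫ σ) ≫ φ := fun x z => by
    rw [← Category.assoc, ← comp_tdiv, lift_fst, lift_snd_assoc]
  obtain ⟨f, hf⟩ := hdesc (inE (tdiv ha.1 (fst P Z) (snd P Z ≫ σ) ≫ φ) (snd P Z)) fun {T} y z₀ z₁ => by
    refine hinj z₁ _ _ ?_
    rw [hE _ z₀ z₁]
    simp only [hcin, lift_snd, hd, hin]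
    show (tdiv ha.1 y (z₀ ≫ σ) ≫ φ) * (tdiv ha.1 (z₀ ≫ σ) (z₁ ≫ σ) ≫ φ) = _
    rw [← MonObj.mul_comp]
    congr 1
    exact (tdiv_eq ha.1 (by rw [SchTorsor.act_assoc, tdiv_act, tdiv_act])).symm
  have hf' : ∀ {T : Over S} (x : T ⟶ P) (z : T ⟶ Z),
      lift (x ≫ f) z ≫ E = tdiv ha.1 x (z ≫ σ) ≫ φ := fun x z => by
    rw [hf x z]
    simp only [hcin, lift_snd, hd, hin]
  refine ⟨⟨U, b, hb, ⟨_, hcov, ?_⟩⟩, f, ?_⟩
  · rintro S' g ⟨⟩
    exact ⟨(inE 1 (𝟙 Z)).left, Over.w (inE 1 (𝟙 Z))⟩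
  · refine AlgGrp.Action.hom_ext_lift₂ fun T g x => hext _ _ fun j z => ?_
    show lift (j ≫ lift g x ≫ a.act ≫ f) z ≫ E = _
    rw [← Category.assoc (lift g x), ← Category.assoc, hf', comp_lift_assoc (lift g x), lift_fst_assoc,
      lift_snd_assoc, hact'', ← Category.assoc j x, hf', ← Category.assoc j g, ← MonObj.mul_comp]
    congr 1
    exact tdiv_eq ha.1 (by rw [SchTorsor.act_assoc, tdiv_act, comp_lift_assoc])

end Groth.Agent.NonAbLib
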