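import Groth.Prelude.Def_NonAbH1
import Groth.Prelude.Def_EtBase

/-!
# Torsors whose class comes from the direct image
-/

universe u

open CategoryTheory CategoryTheory.Limits AlgebraicGeometry Opposite

namespace Groth.Agent.NonAbLib

set_option backward.isDefEq.respectTransparency.types false

theorem mem_etTop_iff {Y : Scheme.{u}} (U : Y.Etale) (S : Sieve U) :
    S ∈ Y.smallEtaleTopology U ↔ ∀ x : U.left, ∃ (T : Y.Etale) (g : T ⟶ U) (t : T.left), S g ∧ g.left t = x := by
  have e : Y.smallEtaleTopology = (Y.smallPretopology (P := EtCoh.etaleMP) (Q := EtCoh.etaleMP)).toGrothendieck :=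
    Scheme.smallGrothendieckTopology_eq_toGrothendieck_smallPretopology Y le_rfl
  rw [e]
  refine (Scheme.mem_toGrothendieck_smallPretopology U S).trans ⟨fun h x => ?_, fun h x => ?_⟩
  · obtain ⟨T, g, t, h1, -, h3⟩ := h x
    exact ⟨T, g, t, h1, h3⟩
  · obtain ⟨T, g, t, h1, h3⟩ := h x
    haveI : Etale (g.left ≫ U.hom) := by
      rw [show g.left ≫ U.hom = T.hom from Over.w g.hom]; exact T.prop
    haveI : Etale U.hom := U.prop
    exact ⟨T, g, t, h1, Etale.of_comp g.left U.hom, h3⟩

theorem coversTop_of_covers {Y : Scheme.{u}} {ι : Type u} {V : ι → Y.Etale} (h : EtCoh.Covers V) :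
    Y.smallEtaleTopology.CoversTop V := by
  intro W
  refine (mem_etTop_iff W _).2 fun x => ?_
  obtain ⟨i, y, hy⟩ := h (W.hom x)
  obtain ⟨z, hz, -⟩ := Scheme.Pullback.exists_preimage_pullback (f := W.hom) (g := (V i).hom) x y hy.symm
  haveI : Etale W.hom := W.prop
  haveI : Etale (V i).hom := (V i).prop
  let T : Y.Etale := Scheme.Etale.mk (pullback.fst W.hom (V i).hom ≫ W.hom)
  exact ⟨T, MorphismProperty.Over.homMk (pullback.fst W.hom (V i).hom) rfl (by simp), z,
    ⟨i, ⟨MorphismProperty.Over.homMk (pullback.snd W.hom (V i).hom) pullback.condition.symm (by simp)⟩⟩, hz⟩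

end Groth.Agent.NonAbLib
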