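import Groth.Agent.NonAbLib.QuillenDesc

/-!
# Descent data and torsors coming from an open of the base
-/

universe u

open CategoryTheory CategoryTheory.Limits MonoidalCategory CartesianMonoidalCategory MonObj GrpObj AlgebraicGeometry

noncomputable section

namespace Groth.Agent.NonAbLib.QuillenDesc

variable {S A : Scheme.{u}} (f : A ⟶ S) {G : Over S} [GrpObj G]
  (X : NonAbH1.TorsorSch (Red.bc f G) Scheme.fppfPrecoverage) (z : S ⟶ A) (hz : z ≫ f = 𝟙 S)

/-- The section as a point. -/
def zeroPt : 𝟙_ (Over S) ⟶ Over.mk f := Over.homMk z hz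

/-- The setup of a torsor over a scheme with a section. -/
@[reducible] def mkSetup (Z : Over S) (σ : Z ⟶ (Over.map f).obj X.X)
    (hσ : σ ≫ Rel.proj f X.X = toUnit Z ≫ zeroPt f z hz)
    (hc : Presieve.singleton Z.hom ∈ Scheme.fpqcPrecoverage S) : Setup G where
  X := (Over.map f).obj X.X
  L := Over.mk f
  b := Rel.action f X.act
  π := Rel.proj f X.X
  act_π := fun g x => Rel.proj_pt f X.act g x
  free := fun y y' h => Rel.free f X.act X.isTorsor.1 y y' h
  zero := zeroPt f z hz
  Z := Z
  σ := σ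
  σ_π := hσ
  cover := hc

variable {U : Scheme.{u}} (j : U ⟶ S)

/-- A point of the base change from its two components. -/
def tPt {T : Over S} (t : T ⟶ Over.mk f) (v : T ⟶ Over.mk j) : T ⟶ Over.mk (pullback.snd f j ≫ j) :=
  Over.homMk (pullback.lift t.left v.left ((Over.w t).trans (Over.w v).symm)) (by
    show pullback.lift t.left v.left _ ≫ pullback.snd f j ≫ j = T.hom
    rw [pullback.lift_snd_assoc]
    exact Over.w v)

theorem tPt_fst {T : Over S} (t : T ⟶ Over.mk f) (v : T ⟶ Over.mk j) :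
    tPt f j t v ≫ Rel.baseMor f (pullback.fst f j) pullback.condition = t :=
  Over.OverMorphism.ext (pullback.lift_fst _ _ _)

theorem tPt_snd {T : Over S} (t : T ⟶ Over.mk f) (v : T ⟶ Over.mk j) :
    tPt f j t v ≫ Rel.baseMor j (pullback.snd f j) rfl = v :=
  Over.OverMorphism.ext (pullback.lift_snd _ _ _)

theorem tPt_ext {T : Over S} {t t' : T ⟶ Over.mk (pullback.snd f j ≫ j)}
    (h : t ≫ Rel.baseMor f (pullback.fst f j) pullback.condition =
      t' ≫ Rel.baseMor f (pullback.fst f j) pullback.condition)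
    (h' : t ≫ Rel.baseMor j (pullback.snd f j) rfl = t' ≫ Rel.baseMor j (pullback.snd f j) rfl) : t = t' :=
  Over.OverMorphism.ext (pullback.hom_ext (congrArg CommaMorphism.left h :) (congrArg CommaMorphism.left h' :))

theorem pt_unique [Mono j] {T : Over S} (v v' : T ⟶ Over.mk j) : v = v' :=
  Over.OverMorphism.ext ((cancel_mono j).1 ((Over.w v).trans (Over.w v').symm))

theorem torsor_bcAct {A' : Scheme.{u}} (h : A' ⟶ A) {d : A' ⟶ S} (w : h ≫ f = d) :
    NonAbH1.IsTorsorFor Scheme.fppfPrecoverage (Rel.bcAct f X.act h w) :=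
  ⟨Rel.isPseudoTorsor_restrict _ (NonAbH1.isPseudoTorsorSch_bc h X.isTorsor.1),
    NonAbH1.isLocallyTrivialFor_bc h _ X.isTorsor.2⟩

/-- The comparison of the torsor with one coming from an open, as in the statements. -/
def HasModel : Prop :=
  ∃ P : NonAbH1.TorsorSch (Red.bc j G) Scheme.fppfPrecoverage,
    Nonempty (NonAbH1.EquivIso (Rel.bcAct j P.act (pullback.snd f j) rfl)
      (Rel.bcAct f X.act (pullback.fst f j) pullback.condition))

variable {Z : Over S} {σ : Z ⟶ (Over.map f).obj X.X} {hσ : σ ≫ Rel.proj f X.X = toUnit Z ≫ zeroPt f z hz}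
  {hc : Presieve.singleton Z.hom ∈ Scheme.fpqcPrecoverage S}

theorem descOn_of_hasModel [Mono j] (h : HasModel f X j) : (mkSetup f X z hz Z σ hσ hc).DescOn (Over.mk j) := by
  obtain ⟨P, ⟨e⟩⟩ := h
  let d := pullback.snd f j ≫ j
  let eo := (Over.map d).map e.iso.hom
  let pP := Rel.fstMor j (pullback.snd f j) (d := d) rfl P.X
  let pX := Rel.fstMor f (pullback.fst f j) (d := d) pullback.condition X.X
  let aD := Rel.action d (Rel.bcAct j P.act (pullback.snd f j) rfl)
  let aE := Rel.action d (Rel.bcAct f X.act (pullback.fst f j) pullback.condition)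
  have hpP : aD.act ≫ pP = (G ◁ pP) ≫ (Rel.action j P.act).act := Rel.fstMor_equivariant j P.act _ rfl
  have hpX : aE.act ≫ pX = (G ◁ pX) ≫ (Rel.action f X.act).act := Rel.fstMor_equivariant f X.act _ _
  have heo : aD.act ≫ eo = (G ◁ eo) ≫ aE.act := Rel.map_equivariant d _ _ _ e.comm
  have hproj : ∀ {T : Over S} (x : T ⟶ (Over.map d).obj (Red.bc (pullback.snd f j) P.X)),
      x ≫ eo ≫ Rel.proj d _ = x ≫ Rel.proj d _ := fun x => by
    congr 1
    exact Over.OverMorphism.ext (Over.w e.iso.hom)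
  let tD := Rel.proj d (Red.bc (pullback.snd f j) P.X) ≫ Rel.baseMor f (pullback.fst f j) pullback.condition
  let uD := Rel.proj d (Red.bc (pullback.snd f j) P.X) ≫ Rel.baseMor j (pullback.snd f j) rfl
  let r := Rel.bcPt j (pullback.snd f j) (d := d) rfl (tPt f j (toUnit _ ≫ zeroPt f z hz) uD) pP (pt_unique j _ _)
  have hr : ∀ {T : Over S} (g : T ⟶ G) (x : T ⟶ (Over.map d).obj (Red.bc (pullback.snd f j) P.X)),
      (lift g x ≫ aD.act) ≫ r = lift g (x ≫ r) ≫ aD.act := fun g x => by
    refine Rel.bc_ext j (pullback.snd f j) rfl ?_ (tPt_ext f j ?_ (pt_unique j _ _))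
    · rw [Rel.equivariant_pt hpP, Category.assoc _ r, Rel.bcPt_fst, Rel.equivariant_pt hpP, Category.assoc x r,
        Rel.bcPt_fst]
    · rw [Rel.proj_pt, Category.assoc x r, Category.assoc _ r, Rel.bcPt_proj]
      simp only [Category.assoc, tPt_fst]
      simp only [← Category.assoc]
      congr 1
      exact toUnit_unique _ _
  refine Setup.descOn_of _ aD tD uD (r ≫ eo ≫ pX) (eo ≫ pX) (fun g x => ?_) (fun g x => pt_unique j _ _) ?_ ?_ ?_
    fun {T} t v x hx => ?_
  · simp only [tD, ← Category.assoc]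
    rw [Rel.proj_pt]
  · refine AlgGrp.Action.hom_ext_lift₂ fun T g x => ?_
    rw [lift_whiskerLeft_assoc, ← Category.assoc, ← Category.assoc, hr, Rel.equivariant_pt' heo hpX]
    rw [Category.assoc]
  · refine AlgGrp.Action.hom_ext_lift₂ fun T g x => ?_
    rw [lift_whiskerLeft_assoc, ← Category.assoc, Rel.equivariant_pt' heo hpX]
  · rw [Category.assoc, Rel.fstMor_proj, ← Category.assoc]
    simp only [tD]
    congr 1
    exact Over.OverMorphism.ext (Over.w e.iso.hom)
  · let einv := (Over.map d).map e.iso.inv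
    have hie : einv ≫ eo = 𝟙 _ := by
      rw [← Functor.map_comp, e.iso.inv_hom_id]
      exact (Over.map d).map_id _
    have hei : eo ≫ einv = 𝟙 _ := by
      rw [← Functor.map_comp, e.iso.hom_inv_id]
      exact (Over.map d).map_id _
    let x' := Rel.bcPt f (pullback.fst f j) (d := d) pullback.condition (tPt f j (toUnit T ≫ zeroPt f z hz) v) x
      (by rw [tPt_fst]; exact hx)
    let p := (x' ≫ einv) ≫ pP
    let d₀ := Rel.bcPt j (pullback.snd f j) (d := d) rfl (tPt f j t v) p (pt_unique j _ _)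
    have h0 : d₀ ≫ r = x' ≫ einv := by
      refine Rel.bc_ext j (pullback.snd f j) rfl ?_ (tPt_ext f j ?_ (pt_unique j _ _))
      · rw [Category.assoc d₀ r, Rel.bcPt_fst, Rel.bcPt_fst]
      · rw [← hproj (x' ≫ einv), Category.assoc x' einv, (reassoc_of% hie), Rel.bcPt_proj, Category.assoc d₀ r,
          Rel.bcPt_proj, Category.assoc _ _ (Rel.baseMor f _ _), tPt_fst, tPt_fst, ← Category.assoc]
        congr 1
        exact toUnit_unique _ _
    refine ⟨d₀, ⟨?_, pt_unique j _ _, ?_⟩, fun d₁ ⟨h1, _, h3⟩ => ?_⟩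
    · simp only [tD, d₀, Rel.bcPt_proj_assoc, tPt_fst]
    · rw [← Category.assoc, h0, Category.assoc, (reassoc_of% hie), Rel.bcPt_fst]
    · refine Rel.bc_ext j (pullback.snd f j) rfl ?_ (tPt_ext f j ?_ (pt_unique j _ _))
      · have h4 : d₁ ≫ r = x' ≫ einv := by
          have h5 : (d₁ ≫ r) ≫ eo = x' := by
            refine Rel.bc_ext f (pullback.fst f j) pullback.condition ?_ (tPt_ext f j ?_ (pt_unique j _ _))
            · rw [Rel.bcPt_fst, Category.assoc, Category.assoc, h3]
            · rw [Category.assoc (d₁ ≫ r) eo, hproj, Category.assoc d₁ r, Rel.bcPt_proj, Rel.bcPt_proj,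
                Category.assoc d₁, tPt_fst, tPt_fst, ← Category.assoc]
              congr 1
              exact toUnit_unique _ _
          rw [← h5, Category.assoc, hei, Category.comp_id]
        rw [Rel.bcPt_fst]
        simp only [p]
        rw [← h4, Category.assoc d₁ r, Rel.bcPt_fst]
      · rw [Rel.bcPt_proj, tPt_fst, Category.assoc]
        exact h1

theorem hasModel_of_descOn [Mono j] (h : (mkSetup f X z hz Z σ hσ hc).DescOn (Over.mk j)) : HasModel f X j := by
  have hzj : (j ≫ z) ≫ f = j := by rw [Category.assoc, hz, Category.comp_id]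
  let P : NonAbH1.TorsorSch (Red.bc j G) Scheme.fppfPrecoverage :=
    ⟨Red.bc (j ≫ z) X.X, Rel.bcAct f X.act (j ≫ z) hzj, torsor_bcAct f X (j ≫ z) hzj⟩
  let d := pullback.snd f j ≫ j
  let pP := Rel.fstMor j (pullback.snd f j) (d := d) rfl P.X
  let pz := Rel.fstMor f (j ≫ z) hzj X.X
  let aD := Rel.action d (Rel.bcAct j P.act (pullback.snd f j) rfl)
  let aE := Rel.action d (Rel.bcAct f X.act (pullback.fst f j) pullback.condition)
  have hpP : aD.act ≫ pP = (G ◁ pP) ≫ (Rel.action j P.act).act := Rel.fstMor_equivariant j P.act _ rfl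
  have hpz : (Rel.action j P.act).act ≫ pz = (G ◁ pz) ≫ (Rel.action f X.act).act :=
    Rel.fstMor_equivariant f X.act _ _
  let tD := Rel.proj d (Red.bc (pullback.snd f j) P.X) ≫ Rel.baseMor f (pullback.fst f j) pullback.condition
  let uD := Rel.proj d (Red.bc (pullback.snd f j) P.X) ≫ Rel.baseMor j (pullback.snd f j) rfl
  have hb : Rel.baseMor f (j ≫ z) hzj = toUnit _ ≫ zeroPt f z hz := Over.OverMorphism.ext (by
    show j ≫ z = (toUnit (Over.mk j)).left ≫ z
    congr 1)
  obtain ⟨χ, hχπ, hχ⟩ := Setup.exists_hom _ h aD tD uD (pP ≫ pz)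
    (fun g x => by simp only [tD, ← Category.assoc]; rw [Rel.proj_pt]) (fun g x => pt_unique j _ _)
    (AlgGrp.Action.hom_ext_lift₂ fun T g x => by
      rw [lift_whiskerLeft_assoc, ← Category.assoc, Rel.equivariant_pt' hpP hpz])
    (by
      rw [Category.assoc, Rel.fstMor_proj, hb, ← Category.assoc, ← Category.assoc]
      congr 1
      exact toUnit_unique _ _)
  let φ := Rel.bcPt f (pullback.fst f j) (d := d) pullback.condition (Rel.proj d _) χ hχπ
  let φA : Red.bc (pullback.snd f j) P.X ⟶ Red.bc (pullback.fst f j) X.X :=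
    Over.homMk φ.left (congrArg CommaMorphism.left (Rel.bcPt_proj f _ _ _ χ hχπ) :)
  have hφA : (Over.map d).map φA = φ := Over.OverMorphism.ext rfl
  have hφ : aD.act ≫ φ = (G ◁ φ) ≫ aE.act := AlgGrp.Action.hom_ext_lift₂ fun T g x => by
    rw [lift_whiskerLeft_assoc, ← Category.assoc]
    refine Rel.bc_ext f (pullback.fst f j) pullback.condition ?_ ?_
    · rw [Rel.equivariant_pt (Rel.fstMor_equivariant f X.act (pullback.fst f j) pullback.condition),
        Category.assoc _ φ, Rel.bcPt_fst, Category.assoc x φ, Rel.bcPt_fst, Rel.equivariant_pt hχ]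
    · rw [Rel.proj_pt, Category.assoc _ φ, Rel.bcPt_proj, Category.assoc x φ, Rel.bcPt_proj, Rel.proj_pt]
  have he := Rel.equivariant_of_map d _ _ φA (by rw [hφA]; exact hφ)
  have hiso : IsIso φA := SchTorsor.isIso_of_equivariant
    (torsor_mono fppf_le_fpqc (torsor_bcAct j P _ rfl)) (torsor_bcAct f X _ _).1 φA he
  exact ⟨P, ⟨{ iso := asIso φA, comm := he }⟩⟩

/-- Covariant points over the whole base give a model over it. -/
theorem exists_model (h : (mkSetup f X z hz Z σ hσ hc).DescOn (𝟙_ (Over S))) :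
    ∃ P : NonAbH1.TorsorSch G Scheme.fppfPrecoverage, Nonempty (NonAbH1.EquivIso (P.act.bc f) X.act) := by
  have := Rel.isMonHom_secGrp f z hz (G := G)
  have hiso : IsIso (Rel.secGrp f z hz (G := G)) := Rel.isIso_secGrp f z hz
  let P : NonAbH1.TorsorSch G Scheme.fppfPrecoverage :=
    ⟨Red.bc z X.X, Rel.secAct f X.act z hz,
      Rel.isPseudoTorsor_restrict (Rel.secGrp f z hz) (NonAbH1.isPseudoTorsorSch_bc z X.isTorsor.1),
      NonAbH1.isLocallyTrivialFor_bc z _ X.isTorsor.2⟩
  let aD := Rel.action f (P.act.bc f)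
  obtain ⟨χ, hχπ, hχ⟩ := Setup.exists_hom _ h aD (Rel.proj f _) (toUnit _)
    (Rel.fstBase f P.X ≫ Rel.secMor f z hz X.X)
    (fun g x => Rel.proj_pt f _ g x) (fun g x => toUnit_unique _ _)
    (AlgGrp.Action.hom_ext_lift₂ fun T g x => by
      rw [lift_whiskerLeft_assoc, ← Category.assoc,
        Rel.equivariant_pt' (Rel.fstBase_equivariant f P.act) (Rel.secMor_equivariant f X.act z hz)])
    (Over.OverMorphism.ext (by
      show (pullback.fst (Red.bc z X.X).hom f ≫ pullback.fst X.X.hom z) ≫ X.X.hom = (toUnit ((Over.map f).obj (Red.bc f P.X))).left ≫ z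
      rw [Category.assoc, pullback.condition, ← Category.assoc]
      congr 1
      exact pullback.condition.trans
        ((Over.w (toUnit ((Over.map f).obj (Red.bc f P.X)))).symm.trans (Category.comp_id _))))
  let φA : Red.bc f P.X ⟶ X.X := Over.homMk χ.left (congrArg CommaMorphism.left hχπ :)
  have hφA : (Over.map f).map φA = χ := Over.OverMorphism.ext rfl
  have he := Rel.equivariant_of_map f _ _ φA (by rw [hφA]; exact hχ)
  have : IsIso φA := SchTorsor.isIso_of_equivariant
    (torsor_mono fppf_le_fpqc (P.bc f).isTorsor) X.isTorsor.1 φA he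
  exact ⟨P, ⟨{ iso := asIso φA, comm := he }⟩⟩

end Groth.Agent.NonAbLib.QuillenDesc
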