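import Groth.Agent.NonAbLib.RelTorsor
import Groth.Agent.NonAbLib.PushExists

/-!
# Descent data for a torsor over a scheme with a section
-/

universe u

open CategoryTheory CategoryTheory.Limits MonoidalCategory CartesianMonoidalCategory MonObj GrpObj AlgebraicGeometry
open Groth.Agent.GrpSchLib.TopDescent

noncomputable section

namespace Groth.Agent.NonAbLib.QuillenDesc

variable {S : Scheme.{u}} {G : Over S} [GrpObj G]

/-- A torsor over `L` with a trivialisation of its restriction along a point over a covering of the base. -/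
structure Setup (G : Over S) [GrpObj G] where
  /-- the total space -/
  X : Over S
  /-- the intermediate base -/
  L : Over S
  /-- the action -/
  b : AlgGrp.Action G X
  /-- the projection -/
  π : X ⟶ L
  act_π : ∀ {T : Over S} (g : T ⟶ G) (x : T ⟶ X), (lift g x ≫ b.act) ≫ π = x ≫ π
  free : ∀ {T : Over S} (y y' : T ⟶ X), y ≫ π = y' ≫ π → ∃! g : T ⟶ G, lift g y' ≫ b.act = y
  /-- the vertex -/
  zero : 𝟙_ (Over S) ⟶ L
  /-- the covering -/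
  Z : Over S
  /-- the trivialisation -/
  σ : Z ⟶ X
  σ_π : σ ≫ π = toUnit Z ≫ zero
  cover : Presieve.singleton Z.hom ∈ Scheme.fpqcPrecoverage S

variable (C : Setup G)

/-- Two points of the total space over the vertex. -/
theorem Setup.σ_pt {T : Over S} (q : T ⟶ C.Z) : (q ≫ C.σ) ≫ C.π = toUnit T ≫ C.zero := by
  rw [Category.assoc, C.σ_π, ← Category.assoc, toUnit_unique (q ≫ toUnit C.Z) (toUnit T)]

/-- The transition. -/
def Setup.trans {T : Over S} (q₀ q₁ : T ⟶ C.Z) : T ⟶ G :=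
  (C.free (q₀ ≫ C.σ) (q₁ ≫ C.σ) ((C.σ_pt q₀).trans (C.σ_pt q₁).symm)).choose

theorem Setup.trans_spec {T : Over S} (q₀ q₁ : T ⟶ C.Z) :
    lift (C.trans q₀ q₁) (q₁ ≫ C.σ) ≫ C.b.act = q₀ ≫ C.σ :=
  (C.free (q₀ ≫ C.σ) (q₁ ≫ C.σ) ((C.σ_pt q₀).trans (C.σ_pt q₁).symm)).choose_spec.1

theorem Setup.eq_trans {T : Over S} {q₀ q₁ : T ⟶ C.Z} {g : T ⟶ G}
    (h : lift g (q₁ ≫ C.σ) ≫ C.b.act = q₀ ≫ C.σ) : g = C.trans q₀ q₁ :=
  (C.free (q₀ ≫ C.σ) (q₁ ≫ C.σ) ((C.σ_pt q₀).trans (C.σ_pt q₁).symm)).unique h (C.trans_spec q₀ q₁)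

/-- A covariant family of points over `L`, the covering and `U`. -/
def Setup.DescOn (U : Over S) : Prop :=
  ∃ y : (C.L ⊗ C.Z) ⊗ U ⟶ C.X, y ≫ C.π = fst _ _ ≫ fst _ _ ∧
    ∀ {T : Over S} (t : T ⟶ C.L) (q₀ q₁ : T ⟶ C.Z) (v : T ⟶ U),
      lift (lift t q₀) v ≫ y = lift (C.trans q₀ q₁) (lift (lift t q₁) v ≫ y) ≫ C.b.act

variable {U : Over S}

/-- A comparison of the torsor with the one coming from the vertex gives covariant points. -/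
theorem Setup.descOn_of {D : Over S} (aD : AlgGrp.Action G D) (tD : D ⟶ C.L) (uD : D ⟶ U) (xD χ : D ⟶ C.X)
    (ht : ∀ {T : Over S} (g : T ⟶ G) (d : T ⟶ D), (lift g d ≫ aD.act) ≫ tD = d ≫ tD)
    (hv : ∀ {T : Over S} (g : T ⟶ G) (d : T ⟶ D), (lift g d ≫ aD.act) ≫ uD = d ≫ uD)
    (hx : aD.act ≫ xD = (G ◁ xD) ≫ C.b.act) (hχ : aD.act ≫ χ = (G ◁ χ) ≫ C.b.act) (hχπ : χ ≫ C.π = tD)
    (hex : ∀ {T : Over S} (t : T ⟶ C.L) (v : T ⟶ U) (x : T ⟶ C.X), x ≫ C.π = toUnit T ≫ C.zero →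
      ∃! d : T ⟶ D, d ≫ tD = t ∧ d ≫ uD = v ∧ d ≫ xD = x) :
    C.DescOn U := by
  obtain ⟨d₀, ⟨h1, h2, h3⟩, -⟩ := hex (fst (C.L ⊗ C.Z) U ≫ fst _ _) (snd _ _)
    ((fst (C.L ⊗ C.Z) U ≫ snd _ _) ≫ C.σ) (C.σ_pt _)
  refine ⟨d₀ ≫ χ, by rw [Category.assoc, hχπ, h1], fun {T} t q₀ q₁ v => ?_⟩
  let p₀ : T ⟶ (C.L ⊗ C.Z) ⊗ U := lift (lift t q₀) v
  let p₁ : T ⟶ (C.L ⊗ C.Z) ⊗ U := lift (lift t q₁) v
  have key : p₀ ≫ d₀ = lift (C.trans q₀ q₁) (p₁ ≫ d₀) ≫ aD.act := by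
    refine (hex t v (q₀ ≫ C.σ) (C.σ_pt q₀)).unique ⟨?_, ?_, ?_⟩ ⟨?_, ?_, ?_⟩
    · simp [p₀, h1]
    · simp [p₀, h2]
    · simp [p₀, h3]
    · rw [ht]; simp [p₁, h1]
    · rw [hv]; simp [p₁, h2]
    · rw [Rel.equivariant_pt hx]
      simp [p₁, h3, C.trans_spec]
  show p₀ ≫ d₀ ≫ χ = lift (C.trans q₀ q₁) (p₁ ≫ d₀ ≫ χ) ≫ C.b.act
  rw [← Category.assoc, key, Rel.equivariant_pt hχ, Category.assoc]

/-- Covariant points give equivariant morphisms. -/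
theorem Setup.exists_hom (h : C.DescOn U) {D : Over S} (aD : AlgGrp.Action G D) (tD : D ⟶ C.L) (uD : D ⟶ U)
    (xD : D ⟶ C.X)
    (ht : ∀ {T : Over S} (g : T ⟶ G) (d : T ⟶ D), (lift g d ≫ aD.act) ≫ tD = d ≫ tD)
    (hv : ∀ {T : Over S} (g : T ⟶ G) (d : T ⟶ D), (lift g d ≫ aD.act) ≫ uD = d ≫ uD)
    (hx : aD.act ≫ xD = (G ◁ xD) ≫ C.b.act) (hxπ : xD ≫ C.π = toUnit D ≫ C.zero) :
    ∃ χ : D ⟶ C.X, χ ≫ C.π = tD ∧ aD.act ≫ χ = (G ◁ χ) ≫ C.b.act := by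
  obtain ⟨y, hy, hcov⟩ := h
  have hloc : HasLocSec Scheme.fpqcTopology (toUnit C.Z) :=
    SchTorsor.hasLocSec_toUnit ⟨_, C.cover, fun S' f hf => by
      obtain ⟨⟩ := hf
      exact ⟨𝟙 _, Category.id_comp _⟩⟩
  obtain ⟨g, hg, -⟩ := C.free (fst D C.Z ≫ xD) (snd D C.Z ≫ C.σ) (by
    rw [C.σ_pt, Category.assoc, hxπ, ← Category.assoc, toUnit_unique (fst D C.Z ≫ toUnit D) (toUnit _)])
  let F : D ⊗ C.Z ⟶ C.X :=
    lift g (lift (lift (fst D C.Z ≫ tD) (snd D C.Z)) (fst D C.Z ≫ uD) ≫ y) ≫ C.b.act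
  have hF : ∀ {T : Over S} (d : T ⟶ D) (q : T ⟶ C.Z) (g' : T ⟶ G), lift g' (q ≫ C.σ) ≫ C.b.act = d ≫ xD →
      lift d q ≫ F = lift g' (lift (lift (d ≫ tD) q) (d ≫ uD) ≫ y) ≫ C.b.act := fun {T} d q g' hg' => by
    have e1 : lift d q ≫ g = g' := by
      refine (C.free (d ≫ xD) (q ≫ C.σ) ?_).unique ?_ hg'
      · rw [C.σ_pt, Category.assoc, hxπ, ← Category.assoc, toUnit_unique (d ≫ toUnit D) (toUnit _)]
      · have := congrArg (lift d q ≫ ·) hg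
        simp only [comp_lift_assoc, lift_fst_assoc, lift_snd_assoc] at this
        exact this
    simp only [F, comp_lift_assoc, e1, comp_lift, lift_fst_assoc, lift_snd, ← Category.assoc, lift_fst]
  have hinv : ∀ {T : Over S} (d : T ⟶ D) (q₀ q₁ : T ⟶ C.Z), lift d q₀ ≫ F = lift d q₁ ≫ F := fun {T} d q₀ q₁ => by
    obtain ⟨g₀, hg₀, -⟩ := C.free (d ≫ xD) (q₀ ≫ C.σ) (by
      rw [C.σ_pt, Category.assoc, hxπ, ← Category.assoc, toUnit_unique (d ≫ toUnit D) (toUnit _)])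
    rw [hF d q₀ g₀ hg₀, hF d q₁ (g₀ * C.trans q₀ q₁) (by rw [SchTorsor.act_assoc, C.trans_spec, hg₀]),
      SchTorsor.act_assoc, ← hcov]
  obtain ⟨χ', hχ', -⟩ := (hloc.whiskerLeft D).existsUnique_desc F fun T p q h => by
    have ht' : p ≫ fst D C.Z = q ≫ fst D C.Z := by simpa using congrArg (· ≫ fst D (𝟙_ (Over S))) h
    have h1 : ∀ r : T ⟶ D ⊗ C.Z, lift (r ≫ fst D C.Z) (r ≫ snd D C.Z) = r := fun r => by
      rw [← comp_lift, lift_fst_snd, Category.comp_id]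
    rw [← h1 p, ← h1 q, ht']
    exact hinv _ _ _
  let χ := (ρ_ D).inv ≫ χ'
  have hχ : ∀ {T : Over S} (d : T ⟶ D) (q : T ⟶ C.Z), d ≫ χ = lift d q ≫ F := fun {T} d q => by
    rw [← hχ', ← Category.assoc, ← Category.assoc]
    congr 1
    exact CartesianMonoidalCategory.hom_ext _ _ (by simp) (toUnit_unique _ _)
  have hext : ∀ {Y W : Over S} (φ φ' : Y ⟶ W),
      (∀ {T : Over S} (d : T ⟶ Y) (_ : T ⟶ C.Z), d ≫ φ = d ≫ φ') → φ = φ' := fun {Y W} φ φ' e => by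
    rw [← cancel_epi (ρ_ Y).hom]
    refine (hloc.whiskerLeft Y).hom_ext ?_
    rw [rightUnitor_hom, ← Category.assoc, ← Category.assoc, whiskerLeft_fst]
    exact e (fst Y C.Z) (snd Y C.Z)
  refine ⟨χ, hext _ _ fun {T} d q => ?_, hext _ _ fun {T} d q => ?_⟩
  · obtain ⟨g₀, hg₀, -⟩ := C.free (d ≫ xD) (q ≫ C.σ) (by
      rw [C.σ_pt, Category.assoc, hxπ, ← Category.assoc, toUnit_unique (d ≫ toUnit D) (toUnit _)])
    rw [← Category.assoc, hχ d q, hF d q g₀ hg₀, C.act_π, Category.assoc, hy, lift_fst_assoc, lift_fst]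
  · obtain ⟨g₀, hg₀, -⟩ := C.free ((d ≫ snd G D) ≫ xD) (q ≫ C.σ) (by
      rw [C.σ_pt, Category.assoc, hxπ, ← Category.assoc, toUnit_unique ((d ≫ snd G D) ≫ toUnit D) (toUnit _)])
    have e1 : d = lift (d ≫ fst G D) (d ≫ snd G D) := by rw [← comp_lift, lift_fst_snd, Category.comp_id]
    rw [e1, lift_whiskerLeft_assoc, ← Category.assoc, hχ _ q, hχ _ q, hF (d ≫ snd G D) q g₀ hg₀,
      hF _ q (d ≫ fst G D * g₀) (by rw [SchTorsor.act_assoc, hg₀, Rel.equivariant_pt hx]), ht, hv,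
      SchTorsor.act_assoc]

end Groth.Agent.NonAbLib.QuillenDesc
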