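import Groth.Agent.NonAbLib.QuillenPair
import Groth.Prelude.Def_ChGrp

/-!
# The elements over which a torsor on a cone descends form an ideal
-/

universe u

open CategoryTheory Limits AlgebraicGeometry Opposite Polynomial MonObj MonoidalCategory CartesianMonoidalCategory
open Groth.Agent.QuillenLib

noncomputable section

namespace Groth.Agent.NonAbLib.Quillen

variable {R : Type u} [CommRing R]

section loc

variable (M : Type u) [CommRing M] [Algebra R M]

/-- The localisation at an element of the base. -/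
abbrev Loc (r : R) : Type u := Localization.Away (algebraMap R M r)

variable {M}

/-- The structure map of the localisation. -/
def toLoc (r : R) : M →ₐ[R] Loc M r := IsScalarTower.toAlgHom R M _

theorem isUnit_loc (r : R) : IsUnit (algebraMap R (Loc M r) r) := by
  rw [IsScalarTower.algebraMap_apply R M (Loc M r)]
  exact IsLocalization.Away.algebraMap_isUnit _

variable {T : Type u} [CommRing T] [Algebra R T]

/-- Maps out of the localisation. -/
def liftLoc {r : R} (φ : M →ₐ[R] T) (h : IsUnit (algebraMap R T r)) : Loc M r →ₐ[R] T :=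
  IsLocalization.Away.liftAlgHom (algebraMap R M r) (f := φ) (by rw [φ.commutes]; exact h)

@[simp] theorem liftLoc_comp {r : R} (φ : M →ₐ[R] T) (h : IsUnit (algebraMap R T r)) :
    (liftLoc φ h).comp (toLoc r) = φ :=
  AlgHom.ext fun m => by simp [liftLoc, toLoc]

theorem loc_ext {r : R} {f g : Loc M r →ₐ[R] T} (h : f.comp (toLoc r) = g.comp (toLoc r)) : f = g :=
  AlgHom.coe_ringHom_injective (IsLocalization.ringHom_ext (Submonoid.powers (algebraMap R M r))
    (RingHom.ext fun m => DFunLike.congr_fun h m))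

theorem isUnit_of_dvd {r t : R} (h : r ∣ t) : IsUnit (algebraMap R (Loc M t) r) :=
  isUnit_of_dvd_unit (map_dvd _ h) (isUnit_loc t)

/-- Restriction to a smaller open. -/
def res {r t : R} (h : r ∣ t) : Loc M r →ₐ[R] Loc M t := liftLoc (toLoc t) (isUnit_of_dvd h)

@[simp] theorem res_comp {r t : R} (h : r ∣ t) : (res (M := M) h).comp (toLoc r) = toLoc t := liftLoc_comp _ _

/-- The map of localisations. -/
def mapLoc {N : Type u} [CommRing N] [Algebra R N] (f : M →ₐ[R] N) (r : R) : Loc M r →ₐ[R] Loc N r :=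
  liftLoc ((toLoc r).comp f) (isUnit_loc r)

theorem mapLoc_comp {N : Type u} [CommRing N] [Algebra R N] (f : M →ₐ[R] N) (r : R) :
    (mapLoc f r).comp (toLoc r) = (toLoc r).comp f := liftLoc_comp _ _

theorem res_mapLoc {N : Type u} [CommRing N] [Algebra R N] (f : M →ₐ[R] N) {r t : R} (h : r ∣ t) :
    (res h).comp (mapLoc f r) = (mapLoc f t).comp (res h) :=
  loc_ext (by rw [AlgHom.comp_assoc, mapLoc_comp, ← AlgHom.comp_assoc, res_comp, AlgHom.comp_assoc, res_comp, mapLoc_comp])

theorem isLocAt_res {r r' t : R} (ht : t = r * r') (h : r ∣ t) : QuillenLib.IsLocAt (res (M := M) h) r' := by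
  subst ht
  let φ : Loc M r →ₐ[M] Loc M (r * r') :=
    { res (M := M) h with commutes' := fun m => DFunLike.congr_fun (res_comp h) m }
  have : IsLocalization.Away (algebraMap R M r * algebraMap R M r') (Loc M (r * r')) := by
    rw [← map_mul]; infer_instance
  have hl := QuillenLib.isLocAt_away (R := M) φ (r := algebraMap R M r) (s := algebraMap R M r') rfl
  refine ⟨?_, fun b => ?_, fun a ha => ?_⟩
  · rw [IsScalarTower.algebraMap_apply R M (Loc M (r * r'))]
    exact hl.unit
  · obtain ⟨N, a, ha⟩ := hl.surj b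
    exact ⟨N, a, by rw [IsScalarTower.algebraMap_apply R M (Loc M (r * r'))]; exact ha⟩
  · obtain ⟨N, hN⟩ := hl.ker a ha
    exact ⟨N, by rw [IsScalarTower.algebraMap_apply R M (Loc M r)]; exact hN⟩

theorem isOpenImmersion_toLoc (r : R) : IsOpenImmersion (om (toLoc (M := M) r)).left :=
  IsOpenImmersion.of_isLocalization (S := Loc M r) (algebraMap R M r)

theorem range_toLoc (r : R) :
    Set.range ⇑(om (toLoc (M := M) r)).left = (PrimeSpectrum.basicOpen (algebraMap R M r) : Set (PrimeSpectrum M)) :=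
  PrimeSpectrum.localization_away_comap_range (Loc M r) (algebraMap R M r)

theorem om_res_toLoc {r t : R} (h : r ∣ t) : om (res (M := M) h) ≫ om (toLoc r) = om (toLoc t) := by
  rw [← om_comp, res_comp]

theorem isOpenImmersion_res {r t : R} (h : r ∣ t) : IsOpenImmersion (om (res (M := M) h)).left := by
  have := isOpenImmersion_toLoc (M := M) r
  have : IsOpenImmersion ((om (res (M := M) h)).left ≫ (om (toLoc (M := M) r)).left) := by
    rw [← Over.comp_left, om_res_toLoc]
    exact isOpenImmersion_toLoc t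
  exact IsOpenImmersion.of_comp _ (om (toLoc (M := M) r)).left

theorem loc_cover (r r' : R) (x : ↥(O R (Loc M (r + r'))).left) :
    x ∈ Set.range ⇑(om (res (M := M) (dvd_mul_right (r + r') r))).left ∨
      x ∈ Set.range ⇑(om (res (M := M) (dvd_mul_right (r + r') r'))).left := by
  let p := (om (toLoc (M := M) (r + r'))).left
  have hp : IsOpenImmersion p := isOpenImmersion_toLoc _
  have hmem : ∀ (q : R) (hq : (r + r' : R) ∣ q), algebraMap R M q ∉ (p x).asIdeal →
      x ∈ Set.range ⇑(om (res (M := M) hq)).left := fun q hq hx => by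
    have hx' : p x ∈ Set.range ⇑(om (toLoc (M := M) q)).left := by rw [range_toLoc]; exact hx
    obtain ⟨w, hw⟩ := hx'
    refine ⟨w, hp.base_open.injective ?_⟩
    show p ((om (res (M := M) hq)).left w) = p x
    rw [← hw, ← Scheme.Hom.comp_apply, ← Over.comp_left, om_res_toLoc]
  have hx : algebraMap R M (r + r') ∉ (p x).asIdeal := by
    have : p x ∈ Set.range ⇑p := ⟨x, rfl⟩
    rw [range_toLoc] at this
    exact this
  by_cases hr : algebraMap R M r ∈ (p x).asIdeal
  · right
    refine hmem _ _ fun h => ?_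
    rw [map_mul] at h
    exact ((p x).isPrime.mem_or_mem h).elim hx fun h' => hx (by
      have := Ideal.add_mem (p x).asIdeal hr h'
      exact Eq.mpr (congrArg (fun a => a ∈ (p x).asIdeal) (map_add (algebraMap R M) r r')) this)
  · left
    refine hmem _ _ fun h => ?_
    rw [map_mul] at h
    exact ((p x).isPrime.mem_or_mem h).elim hx hr

/-- The two pieces cover. -/
def glueCover (r r' : R) : (O R (Loc M (r + r'))).left.OpenCover :=
  Scheme.Cover.mkOfCovers (ULift.{u} Bool) (fun b => match b with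
      | ⟨true⟩ => (O R (Loc M ((r + r') * r))).left
      | ⟨false⟩ => (O R (Loc M ((r + r') * r'))).left)
    (fun b => match b with
      | ⟨true⟩ => (om (res (dvd_mul_right (r + r') r))).left
      | ⟨false⟩ => (om (res (dvd_mul_right (r + r') r'))).left)
    (fun x => by
      rcases loc_cover r r' x with ⟨w, hw⟩ | ⟨w, hw⟩
      exacts [⟨⟨true⟩, w, hw⟩, ⟨⟨false⟩, w, hw⟩])
    (fun b => match b with
      | ⟨true⟩ => isOpenImmersion_res _
      | ⟨false⟩ => isOpenImmersion_res _)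

theorem glue_ext {X : Over (Spec (CommRingCat.of R))} {r r' : R} {z z' : O R (Loc M (r + r')) ⟶ X}
    (h : om (res (dvd_mul_right (r + r') r)) ≫ z = om (res (dvd_mul_right (r + r') r)) ≫ z')
    (h' : om (res (dvd_mul_right (r + r') r')) ≫ z = om (res (dvd_mul_right (r + r') r')) ≫ z') : z = z' :=
  Over.OverMorphism.ext (Scheme.Cover.hom_ext (glueCover r r') _ _ fun b => by
    rcases b with ⟨_ | _⟩
    · exact congrArg CommaMorphism.left h'
    · exact congrArg CommaMorphism.left h)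

/-- Points over two pieces agreeing on the overlap glue. -/
theorem exists_glue {X : Over (Spec (CommRingCat.of R))} (r r' : R)
    (y : O R (Loc M ((r + r') * r)) ⟶ X) (y' : O R (Loc M ((r + r') * r')) ⟶ X)
    (e : om (res (dvd_mul_right ((r + r') * r) r')) ≫ y =
      om (res (M := M) (t := (r + r') * r * r') ⟨r, by ring⟩) ≫ y') :
    ∃ z : O R (Loc M (r + r')) ⟶ X, om (res (dvd_mul_right (r + r') r)) ≫ z = y ∧
      om (res (dvd_mul_right (r + r') r')) ≫ z = y' := by
  let jA := (om (res (M := M) (dvd_mul_right (r + r') r))).left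
  let jA' := (om (res (M := M) (dvd_mul_right (r + r') r'))).left
  have hjA : IsOpenImmersion jA := isOpenImmersion_res _
  have hjA' : IsOpenImmersion jA' := isOpenImmersion_res _
  let 𝒰 := glueCover (M := M) r r'
  let g : ∀ b, 𝒰.X b ⟶ X.left := fun b => match b with
    | ⟨true⟩ => y.left
    | ⟨false⟩ => y'.left
  have key : ∀ {W : Scheme.{u}} (w : W ⟶ (O R (Loc M ((r + r') * r))).left)
      (w' : W ⟶ (O R (Loc M ((r + r') * r'))).left), w ≫ jA = w' ≫ jA' → w ≫ y.left = w' ≫ y'.left := fun {W} w w' h => by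
    have hB := isOpenImmersion_toLoc (M := M) ((r + r') * r * r')
    have hA := isOpenImmersion_toLoc (M := M) ((r + r') * r)
    have hA' := isOpenImmersion_toLoc (M := M) ((r + r') * r')
    let q := w ≫ (om (toLoc (M := M) ((r + r') * r))).left
    have hq : q = w' ≫ (om (toLoc (M := M) ((r + r') * r'))).left := by
      show w ≫ _ = _
      rw [← om_res_toLoc (dvd_mul_right (r + r') r), ← om_res_toLoc (dvd_mul_right (r + r') r'), Over.comp_left,
        Over.comp_left, reassoc_of% h]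
    have hr : Set.range ⇑q ⊆ Set.range ⇑(om (toLoc (M := M) ((r + r') * r * r'))).left := by
      rintro _ ⟨z, rfl⟩
      rw [range_toLoc]
      have h1 : q z ∈ Set.range ⇑(om (toLoc (M := M) ((r + r') * r))).left := ⟨w z, rfl⟩
      have h2 : q z ∈ Set.range ⇑(om (toLoc (M := M) ((r + r') * r'))).left := ⟨w' z, by rw [hq]; rfl⟩
      rw [range_toLoc] at h1 h2
      show algebraMap R M ((r + r') * r * r') ∉ (q z).asIdeal
      intro h0
      rw [map_mul] at h0
      rcases (q z).isPrime.mem_or_mem h0 with h0 | h0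
      · exact h1 h0
      · exact h2 (by rw [map_mul]; exact Ideal.mul_mem_left _ _ h0)
    let v := IsOpenImmersion.lift _ q hr
    have hw : w = v ≫ (om (res (dvd_mul_right ((r + r') * r) r'))).left := by
      rw [← cancel_mono (om (toLoc (M := M) ((r + r') * r))).left, Category.assoc, ← Over.comp_left, om_res_toLoc,
        IsOpenImmersion.lift_fac]
    have hw' : w' = v ≫ (om (res (M := M) (r := (r + r') * r') (t := (r + r') * r * r') ⟨r, by ring⟩)).left := by
      rw [← cancel_mono (om (toLoc (M := M) ((r + r') * r'))).left, Category.assoc, ← Over.comp_left, om_res_toLoc,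
        IsOpenImmersion.lift_fac, hq]
    rw [hw, hw', Category.assoc, Category.assoc, ← Over.comp_left, ← Over.comp_left, e]
  have hg : ∀ b c, pullback.fst (𝒰.f b) (𝒰.f c) ≫ g b = pullback.snd (𝒰.f b) (𝒰.f c) ≫ g c := by
    rintro ⟨_ | _⟩ ⟨_ | _⟩
    · exact congrArg (· ≫ y'.left) ((cancel_mono jA').1 (pullback.condition (f := jA') (g := jA')))
    · exact (key _ _ pullback.condition.symm).symm
    · exact key _ _ pullback.condition
    · exact congrArg (· ≫ y.left) ((cancel_mono jA).1 (pullback.condition (f := jA) (g := jA)))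
  let z := 𝒰.glueMorphisms g hg
  have hz : ∀ b, 𝒰.f b ≫ z = g b := fun b => 𝒰.ι_glueMorphisms g hg b
  refine ⟨Over.homMk z (Scheme.Cover.hom_ext 𝒰 _ _ fun b => ?_), Over.OverMorphism.ext (hz ⟨true⟩),
    Over.OverMorphism.ext (hz ⟨false⟩)⟩
  rw [reassoc_of% (hz b)]
  rcases b with ⟨_ | _⟩
  · exact (Over.w y').trans (Over.w (om (res (M := M) (dvd_mul_right (r + r') r')))).symm
  · exact (Over.w y).trans (Over.w (om (res (M := M) (dvd_mul_right (r + r') r)))).symm

theorem om_om {P Q T : Type u} [CommRing P] [CommRing Q] [CommRing T] [Algebra R P] [Algebra R Q] [Algebra R T]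
    {X : Over (Spec (CommRingCat.of R))} (ψ : Q →ₐ[R] T) (φ : P →ₐ[R] Q) (w : O R P ⟶ X) :
    om ψ ≫ om φ ≫ w = om (ψ.comp φ) ≫ w := by
  rw [← Category.assoc, ← om_comp]

end loc

/-- The data of a torsor over a cone, in the coordinates of a covering of the vertex. -/
structure Data (G : Over (Spec (CommRingCat.of R))) [GrpObj G] where
  /-- the total space -/
  X : Over (Spec (CommRingCat.of R))
  /-- the cone -/
  L : Over (Spec (CommRingCat.of R))
  /-- the action -/
  b : AlgGrp.Action G X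
  /-- the projection -/
  π : X ⟶ L
  hπ : b.act ≫ π = snd G X ≫ π
  free : ∀ {T : Over (Spec (CommRingCat.of R))} (y y' : T ⟶ X), y ≫ π = y' ≫ π →
    ∃! g : T ⟶ G, lift g y' ≫ b.act = y
  /-- the covering -/
  M : Type u
  /-- the double covering -/
  N : Type u
  [ringM : CommRing M]
  [algM : Algebra R M]
  [ringN : CommRing N]
  [algN : Algebra R N]
  /-- the projections -/
  i₀ : M →ₐ[R] N
  /-- the projections -/
  i₁ : M →ₐ[R] N
  /-- the transition -/
  δ : O R N ⟶ G
  /-- the projection to the cone -/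
  π₀ : O R M ⟶ L
  hπ₀ : om i₀ ≫ π₀ = om i₁ ≫ π₀
  /-- the contraction -/
  hM : M →ₐ[R] M[X]
  /-- the contraction -/
  hN : N →ₐ[R] N[X]
  h₀ : (mapAlgHom i₀).comp hM = hN.comp i₀
  h₁ : (mapAlgHom i₁).comp hM = hN.comp i₁
  hev : (ev1 R M).comp hM = AlgHom.id R M
  hδ : om hN ≫ δ = om (cst R N) ≫ δ
  /-- the vertex -/
  base : O R M ⟶ X
  base_π : base ≫ π = om ((ev0 R M).comp hM) ≫ π₀
  base_cov : om i₀ ≫ base = lift δ (om i₁ ≫ base) ≫ b.act

attribute [instance] Data.ringM Data.algM Data.ringN Data.algN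

variable {G : Over (Spec (CommRingCat.of R))} [GrpObj G] (D : Data G)

/-- The pair of localisations. -/
@[reducible] def Data.pair (r : R) : PairAlg G where
  A := Loc D.M r
  A₂ := Loc D.N r
  j₀ := mapLoc D.i₀ r
  j₁ := mapLoc D.i₁ r
  δ := om (toLoc r) ≫ D.δ

/-- Restriction of pairs. -/
def Data.resHom {r t : R} (h : r ∣ t) : PairHom (D.pair r) (D.pair t) where
  φ := res h
  φ₂ := res h
  comm₀ := res_mapLoc D.i₀ h
  comm₁ := res_mapLoc D.i₁ h
  δ_eq := by
    show om (res h) ≫ om (toLoc r) ≫ D.δ = om (toLoc t) ≫ D.δ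
    rw [← Category.assoc, om_res_toLoc]

theorem Data.isLocAt_resHom {r r' t : R} (ht : t = r * r') (h : r ∣ t) : (D.resHom h).IsLocAt r' :=
  ⟨isLocAt_res ht h, isLocAt_res ht h⟩

/-- The pair of the covering. -/
@[reducible] def Data.top : PairAlg G where
  A := D.M
  A₂ := D.N
  j₀ := D.i₀
  j₁ := D.i₁
  δ := D.δ

/-- Localisation of the pair. -/
def Data.locHom (r : R) : PairHom D.top (D.pair r) where
  φ := toLoc r
  φ₂ := toLoc r
  comm₀ := (mapLoc_comp D.i₀ r).symm
  comm₁ := (mapLoc_comp D.i₁ r).symm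
  δ_eq := rfl

/-- The contraction of the pair. -/
def Data.conHom : PairHom D.top D.top.poly where
  φ := D.hM
  φ₂ := D.hN
  comm₀ := D.h₀.symm
  comm₁ := D.h₁.symm
  δ_eq := D.hδ

/-- The contraction of a localised pair. -/
def Data.conLocHom (r : R) : PairHom (D.pair r) (D.pair r).poly where
  φ := liftLoc ((mapAlgHom (toLoc r)).comp D.hM) ((isUnit_loc r).map C)
  φ₂ := liftLoc ((mapAlgHom (toLoc r)).comp D.hN) ((isUnit_loc r).map C)
  comm₀ := loc_ext (by
    rw [AlgHom.comp_assoc, AlgHom.comp_assoc, mapLoc_comp, ← AlgHom.comp_assoc, liftLoc_comp, liftLoc_comp]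
    exact ((D.conHom.comp (D.locHom r).poly).comm₀))
  comm₁ := loc_ext (by
    rw [AlgHom.comp_assoc, AlgHom.comp_assoc, mapLoc_comp, ← AlgHom.comp_assoc, liftLoc_comp, liftLoc_comp]
    exact ((D.conHom.comp (D.locHom r).poly).comm₁))
  δ_eq := by
    show om _ ≫ om (toLoc r) ≫ D.δ = _
    rw [← Category.assoc, ← om_comp, liftLoc_comp]
    exact (D.conHom.comp (D.locHom r).poly).δ_eq

/-- Covariant points over the covering. -/
def Data.Sec {P : PairAlg G} (f : PairHom D.top P) (y : O R P.A ⟶ D.X) : Prop :=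
  y ≫ D.π = om f.φ ≫ D.π₀ ∧ om P.j₀ ≫ y = lift P.δ (om P.j₁ ≫ y) ≫ D.b.act

variable {D}

theorem Data.act_π {T : Over (Spec (CommRingCat.of R))} (g : T ⟶ G) (y : T ⟶ D.X) :
    (lift g y ≫ D.b.act) ≫ D.π = y ≫ D.π := by
  rw [Category.assoc, D.hπ, lift_snd_assoc]

theorem Data.act_pt {T T' : Over (Spec (CommRingCat.of R))} (j : T' ⟶ T) (g : T ⟶ G) (y : T ⟶ D.X) :
    j ≫ lift g y ≫ D.b.act = lift (j ≫ g) (j ≫ y) ≫ D.b.act := comp_lift_assoc j g y D.b.act

theorem Data.Sec.congr {P : PairAlg G} {f f' : PairHom D.top P} {y : O R P.A ⟶ D.X} (h : D.Sec f y)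
    (e : f.φ = f'.φ) : D.Sec f' y := by
  unfold Data.Sec at h ⊢
  rwa [← e]

theorem Data.Sec.map {P P' : PairAlg G} {f : PairHom D.top P} (k : PairHom P P') {y : O R P.A ⟶ D.X}
    (h : D.Sec f y) : D.Sec (f.comp k) (om k.φ ≫ y) := by
  obtain ⟨h1, h2⟩ := h
  refine ⟨?_, ?_⟩
  · rw [Category.assoc, h1, ← Category.assoc, ← om_comp]
    rfl
  · rw [← Category.assoc, ← Category.assoc, ← om_comp, ← om_comp, ← k.comm₀, ← k.comm₁, om_comp, om_comp,
      Category.assoc, Category.assoc, h2, D.act_pt, k.δ_eq]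

theorem Data.Sec.act {P : PairAlg G} {f : PairHom D.top P} {g : O R P.A ⟶ G} {y : O R P.A ⟶ D.X}
    (h : D.Sec f y) (hg : P.Cond g) : D.Sec f (lift g y ≫ D.b.act) := by
  obtain ⟨h1, h2⟩ := h
  refine ⟨by rw [D.act_π, h1], ?_⟩
  unfold PairAlg.Cond at hg
  rw [D.act_pt, D.act_pt, h2, ← SchTorsor.act_assoc, hg, SchTorsor.act_assoc]

theorem Data.Sec.exists_div {P : PairAlg G} {f : PairHom D.top P} {y y' : O R P.A ⟶ D.X}
    (h : D.Sec f y) (h' : D.Sec f y') : ∃ g : O R P.A ⟶ G, lift g y' ≫ D.b.act = y ∧ P.Cond g := by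
  obtain ⟨g, hg, -⟩ := D.free y y' (h.1.trans h'.1.symm)
  refine ⟨g, hg, ?_⟩
  have hπ : (om P.j₀ ≫ y) ≫ D.π = (om P.j₁ ≫ y') ≫ D.π := by
    rw [Category.assoc, Category.assoc, h.1, h'.1, ← Category.assoc, ← Category.assoc, ← om_comp, ← om_comp,
      ← f.comm₀, ← f.comm₁, om_comp, om_comp, Category.assoc, Category.assoc]
    exact congrArg (_ ≫ ·) D.hπ₀
  refine (D.free _ _ hπ).unique ?_ ?_
  · rw [SchTorsor.act_assoc, ← h'.2, ← D.act_pt, hg]
  · rw [SchTorsor.act_assoc, ← D.act_pt, hg, ← h.2]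

variable (D)

/-- The elements over which the torsor comes from the vertex. -/
def Data.Good (r : R) : Prop :=
  ∃ y : O R (Loc D.M r) ⟶ D.X, D.Sec (D.locHom r) y

theorem Data.Good.dvd {r t : R} (h : D.Good r) (hrt : r ∣ t) : D.Good t := by
  obtain ⟨y, hy⟩ := h
  exact ⟨om (res hrt) ≫ y, (hy.map (D.resHom hrt)).congr (res_comp hrt)⟩

theorem Data.good_zero : D.Good 0 := by
  have : Subsingleton (Loc D.M (0 : R)) := IsLocalization.subsingleton (M := Submonoid.powers (algebraMap R D.M 0))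
    (by rw [map_zero]; exact Submonoid.mem_powers 0)
  have : Subsingleton (Loc D.N (0 : R)) := IsLocalization.subsingleton (M := Submonoid.powers (algebraMap R D.N 0))
    (by rw [map_zero]; exact Submonoid.mem_powers 0)
  have hu : ∀ {A : Type u} [CommRing A] [Algebra R A] [Subsingleton A] {Y : Over (Spec (CommRingCat.of R))}
      (f f' : O R A ⟶ Y), f = f' := fun {A} _ _ _ Y f f' => by
    have : IsEmpty ↥(Spec (CommRingCat.of A)) := inferInstanceAs (IsEmpty (PrimeSpectrum A))
    exact Over.OverMorphism.ext ((isInitialOfIsEmpty (X := Spec (CommRingCat.of A))).hom_ext _ _)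
  exact ⟨om (toLoc 0) ≫ D.base, hu _ _, hu _ _⟩

theorem Data.sec_base : D.Sec (D.conHom.comp D.top.evHom0) D.base := ⟨D.base_π, D.base_cov⟩

theorem Data.good_normalise {r : R} (h : D.Good r) :
    ∃ Φ : O R (Loc D.M r)[X] ⟶ D.X, D.Sec (D.conHom.comp (D.locHom r).poly) Φ ∧
      om (ev0 R (Loc D.M r)) ≫ Φ = om (toLoc r) ≫ D.base := by
  obtain ⟨y, hy⟩ := h
  have e1 : ((D.locHom r).comp (D.conLocHom r)).φ = (D.conHom.comp (D.locHom r).poly).φ :=
    liftLoc_comp (r := r) ((mapAlgHom (toLoc r)).comp D.hM) ((isUnit_loc r).map C)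
  have e2 : ((D.conHom.comp D.top.evHom0).comp (D.locHom r)).φ =
      ((D.conHom.comp (D.locHom r).poly).comp (D.pair r).evHom0).φ := by
    show (toLoc r).comp ((ev0 R D.M).comp D.hM) = (ev0 R (Loc D.M r)).comp ((mapAlgHom (toLoc r)).comp D.hM)
    rw [← AlgHom.comp_assoc, ← AlgHom.comp_assoc, ev0_comp_map]
  have hy₁ := (hy.map (D.conLocHom r)).congr e1
  obtain ⟨g₀, hg₀, hg₀c⟩ := ((D.sec_base.map (D.locHom r)).congr e2).exists_div (hy₁.map (D.pair r).evHom0)
  refine ⟨lift (om (cst R _) ≫ g₀) (om (D.conLocHom r).φ ≫ y) ≫ D.b.act, hy₁.act ((D.pair r).cstHom.map_cond hg₀c), ?_⟩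
  rw [D.act_pt, ← Category.assoc, ← om_comp, ev0_comp_cst, om_id, Category.id_comp]
  exact hg₀

theorem Data.good_add {r r' : R} (h : D.Good r) (h' : D.Good r') [LocallyOfFinitePresentation G.hom] :
    D.Good (r + r') := by
  have d₁ : (r + r') * r ∣ (r + r') * r * r' := dvd_mul_right _ _
  have d₂ : (r + r') * r' ∣ (r + r') * r * r' := ⟨r, by ring⟩
  obtain ⟨Φ₁, hΦ₁, hΦ₁0⟩ := D.good_normalise (h.dvd _ (dvd_mul_left r (r + r')))
  obtain ⟨Φ₂, hΦ₂, hΦ₂0⟩ := D.good_normalise (h'.dvd _ (dvd_mul_left r' (r + r')))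
  let k₁ := D.resHom d₁
  let k₂ := D.resHom d₂
  have ek : ∀ {t : R} (d : t ∣ (r + r') * r * r'),
      ((D.conHom.comp (D.locHom t).poly).comp (D.resHom d).poly).φ =
        (D.conHom.comp (D.locHom ((r + r') * r * r')).poly).φ := fun {t} d => by
    show (mapAlgHom (res d)).comp ((mapAlgHom (toLoc t)).comp D.hM) = (mapAlgHom (toLoc _)).comp D.hM
    rw [← AlgHom.comp_assoc]
    congr 1
    exact polyHom_ext (fun a => by simpa using DFunLike.congr_fun (res_comp (M := D.M) d) a) (by simp)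
  obtain ⟨g, hg, hgc⟩ := ((hΦ₁.map k₁.poly).congr (ek d₁)).exists_div ((hΦ₂.map k₂.poly).congr (ek d₂))
  have hB0 : ∀ {t : R} (d : t ∣ (r + r') * r * r') (Φ : O R (Loc D.M t)[X] ⟶ D.X),
      om (ev0 R (Loc D.M t)) ≫ Φ = om (toLoc t) ≫ D.base →
        om (ev0 R (Loc D.M ((r + r') * r * r'))) ≫ om (D.resHom d).poly.φ ≫ Φ = om (toLoc _) ≫ D.base :=
    fun {t} d Φ hΦ => by
      show om (ev0 R _) ≫ om (mapAlgHom (res d)) ≫ Φ = _
      rw [← Category.assoc, ← om_comp, ev0_comp_map, om_comp, Category.assoc, hΦ, ← Category.assoc, om_res_toLoc]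
  have hg0 : om (ev0 R (Loc D.M ((r + r') * r * r'))) ≫ g = 1 := by
    have e := congrArg (om (ev0 R (Loc D.M ((r + r') * r * r'))) ≫ ·) hg
    simp only [D.act_pt] at e
    rw [hB0 d₁ Φ₁ hΦ₁0, hB0 d₂ Φ₂ hΦ₂0] at e
    exact (D.free _ _ rfl).unique e (SchTorsor.one_act_pt _ _)
  obtain ⟨g₁, g₂, hg₁, hg₂, hgg⟩ := exists_patch_cond k₁ k₂
    (D.isLocAt_resHom rfl d₁) (D.isLocAt_resHom (by ring) d₂)
    (isUnit_of_dvd (dvd_mul_right _ _)) (isUnit_of_dvd (dvd_mul_right _ _)) g hg0 hgc
  have e1 : ∀ t : R, ((D.conHom.comp (D.locHom t).poly).comp (D.pair t).evHom1).φ = (D.locHom t).φ := fun t => by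
    show (ev1 R (Loc D.M t)).comp ((mapAlgHom (toLoc t)).comp D.hM) = toLoc t
    rw [← AlgHom.comp_assoc, ev1_map, AlgHom.comp_assoc, D.hev, AlgHom.comp_id]
  have hy₁ := ((hΦ₁.act hg₁.inv).map (D.pair ((r + r') * r)).evHom1).congr (e1 _)
  have hy₂ := ((hΦ₂.act hg₂).map (D.pair ((r + r') * r')).evHom1).congr (e1 _)
  have hagree : om (mapAlgHom k₁.φ) ≫ lift g₁⁻¹ Φ₁ ≫ D.b.act = om (mapAlgHom k₂.φ) ≫ lift g₂ Φ₂ ≫ D.b.act := by
    rw [D.act_pt, D.act_pt, GrpObj.comp_inv]
    have : om (mapAlgHom k₁.φ) ≫ Φ₁ = lift g (om (mapAlgHom k₂.φ) ≫ Φ₂) ≫ D.b.act := hg.symm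
    rw [this, ← SchTorsor.act_assoc]
    conv_lhs => rw [hgg, inv_mul_cancel_left]
  obtain ⟨z, hz, hz'⟩ := exists_glue r r' _ _ (show om k₁.φ ≫ om (ev1 R _) ≫ lift g₁⁻¹ Φ₁ ≫ D.b.act =
      om k₂.φ ≫ om (ev1 R _) ≫ lift g₂ Φ₂ ≫ D.b.act by
    rw [om_om, om_om, ← ev1_map, ← ev1_map, ← om_om, ← om_om, hagree])
  refine ⟨z, ?_, glue_ext ?_ ?_⟩
  · refine glue_ext ?_ ?_
    · rw [← Category.assoc, hz]
      refine hy₁.1.trans ?_
      rw [← Category.assoc]
      exact congrArg (· ≫ D.π₀) (om_res_toLoc _).symm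
    · rw [← Category.assoc, hz']
      refine hy₂.1.trans ?_
      rw [← Category.assoc]
      exact congrArg (· ≫ D.π₀) (om_res_toLoc _).symm
  all_goals
    dsimp only [Data.pair]
    rw [D.act_pt, ← Category.assoc, ← Category.assoc (om (res _)) (om (mapLoc D.i₁ _)), ← om_comp, ← om_comp,
      res_mapLoc, res_mapLoc, om_comp, om_comp, Category.assoc, Category.assoc, ← Category.assoc (om (res _)) (om (toLoc _)),
      om_res_toLoc]
  · rw [hz]; exact hy₁.2
  · rw [hz']; exact hy₂.2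

/-- The ideal of the elements over which the torsor comes from the vertex. -/
def Data.ideal [LocallyOfFinitePresentation G.hom] : Ideal R where
  carrier := {r | D.Good r}
  add_mem' := fun h h' => D.good_add h h'
  zero_mem' := D.good_zero
  smul_mem' := fun c _ h => h.dvd _ ⟨c, mul_comm _ _⟩

end Groth.Agent.NonAbLib.Quillen
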