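import Groth.Agent.NonAbLib.TorsorSch
import Groth.Prelude.Def_ChGrp
import Mathlib.AlgebraicGeometry.Gluing
import Mathlib.AlgebraicGeometry.Morphisms.Flat
import Mathlib.AlgebraicGeometry.Limits

/-!
# Glueing a trivial torsor and a torsor along two opens covering the base
-/

universe u

open CategoryTheory CategoryTheory.Limits MonoidalCategory CartesianMonoidalCategory MonObj GrpObj AlgebraicGeometry

noncomputable section

namespace Groth.Agent.NonAbLib.ZariskiGlue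

variable {B : Scheme.{u}} {U₁ U₂ : Scheme.{u}} (i₁ : U₁ ⟶ B) (i₂ : U₂ ⟶ B) [IsOpenImmersion i₁]
  [IsOpenImmersion i₂]

theorem sub_unique {U : Scheme.{u}} (i : U ⟶ B) [Mono i] {T : Over B} (v v' : T ⟶ Over.mk i) : v = v' :=
  Over.OverMorphism.ext ((cancel_mono i).1 ((Over.w v).trans (Over.w v').symm))

instance isOpenImmersion_fst {U : Scheme.{u}} (i : U ⟶ B) [IsOpenImmersion i] (W : Over B) :
    IsOpenImmersion (fst W (Over.mk i)).left :=
  inferInstanceAs (IsOpenImmersion (pullback.fst W.hom i))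

theorem range_fst {U : Scheme.{u}} (i : U ⟶ B) [IsOpenImmersion i] (W : Over B) :
    Set.range ⇑(fst W (Over.mk i)).left = ⇑W.hom ⁻¹' Set.range ⇑i :=
  Scheme.Pullback.range_fst W.hom i

variable (hcov : ∀ b : B, b ∈ Set.range ⇑i₁ ∨ b ∈ Set.range ⇑i₂)

include hcov

/-- Morphisms on the two pieces of an object glue. -/
theorem exists_glue {W Y : Over B} (F₁ : W ⊗ Over.mk i₁ ⟶ Y) (F₂ : W ⊗ Over.mk i₂ ⟶ Y)
    (h : ∀ {T : Over B} (w : T ⟶ W) (v₁ : T ⟶ Over.mk i₁) (v₂ : T ⟶ Over.mk i₂),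
      lift w v₁ ≫ F₁ = lift w v₂ ≫ F₂) :
    ∃ F : W ⟶ Y, fst W (Over.mk i₁) ≫ F = F₁ ∧ fst W (Over.mk i₂) ≫ F = F₂ := by
  let j₁ := (fst W (Over.mk i₁)).left
  let j₂ := (fst W (Over.mk i₂)).left
  let 𝒰 : W.left.OpenCover :=
    Scheme.Cover.mkOfCovers (ULift.{u} Bool) (fun b => match b with
        | ⟨true⟩ => (W ⊗ Over.mk i₁).left
        | ⟨false⟩ => (W ⊗ Over.mk i₂).left)
      (fun b => match b with
        | ⟨true⟩ => j₁
        | ⟨false⟩ => j₂)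
      (fun x => by
        rcases hcov (W.hom x) with hx | hx
        · have : x ∈ Set.range ⇑j₁ := by rw [range_fst i₁ W]; exact hx
          obtain ⟨w, hw⟩ := this
          exact ⟨⟨true⟩, w, hw⟩
        · have : x ∈ Set.range ⇑j₂ := by rw [range_fst i₂ W]; exact hx
          obtain ⟨w, hw⟩ := this
          exact ⟨⟨false⟩, w, hw⟩)
      (fun b => match b with
        | ⟨true⟩ => isOpenImmersion_fst i₁ W
        | ⟨false⟩ => isOpenImmersion_fst i₂ W)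
  let g : ∀ b, 𝒰.X b ⟶ Y.left := fun b => match b with
    | ⟨true⟩ => F₁.left
    | ⟨false⟩ => F₂.left
  have key : ∀ {T : Scheme.{u}} (a : T ⟶ (W ⊗ Over.mk i₁).left) (b : T ⟶ (W ⊗ Over.mk i₂).left),
      a ≫ j₁ = b ≫ j₂ → a ≫ F₁.left = b ≫ F₂.left := fun {T} a b hab => by
    let T' : Over B := Over.mk (a ≫ (W ⊗ Over.mk i₁).hom)
    let a' : T' ⟶ W ⊗ Over.mk i₁ := Over.homMk a rfl
    let b' : T' ⟶ W ⊗ Over.mk i₂ := Over.homMk b (by
      show b ≫ (W ⊗ Over.mk i₂).hom = a ≫ (W ⊗ Over.mk i₁).hom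
      rw [← Over.w (fst W (Over.mk i₂)), ← Over.w (fst W (Over.mk i₁)), reassoc_of% hab])
    have e : a' ≫ fst _ _ = b' ≫ fst _ _ := Over.OverMorphism.ext hab
    have ea : lift (a' ≫ fst _ _) (a' ≫ snd _ _) = a' := by rw [← comp_lift, lift_fst_snd, Category.comp_id]
    have eb : lift (b' ≫ fst _ _) (b' ≫ snd _ _) = b' := by rw [← comp_lift, lift_fst_snd, Category.comp_id]
    have := h (a' ≫ fst _ _) (a' ≫ snd _ _) (b' ≫ snd _ _)
    rw [ea, e, eb] at this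
    exact congrArg CommaMorphism.left this
  have hj₁ : IsOpenImmersion j₁ := isOpenImmersion_fst i₁ W
  have hj₂ : IsOpenImmersion j₂ := isOpenImmersion_fst i₂ W
  have hg : ∀ b c, pullback.fst (𝒰.f b) (𝒰.f c) ≫ g b = pullback.snd (𝒰.f b) (𝒰.f c) ≫ g c := by
    rintro ⟨_ | _⟩ ⟨_ | _⟩
    · exact congrArg (· ≫ F₂.left) ((cancel_mono j₂).1 (pullback.condition (f := j₂) (g := j₂)))
    · exact (key _ _ pullback.condition.symm).symm
    · exact key _ _ pullback.condition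
    · exact congrArg (· ≫ F₁.left) ((cancel_mono j₁).1 (pullback.condition (f := j₁) (g := j₁)))
  let F := 𝒰.glueMorphisms g hg
  have hF : ∀ b, 𝒰.f b ≫ F = g b := fun b => 𝒰.ι_glueMorphisms g hg b
  refine ⟨Over.homMk F (Scheme.Cover.hom_ext 𝒰 _ _ fun b => ?_), Over.OverMorphism.ext (hF ⟨true⟩),
    Over.OverMorphism.ext (hF ⟨false⟩)⟩
  rw [reassoc_of% (hF b)]
  rcases b with ⟨_ | _⟩
  · exact (Over.w F₂).trans (Over.w (fst W (Over.mk i₂))).symm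
  · exact (Over.w F₁).trans (Over.w (fst W (Over.mk i₁))).symm

/-- Morphisms agreeing on the two pieces are equal. -/
theorem glue_ext {W Y : Over B} {F F' : W ⟶ Y} (h₁ : fst W (Over.mk i₁) ≫ F = fst W (Over.mk i₁) ≫ F')
    (h₂ : fst W (Over.mk i₂) ≫ F = fst W (Over.mk i₂) ≫ F') : F = F' := by
  refine Over.OverMorphism.ext ?_
  let 𝒰 : W.left.OpenCover :=
    Scheme.Cover.mkOfCovers (ULift.{u} Bool) (fun b => match b with
        | ⟨true⟩ => (W ⊗ Over.mk i₁).left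
        | ⟨false⟩ => (W ⊗ Over.mk i₂).left)
      (fun b => match b with
        | ⟨true⟩ => (fst W (Over.mk i₁)).left
        | ⟨false⟩ => (fst W (Over.mk i₂)).left)
      (fun x => by
        rcases hcov (W.hom x) with hx | hx
        · have : x ∈ Set.range ⇑(fst W (Over.mk i₁)).left := by rw [range_fst i₁ W]; exact hx
          obtain ⟨w, hw⟩ := this
          exact ⟨⟨true⟩, w, hw⟩
        · have : x ∈ Set.range ⇑(fst W (Over.mk i₂)).left := by rw [range_fst i₂ W]; exact hx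
          obtain ⟨w, hw⟩ := this
          exact ⟨⟨false⟩, w, hw⟩)
      (fun b => match b with
        | ⟨true⟩ => isOpenImmersion_fst i₁ W
        | ⟨false⟩ => isOpenImmersion_fst i₂ W)
  refine Scheme.Cover.hom_ext 𝒰 _ _ fun b => ?_
  rcases b with ⟨_ | _⟩
  · exact congrArg CommaMorphism.left h₂
  · exact congrArg CommaMorphism.left h₁

omit hcov

variable {H : Over B} [GrpObj H] {P₂ : Over B} (a₂ : AlgGrp.Action H P₂) (π₂ : P₂ ⟶ Over.mk i₂)
  (σ : Over.mk i₁ ⊗ Over.mk i₂ ⟶ P₂)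

/-- The inclusion of the overlap in the trivial piece. -/
def inc₁ : H ⊗ (Over.mk i₁ ⊗ Over.mk i₂) ⟶ H ⊗ Over.mk i₁ := H ◁ fst (Over.mk i₁) (Over.mk i₂)

/-- The inclusion of the overlap in the second piece. -/
def inc₂ : H ⊗ (Over.mk i₁ ⊗ Over.mk i₂) ⟶ P₂ := lift (fst _ _) (snd _ _ ≫ σ) ≫ a₂.act

omit [IsOpenImmersion i₁] [GrpObj H] in
theorem isOpenImmersion_inc₁ : IsOpenImmersion (inc₁ i₁ i₂ (H := H)).left := by
  let θ : H ⊗ (Over.mk i₁ ⊗ Over.mk i₂) ≅ (H ⊗ Over.mk i₁) ⊗ Over.mk i₂ := (α_ _ _ _).symm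
  have e : inc₁ i₁ i₂ (H := H) = θ.hom ≫ fst _ _ := by
    refine CartesianMonoidalCategory.hom_ext _ _ ?_ ?_ <;> simp [inc₁, θ]
  have : IsIso θ.hom.left := (Over.forget B).map_isIso θ.hom
  rw [e, Over.comp_left]
  infer_instance

include π₂ in
theorem isOpenImmersion_inc₂ (h₂ : NonAbH1.IsPseudoTorsorSch a₂) : IsOpenImmersion (inc₂ i₁ i₂ a₂ σ).left := by
  let θ : H ⊗ (Over.mk i₁ ⊗ Over.mk i₂) ⟶ P₂ ⊗ Over.mk i₁ := lift (inc₂ i₁ i₂ a₂ σ) (snd _ _ ≫ fst _ _)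
  let w : P₂ ⊗ Over.mk i₁ ⟶ Over.mk i₁ ⊗ Over.mk i₂ := lift (snd _ _) (fst _ _ ≫ π₂)
  obtain ⟨g, hg⟩ := SchTorsor.exists_div h₂ (fst P₂ (Over.mk i₁)) (w ≫ σ)
  have h1 : θ ≫ w = snd _ _ :=
    CartesianMonoidalCategory.hom_ext _ _ (sub_unique i₁ _ _) (sub_unique i₂ _ _)
  have hθ : IsIso θ := by
    refine ⟨lift g w, ?_, ?_⟩
    · refine CartesianMonoidalCategory.hom_ext _ _ ?_ ?_
      · rw [Category.assoc, lift_fst, Category.id_comp]
        refine SchTorsor.act_free h₂ (y := snd _ _ ≫ σ) ?_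
        have e := congrArg (θ ≫ ·) hg
        simp only [comp_lift_assoc, ← Category.assoc θ w, h1] at e
        rw [e]
        simp [θ, inc₂]
      · rw [Category.assoc, lift_snd, h1, Category.id_comp]
    · refine CartesianMonoidalCategory.hom_ext _ _ ?_ (sub_unique i₁ _ _)
      simp only [θ, inc₂, Category.assoc, lift_fst, comp_lift_assoc, lift_snd_assoc, Category.id_comp]
      exact hg
  have e : inc₂ i₁ i₂ a₂ σ = θ ≫ fst _ _ := by simp [θ]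
  have : IsIso θ.left := (Over.forget B).map_isIso θ
  rw [e, Over.comp_left]
  infer_instance

include π₂ in
set_option backward.isDefEq.respectTransparency.types false in
/-- The scheme obtained by glueing. -/
theorem exists_space (h₂ : NonAbH1.IsPseudoTorsorSch a₂) :
    ∃ (E : Over B) (e₁ : H ⊗ Over.mk i₁ ⟶ E) (e₂ : P₂ ⟶ E), inc₁ i₁ i₂ ≫ e₁ = inc₂ i₁ i₂ a₂ σ ≫ e₂ ∧
      IsOpenImmersion e₁.left ∧ IsOpenImmersion e₂.left ∧
      (∀ {T : Over B} (e : T ⟶ E) (_ : T ⟶ Over.mk i₁), ∃ x, x ≫ e₁ = e) ∧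
      (∀ {T : Over B} (e : T ⟶ E) (_ : T ⟶ Over.mk i₂), ∃ y, y ≫ e₂ = e) := by
  let f₁ := (inc₁ i₁ i₂ (H := H)).left
  let f₂ := (inc₂ i₁ i₂ a₂ σ).left
  have hf₁ : IsOpenImmersion f₁ := isOpenImmersion_inc₁ i₁ i₂
  have hf₂ : IsOpenImmersion f₂ := isOpenImmersion_inc₂ i₁ i₂ a₂ π₂ σ h₂
  let Y := pushout f₁ f₂
  have w : f₁ ≫ (H ⊗ Over.mk i₁).hom = f₂ ≫ P₂.hom := (Over.w _).trans (Over.w _).symm
  let h : Y ⟶ B := pushout.desc (H ⊗ Over.mk i₁).hom P₂.hom w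
  let ι₁ : (H ⊗ Over.mk i₁).left ⟶ Y := pushout.inl f₁ f₂
  let ι₂ : P₂.left ⟶ Y := pushout.inr f₁ f₂
  have hι₁ : IsOpenImmersion ι₁ := inferInstanceAs (IsOpenImmersion (colimit.ι (span f₁ f₂) WalkingSpan.left))
  have hι₂ : IsOpenImmersion ι₂ := inferInstanceAs (IsOpenImmersion (colimit.ι (span f₁ f₂) WalkingSpan.right))
  have h₁' : ι₁ ≫ h = (H ⊗ Over.mk i₁).hom := pushout.inl_desc _ _ _
  have h₂' : ι₂ ≫ h = P₂.hom := pushout.inr_desc _ _ _
  have hf : f₁ ≫ ι₁ = f₂ ≫ ι₂ := pushout.condition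
  have hpt : ∀ y : Y, y ∈ Set.range ⇑ι₁ ∨ y ∈ Set.range ⇑ι₂ := fun y => by
    obtain ⟨j, z, hz⟩ := Scheme.IsLocallyDirected.ι_jointly_surjective (span f₁ f₂) y
    rcases j with _ | (_ | _)
    · refine Or.inl ⟨f₁ z, ?_⟩
      rw [← hz, ← colimit.w (span f₁ f₂) WalkingSpan.Hom.fst]
      rfl
    · exact Or.inl ⟨z, hz⟩
    · exact Or.inr ⟨z, hz⟩
  -- the second piece meets the first one in the overlap
  have hr₂ : Set.range ⇑f₂ = ⇑P₂.hom ⁻¹' Set.range ⇑i₁ := by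
    refine Set.Subset.antisymm ?_ fun b hb => ?_
    · rintro _ ⟨z, rfl⟩
      refine ⟨(snd H (Over.mk i₁ ⊗ Over.mk i₂) ≫ fst _ _).left z, ?_⟩
      rw [← Scheme.Hom.comp_apply, ← Scheme.Hom.comp_apply]
      exact congrArg (fun m : _ ⟶ B => m z) ((Over.w _).trans (Over.w (inc₂ i₁ i₂ a₂ σ)).symm)
    · let θ : P₂ ⊗ Over.mk i₁ ⟶ H ⊗ (Over.mk i₁ ⊗ Over.mk i₂) :=
        lift (SchTorsor.exists_div h₂ (fst P₂ (Over.mk i₁))
          (lift (snd _ _) (fst _ _ ≫ π₂) ≫ σ)).choose (lift (snd _ _) (fst _ _ ≫ π₂))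
      have hθ : θ ≫ inc₂ i₁ i₂ a₂ σ = fst _ _ := by
        simp only [θ, inc₂, comp_lift_assoc, lift_fst, lift_snd_assoc]
        exact (SchTorsor.exists_div h₂ _ _).choose_spec
      have hb' : b ∈ Set.range ⇑(fst P₂ (Over.mk i₁)).left := by rw [range_fst i₁ P₂]; exact hb
      obtain ⟨z, hz⟩ := hb'
      refine ⟨θ.left z, ?_⟩
      rw [← hz, ← hθ]
      rfl
  have hr₁ : Set.range ⇑f₁ = ⇑(H ⊗ Over.mk i₁).hom ⁻¹' Set.range ⇑i₂ := by
    refine Set.Subset.antisymm ?_ fun b hb => ?_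
    · rintro _ ⟨z, rfl⟩
      refine ⟨(snd H (Over.mk i₁ ⊗ Over.mk i₂) ≫ snd _ _).left z, ?_⟩
      rw [← Scheme.Hom.comp_apply, ← Scheme.Hom.comp_apply]
      exact congrArg (fun m : _ ⟶ B => m z) ((Over.w _).trans (Over.w (inc₁ i₁ i₂ (H := H))).symm)
    · have hθ : (α_ H (Over.mk i₁) (Over.mk i₂)).hom ≫ inc₁ i₁ i₂ (H := H) = fst _ _ := by
        refine CartesianMonoidalCategory.hom_ext _ _ ?_ ?_ <;> simp [inc₁]
      have hb' : b ∈ Set.range ⇑(fst (H ⊗ Over.mk i₁) (Over.mk i₂)).left := by rw [range_fst i₂]; exact hb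
      obtain ⟨z, hz⟩ := hb'
      refine ⟨(α_ H (Over.mk i₁) (Over.mk i₂)).hom.left z, ?_⟩
      rw [← hz, ← hθ]
      rfl
  let E : Over B := Over.mk h
  let e₁ : H ⊗ Over.mk i₁ ⟶ E := Over.homMk ι₁ h₁'
  let e₂ : P₂ ⟶ E := Over.homMk ι₂ h₂'
  refine ⟨E, e₁, e₂, Over.OverMorphism.ext hf, hι₁, hι₂, fun {T} e v => ?_, fun {T} e v => ?_⟩
  · have hsub : Set.range ⇑e.left ⊆ Set.range ⇑ι₁ := by
      rintro _ ⟨t, rfl⟩
      rcases hpt (e.left t) with hy | ⟨b, hb⟩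
      · exact hy
      · have : b ∈ Set.range ⇑f₂ := by
          rw [hr₂]
          refine ⟨v.left t, ?_⟩
          rw [← h₂', Scheme.Hom.comp_apply, hb, ← Scheme.Hom.comp_apply, ← Scheme.Hom.comp_apply]
          exact congrArg (fun m : _ ⟶ B => m t) ((Over.w v).trans (Over.w e).symm)
        obtain ⟨z, hz⟩ := this
        exact ⟨f₁ z, by rw [← hb, ← hz, ← Scheme.Hom.comp_apply, hf]; rfl⟩
    refine ⟨Over.homMk (IsOpenImmersion.lift ι₁ e.left hsub) ?_,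
      Over.OverMorphism.ext (IsOpenImmersion.lift_fac _ _ _)⟩
    show _ ≫ (H ⊗ Over.mk i₁).hom = T.hom
    rw [← h₁', ← Category.assoc, IsOpenImmersion.lift_fac]
    exact Over.w e
  · have hsub : Set.range ⇑e.left ⊆ Set.range ⇑ι₂ := by
      rintro _ ⟨t, rfl⟩
      rcases hpt (e.left t) with ⟨b, hb⟩ | hy
      · have : b ∈ Set.range ⇑f₁ := by
          rw [hr₁]
          refine ⟨v.left t, ?_⟩
          rw [← h₁', Scheme.Hom.comp_apply, hb, ← Scheme.Hom.comp_apply, ← Scheme.Hom.comp_apply]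
          exact congrArg (fun m : _ ⟶ B => m t) ((Over.w v).trans (Over.w e).symm)
        obtain ⟨z, hz⟩ := this
        exact ⟨f₂ z, by rw [← hb, ← hz, ← Scheme.Hom.comp_apply (f := f₁), hf]; rfl⟩
      · exact hy
    refine ⟨Over.homMk (IsOpenImmersion.lift ι₂ e.left hsub) ?_,
      Over.OverMorphism.ext (IsOpenImmersion.lift_fac _ _ _)⟩
    show _ ≫ P₂.hom = T.hom
    rw [← h₂', ← Category.assoc, IsOpenImmersion.lift_fac]
    exact Over.w e

include hcov π₂ σ in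
/-- The glued torsor. -/
theorem exists_torsor' (h₂ : NonAbH1.IsPseudoTorsorSch a₂) {Z : Scheme.{u}} (p : Z ⟶ U₂) [Surjective p] [Flat p]
    [LocallyOfFinitePresentation p] (hs : NonAbH1.HasSectionOver P₂ (p ≫ i₂)) :
    ∃ (E : NonAbH1.TorsorSch H Scheme.fppfPrecoverage) (s₁ : Over.mk i₁ ⟶ E.X) (e : P₂ ⟶ E.X),
      a₂.act ≫ e = (H ◁ e) ≫ E.act.act ∧ fst _ _ ≫ s₁ = σ ≫ e ∧
      ∀ {T : Over B} (x : T ⟶ E.X) (_ : T ⟶ Over.mk i₂), ∃ y, y ≫ e = x := by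
  obtain ⟨E, e₁, e₂, he, hm₁, hm₂, hA, hB⟩ := exists_space i₁ i₂ a₂ π₂ σ h₂
  have : Mono e₁ := (Over.forget B).mono_of_mono_map (inferInstanceAs (Mono e₁.left))
  have : Mono e₂ := (Over.forget B).mono_of_mono_map (inferInstanceAs (Mono e₂.left))
  have hov : ∀ {T : Over B} (x : T ⟶ H ⊗ Over.mk i₁) (y : T ⟶ P₂) (g : T ⟶ H), x ≫ e₁ = y ≫ e₂ →
      lift (g * (x ≫ fst _ _)) (x ≫ snd _ _) ≫ e₁ = lift g y ≫ a₂.act ≫ e₂ := fun {T} x y g hxy => by
    let o : T ⟶ Over.mk i₁ ⊗ Over.mk i₂ := lift (x ≫ snd _ _) (y ≫ π₂)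
    have hy : ∀ k : T ⟶ H, lift k o ≫ inc₂ i₁ i₂ a₂ σ ≫ e₂ = lift k (x ≫ snd _ _) ≫ e₁ := fun k => by
      rw [← he]
      simp [inc₁, o]
    have e : y = lift (x ≫ fst _ _) (o ≫ σ) ≫ a₂.act := by
      rw [← cancel_mono e₂, ← hxy]
      have := hy (x ≫ fst _ _)
      rw [show lift (x ≫ fst _ _) (x ≫ snd _ _) = x by rw [← comp_lift, lift_fst_snd, Category.comp_id]] at this
      rw [← this]
      simp [inc₂, comp_lift_assoc]
    rw [← hy, e, ← Category.assoc (lift g _), ← SchTorsor.act_assoc]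
    simp [inc₂, comp_lift_assoc]
  have hext : ∀ {T Y : Over B} {F F' : T ⟶ Y}, fst T (Over.mk i₁) ≫ F = fst T (Over.mk i₁) ≫ F' →
      fst T (Over.mk i₂) ≫ F = fst T (Over.mk i₂) ≫ F' → F = F' := fun h h' => glue_ext i₁ i₂ hcov h h'
  obtain ⟨x₀, hx₀⟩ := hA (fst (H ⊗ E) (Over.mk i₁) ≫ snd H E) (snd _ _)
  obtain ⟨y₀, hy₀⟩ := hB (fst (H ⊗ E) (Over.mk i₂) ≫ snd H E) (snd _ _)
  obtain ⟨act, hact₁, hact₂⟩ := exists_glue i₁ i₂ hcov
    (lift ((fst (H ⊗ E) _ ≫ fst H E) * (x₀ ≫ fst _ _)) (x₀ ≫ snd _ _) ≫ e₁)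
    (lift (fst (H ⊗ E) _ ≫ fst H E) y₀ ≫ a₂.act ≫ e₂) fun w v₁ v₂ => by
      have ex : (lift w v₁ ≫ x₀) ≫ e₁ = (lift w v₂ ≫ y₀) ≫ e₂ := by simp [hx₀, hy₀]
      have := hov _ _ (w ≫ fst H E) ex
      simp only [comp_lift_assoc, MonObj.comp_mul, lift_fst_assoc, Category.assoc] at this ⊢
      exact this
  have pA : ∀ {T : Over B} (g : T ⟶ H) (x : T ⟶ H ⊗ Over.mk i₁),
      lift g (x ≫ e₁) ≫ act = lift (g * (x ≫ fst _ _)) (x ≫ snd _ _) ≫ e₁ := fun {T} g x => by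
    have hx : lift (lift g (x ≫ e₁)) (x ≫ snd _ _) ≫ x₀ = x := by
      rw [← cancel_mono e₁, Category.assoc, hx₀]; simp
    have := congrArg (lift (lift g (x ≫ e₁)) (x ≫ snd _ _) ≫ ·) hact₁
    simp only [lift_fst_assoc, comp_lift_assoc, MonObj.comp_mul, reassoc_of% hx, lift_fst] at this
    exact this
  have pB : ∀ {T : Over B} (g : T ⟶ H) (y : T ⟶ P₂),
      lift g (y ≫ e₂) ≫ act = (lift g y ≫ a₂.act) ≫ e₂ := fun {T} g y => by
    have hy : lift (lift g (y ≫ e₂)) (y ≫ π₂) ≫ y₀ = y := by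
      rw [← cancel_mono e₂, Category.assoc, hy₀]; simp
    have := congrArg (lift (lift g (y ≫ e₂)) (y ≫ π₂) ≫ ·) hact₂
    simp only [lift_fst_assoc, comp_lift_assoc, hy, lift_fst] at this
    rw [Category.assoc]
    exact this
  let b : AlgGrp.Action H E :=
    { act := act
      one_act := AlgGrp.Action.hom_ext_lift₂ fun T v y => by
        have hv : v ≫ η[H] = 1 := by rw [Hom.one_def, toUnit_unique (toUnit T) v]
        rw [lift_whiskerRight_assoc, hv, lift_leftUnitor_hom]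
        refine hext ?_ ?_ <;> rw [comp_lift_assoc, MonObj.comp_one]
        · obtain ⟨x, hx⟩ := hA (fst T (Over.mk i₁) ≫ y) (snd _ _)
          rw [← hx, pA, _root_.one_mul, ← comp_lift, lift_fst_snd, Category.comp_id]
        · obtain ⟨x, hx⟩ := hB (fst T (Over.mk i₂) ≫ y) (snd _ _)
          rw [← hx, pB, SchTorsor.one_act_pt]
      mul_act := AlgGrp.Action.hom_ext_lift₃ fun T g g' y => by
        rw [lift_whiskerRight_assoc, ← Hom.mul_def, lift_lift_associator_hom_assoc, lift_whiskerLeft_assoc]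
        refine hext ?_ ?_ <;> simp only [comp_lift_assoc, MonObj.comp_mul]
        · obtain ⟨x, hx⟩ := hA (fst T (Over.mk i₁) ≫ y) (snd _ _)
          rw [← hx, pA, pA, pA, lift_fst, lift_snd, _root_.mul_assoc]
        · obtain ⟨x, hx⟩ := hB (fst T (Over.mk i₂) ≫ y) (snd _ _)
          rw [← hx, pB, pB, pB, SchTorsor.act_assoc] }
  have hpseudo : NonAbH1.IsPseudoTorsorSch b := by
    refine isPseudoTorsor_of_points b fun T x y => ?_
    obtain ⟨x₁, hx₁⟩ := hA (fst T (Over.mk i₁) ≫ x) (snd _ _)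
    obtain ⟨y₁, hy₁⟩ := hA (fst T (Over.mk i₁) ≫ y) (snd _ _)
    obtain ⟨x₂, hx₂⟩ := hB (fst T (Over.mk i₂) ≫ x) (snd _ _)
    obtain ⟨y₂, hy₂⟩ := hB (fst T (Over.mk i₂) ≫ y) (snd _ _)
    obtain ⟨g₂, hg₂⟩ := SchTorsor.exists_div h₂ x₂ y₂
    let g₁ : T ⊗ Over.mk i₁ ⟶ H := (x₁ ≫ fst _ _) * (y₁ ≫ fst _ _)⁻¹
    have u₁ : ∀ {T' : Over B} (s : T' ⟶ T ⊗ Over.mk i₁) (g : T' ⟶ H),
        lift g (s ≫ fst _ _ ≫ y) ≫ act = s ≫ fst _ _ ≫ x ↔ g = s ≫ g₁ := fun {T'} s g => by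
      rw [← hy₁, ← hx₁, ← Category.assoc s y₁, pA, ← Category.assoc s x₁, cancel_mono]
      constructor
      · intro h
        have := congrArg (· ≫ fst H (Over.mk i₁)) h
        simp only [lift_fst, Category.assoc] at this
        simp [g₁, MonObj.comp_mul, GrpObj.comp_inv, ← this]
      · rintro rfl
        refine CartesianMonoidalCategory.hom_ext _ _ ?_ (sub_unique i₁ _ _)
        simp [g₁, MonObj.comp_mul, GrpObj.comp_inv]
    have u₂ : ∀ {T' : Over B} (s : T' ⟶ T ⊗ Over.mk i₂) (g : T' ⟶ H),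
        lift g (s ≫ fst _ _ ≫ y) ≫ act = s ≫ fst _ _ ≫ x ↔ g = s ≫ g₂ := fun {T'} s g => by
      rw [← hy₂, ← hx₂, ← Category.assoc s y₂, pB, ← Category.assoc s x₂, cancel_mono, ← hg₂,
        comp_lift_assoc]
      constructor
      · intro h
        refine SchTorsor.act_free h₂ (y := s ≫ y₂) ?_
        rw [h]
      · rintro rfl; rfl
    obtain ⟨g, hg₁, hg₂'⟩ := exists_glue i₁ i₂ hcov g₁ g₂ fun w v₁ v₂ => by
      refine (u₂ (lift w v₂) _).1 ?_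
      have := (u₁ (lift w v₁) _).2 rfl
      simpa using this
    refine ⟨g, hext ?_ ?_, fun g' hg' => hext ?_ ?_⟩
    · have := (u₁ (𝟙 _) g₁).2 (Category.id_comp _).symm
      simp only [Category.id_comp] at this
      show _ ≫ lift g y ≫ act = _
      rw [comp_lift_assoc, hg₁, this]
    · have := (u₂ (𝟙 _) g₂).2 (Category.id_comp _).symm
      simp only [Category.id_comp] at this
      show _ ≫ lift g y ≫ act = _
      rw [comp_lift_assoc, hg₂', this]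
    · rw [hg₁]
      have := (u₁ (𝟙 _) (fst T (Over.mk i₁) ≫ g')).1 (by
        simp only [Category.id_comp]
        rw [← hg', comp_lift_assoc])
      rwa [Category.id_comp] at this
    · rw [hg₂']
      have := (u₂ (𝟙 _) (fst T (Over.mk i₂) ≫ g')).1 (by
        simp only [Category.id_comp]
        rw [← hg', comp_lift_assoc])
      rwa [Category.id_comp] at this
  let s₁ : Over.mk i₁ ⟶ E := lift (1 : Over.mk i₁ ⟶ H) (𝟙 _) ≫ e₁
  have hs₁ : fst (Over.mk i₁) (Over.mk i₂) ≫ s₁ = σ ≫ e₂ := by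
    have h0 := congrArg (lift (1 : Over.mk i₁ ⊗ Over.mk i₂ ⟶ H) (𝟙 _) ≫ ·) he
    simp only [inc₁, inc₂, lift_whiskerLeft_assoc, Category.id_comp, comp_lift_assoc, Category.assoc, lift_fst,
      lift_snd_assoc, reassoc_of% SchTorsor.one_act_pt] at h0
    simp only [s₁, comp_lift_assoc, MonObj.comp_one, Category.comp_id]
    exact h0
  refine ⟨⟨E, b, hpseudo, ?_⟩, s₁, e₂, AlgGrp.Action.hom_ext_lift₂ fun T g y => ?_, hs₁, hB⟩
  · obtain ⟨s, hs⟩ := hs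
    let V : ULift.{u} Bool → Scheme.{u} := fun k => match k with
      | ⟨true⟩ => U₁
      | ⟨false⟩ => Z
    let v : ∀ k, V k ⟶ B := fun k => match k with
      | ⟨true⟩ => i₁
      | ⟨false⟩ => p ≫ i₂
    let q : ∐ V ⟶ B := Sigma.desc v
    obtain ⟨hqf, hql⟩ := flat_lfp_sigmaDesc (f := v) fun k => match k with
      | ⟨true⟩ => ⟨inferInstanceAs (Flat i₁), inferInstanceAs (LocallyOfFinitePresentation i₁)⟩
      | ⟨false⟩ => ⟨inferInstanceAs (Flat (p ≫ i₂)), inferInstanceAs (LocallyOfFinitePresentation (p ≫ i₂))⟩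
    have : Flat q := hqf
    have : LocallyOfFinitePresentation q := hql
    have hqs : Surjective q := ⟨fun b => by
      rcases hcov b with ⟨x, hx⟩ | ⟨x, hx⟩
      · exact ⟨Sigma.ι V ⟨true⟩ x, by rw [← Scheme.Hom.comp_apply, Sigma.ι_desc]; exact hx⟩
      · obtain ⟨z, hz⟩ := p.surjective x
        refine ⟨Sigma.ι V ⟨false⟩ z, ?_⟩
        rw [← Scheme.Hom.comp_apply, Sigma.ι_desc]
        show (p ≫ i₂) z = b
        rw [Scheme.Hom.comp_apply, hz, hx]⟩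
    refine ⟨_, q.singleton_mem_fppfPrecoverage, ?_⟩
    rintro S' f hf
    obtain ⟨⟩ := hf
    let sec : ∀ k, V k ⟶ E.left := fun k => match k with
      | ⟨true⟩ => s₁.left
      | ⟨false⟩ => s ≫ e₂.left
    refine ⟨Sigma.desc sec, Sigma.hom_ext _ _ fun k => ?_⟩
    rw [Sigma.ι_desc_assoc, Sigma.ι_desc]
    rcases k with ⟨_ | _⟩
    · show (s ≫ e₂.left) ≫ E.hom = p ≫ i₂
      rw [Category.assoc, Over.w e₂, hs]
    · exact Over.w s₁
  · rw [lift_whiskerLeft_assoc, ← Category.assoc, pB]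

include hcov π₂ σ in
/-- The glued torsor, without the description on the overlap. -/
theorem exists_torsor (h₂ : NonAbH1.IsPseudoTorsorSch a₂) {Z : Scheme.{u}} (p : Z ⟶ U₂) [Surjective p] [Flat p]
    [LocallyOfFinitePresentation p] (hs : NonAbH1.HasSectionOver P₂ (p ≫ i₂)) :
    ∃ (E : NonAbH1.TorsorSch H Scheme.fppfPrecoverage) (_ : Over.mk i₁ ⟶ E.X) (e : P₂ ⟶ E.X),
      a₂.act ≫ e = (H ◁ e) ≫ E.act.act ∧
      ∀ {T : Over B} (x : T ⟶ E.X) (_ : T ⟶ Over.mk i₂), ∃ y, y ≫ e = x := by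
  obtain ⟨E, s₁, e, he, -, hB⟩ := exists_torsor' i₁ i₂ hcov a₂ π₂ σ h₂ p hs
  exact ⟨E, s₁, e, he, hB⟩

end Groth.Agent.NonAbLib.ZariskiGlue
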