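import Groth.Agent.NonAbLib.QuillenTorsor
import Groth.Agent.NonAbLib.ZariskiGlue
import Groth.Agent.IndEtLib.Localization
import Mathlib.RingTheory.Localization.AtPrime.Basic
import Mathlib.RingTheory.Polynomial.Quotient
import Mathlib.Algebra.MvPolynomial.Equiv
import Mathlib.RingTheory.IntegralClosure.IsIntegralClosure.Basic

/-!
# Torsors on the affine line which are trivial locally on the base
-/

universe u

open CategoryTheory CategoryTheory.Limits MonoidalCategory CartesianMonoidalCategory MonObj GrpObj AlgebraicGeometry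
open Opposite

noncomputable section

namespace Groth.Agent.NonAbLib.QuillenLine

set_option backward.isDefEq.respectTransparency.types true in
/-- A point over a localisation extends to a basic open. -/
theorem exists_section_away {A B : Type u} [CommRing A] [CommRing B] [Algebra A B] (M : Submonoid A)
    [IsLocalization M B] {X : Scheme.{u}} (p : X ⟶ Spec (CommRingCat.of A)) [LocallyOfFinitePresentation p]
    (x : Spec (CommRingCat.of B) ⟶ X) (hx : x ≫ p = Spec.map (CommRingCat.ofHom (algebraMap A B))) :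
    ∃ s ∈ M, ∃ y : Spec (CommRingCat.of (Localization.Away s)) ⟶ X,
      y ≫ p = Spec.map (CommRingCat.ofHom (algebraMap A (Localization.Away s))) := by
  obtain ⟨hc⟩ := IndEtLib.nonempty_isColimit_locCocone M B
  have : IsConnected (IndEtLib.LocIdx M) := IsFiltered.isConnected _
  let F : IndEtLib.LocIdx M ⥤ CommRingCat.{u} := IndEtLib.locDiagram M ⋙ Under.forget _
  let D : (IndEtLib.LocIdx M)ᵒᵖ ⥤ Scheme.{u} := F.op ⋙ Scheme.Spec
  let c : Cone D := Scheme.Spec.mapCone ((Under.forget _).mapCocone (IndEtLib.locCocone M B)).op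
  have hlim : IsLimit c := isLimitOfPreserves Scheme.Spec (isColimitOfPreserves (Under.forget _) hc).op
  let t : D ⟶ (Functor.const _).obj (Spec (CommRingCat.of A)) :=
    { app := fun i => Spec.map ((IndEtLib.locDiagram M).obj i.unop).hom
      naturality := fun i j f => by
        show Spec.map _ ≫ Spec.map _ = Spec.map _ ≫ 𝟙 _
        rw [Category.comp_id]
        exact (Spec.map_comp _ _).symm.trans (congrArg Spec.map (Under.w ((IndEtLib.locDiagram M).map f.unop))) }
  have hA : ∀ i, IsAffine (D.obj i) := fun i => isAffine_Spec _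
  have : ∀ {i j : (IndEtLib.LocIdx M)ᵒᵖ} (f : i ⟶ j), IsAffineHom (D.map f) := fun {i j} f => by
    have := hA i
    have := hA j
    infer_instance
  have : ∀ i, CompactSpace (D.obj i) := fun i => inferInstance
  have : ∀ i, QuasiSeparatedSpace (D.obj i) := fun i => inferInstance
  have hπ : ∀ i, c.π.app i ≫ t.app i = x ≫ p := fun i => by
    rw [hx]
    show Spec.map _ ≫ Spec.map _ = _
    exact (Spec.map_comp _ _).symm.trans (congrArg Spec.map (Under.w ((IndEtLib.locCocone M B).ι.app i.unop)))
  obtain ⟨i, y, -, h2⟩ := Scheme.exists_π_app_comp_eq_of_locallyOfFinitePresentation D t p c hlim x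
    (NatTrans.ext (funext fun i => hπ i))
  exact ⟨i.unop.el, Subtype.prop (show M from i.unop), y, h2⟩

variable {R : Type u} [CommRing R]

/-- The projection of the affine line. -/
abbrev line (R : Type u) [CommRing R] : Spec (CommRingCat.of (Polynomial R)) ⟶ Spec (CommRingCat.of R) :=
  Spec.map (CommRingCat.ofHom (algebraMap R (Polynomial R)))

/-- The affine line as a spectrum of a polynomial ring in several variables. -/
def lineIso (R : Type u) [CommRing R] :
    Spec (CommRingCat.of (Polynomial R)) ≅ Spec (CommRingCat.of (MvPolynomial PUnit.{u + 1} R)) :=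
  Scheme.Spec.mapIso ((MvPolynomial.uniqueAlgEquiv R PUnit.{u + 1}).toRingEquiv.toCommRingCatIso).op

theorem lineIso_inv_line : (lineIso R).inv ≫ line R =
    Spec.map (CommRingCat.ofHom (algebraMap R (MvPolynomial PUnit.{u + 1} R))) ≫ 𝟙 _ := by
  rw [Category.comp_id]
  show Spec.map _ ≫ Spec.map _ = _
  rw [← Spec.map_comp]
  congr 1
  exact CommRingCat.hom_ext (MvPolynomial.uniqueAlgEquiv R PUnit.{u + 1}).symm.toAlgHom.comp_algebraMap

variable {G : Over (Spec (CommRingCat.of R))} [GrpObj G]

omit [GrpObj G] in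
/-- A torsor with a section over an open of the base has covariant points there. -/
theorem descOn_of_section {S : Scheme.{u}} {H : Over S} [GrpObj H] (C : QuillenDesc.Setup H) {U : Over S}
    (τ : C.L ⊗ U ⟶ C.X) (hτ : τ ≫ C.π = fst _ _) : C.DescOn U := by
  let q := fst (C.L ⊗ C.Z) U ≫ snd _ _
  let v := snd (C.L ⊗ C.Z) U
  let t := fst (C.L ⊗ C.Z) U ≫ fst _ _
  obtain ⟨g, hg, -⟩ := C.free (q ≫ C.σ) (lift (toUnit _ ≫ C.zero) v ≫ τ) (by
    rw [C.σ_pt, Category.assoc, hτ, lift_fst])
  refine ⟨lift g (lift t v ≫ τ) ≫ C.b.act, by rw [C.act_π, Category.assoc, hτ, lift_fst],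
    fun {T} t' q₀ q₁ v' => ?_⟩
  have hp : ∀ p : T ⟶ C.Z, lift (lift (lift t' p) v' ≫ g) (lift (toUnit T ≫ C.zero) v' ≫ τ) ≫ C.b.act =
      p ≫ C.σ := fun p => by
    have := congrArg (lift (lift t' p) v' ≫ ·) hg
    simp only [comp_lift_assoc, q, v, Category.assoc, lift_fst_assoc, lift_snd_assoc, lift_snd] at this
    rw [← Category.assoc _ (toUnit _) C.zero, toUnit_unique (_ ≫ toUnit _) (toUnit T)] at this
    exact this
  have e : lift (lift t' q₀) v' ≫ g = C.trans q₀ q₁ * (lift (lift t' q₁) v' ≫ g) := by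
    refine (C.free (q₀ ≫ C.σ) (lift (toUnit T ≫ C.zero) v' ≫ τ) ?_).unique (hp q₀) ?_
    · rw [C.σ_pt, Category.assoc, hτ, lift_fst]
    · rw [SchTorsor.act_assoc, hp, C.trans_spec]
  simp only [comp_lift_assoc, t, v, lift_fst_assoc, lift_fst, lift_snd]
  rw [e, SchTorsor.act_assoc]

variable [LocallyOfFinitePresentation G.hom]

/-- The map of affine lines over a localisation at a prime. -/
abbrev lineLoc (m : Ideal R) [m.IsPrime] :
    Spec (CommRingCat.of (Polynomial (Localization.AtPrime m))) ⟶ Spec (CommRingCat.of (Polynomial R)) :=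
  Spec.map (CommRingCat.ofHom (Polynomial.mapRingHom (algebraMap R (Localization.AtPrime m))))

set_option backward.isDefEq.respectTransparency.types false in
/-- A torsor on the line trivial at all maximal ideals comes from a locally trivial torsor on the base. -/
theorem exists_descends (X : NonAbH1.TorsorSch (Red.bc (line R) G) Scheme.fppfPrecoverage)
    (h : ∀ (m : Ideal R) [m.IsMaximal], NonAbH1.HasSectionOver X.X (lineLoc m)) :
    ∃ P : NonAbH1.TorsorSch G Scheme.fppfPrecoverage,
      Nonempty (NonAbH1.EquivIso (P.act.bc (line R)) X.act) ∧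
      ∀ (m : Ideal R) [m.IsMaximal], ∃ r ∉ m,
        NonAbH1.HasSectionOver P.X (Spec.map (CommRingCat.ofHom (algebraMap R (Localization.Away r)))) := by
  let i : Spec (CommRingCat.of R) ⟶ Spec (CommRingCat.of R) := 𝟙 _
  have : LocallyOfFinitePresentation X.X.hom :=
    SchTorsor.torsor_property @LocallyOfFinitePresentation (torsor_mono fppf_le_fpqc X.isTorsor)
      (inferInstanceAs (LocallyOfFinitePresentation (pullback.snd G.hom (line R))))
  have hτ : ∀ (m : Ideal R) [m.IsMaximal], ∃ r ∉ m,
      ∃ τ : Over.mk (line R) ⊗ Over.mk (QuillenTorsor.jLoc i r) ⟶ (Over.map (line R)).obj X.X,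
        τ ≫ Rel.proj (line R) X.X = fst _ _ := fun m _ => by
    obtain ⟨x, hx⟩ := h m
    let : Algebra (Polynomial R) (Polynomial (Localization.AtPrime m)) :=
      (Polynomial.mapRingHom (algebraMap R (Localization.AtPrime m))).toAlgebra
    have : IsLocalization (m.primeCompl.map Polynomial.C) (Polynomial (Localization.AtPrime m)) :=
      Polynomial.isLocalization m.primeCompl (Localization.AtPrime m)
    obtain ⟨_, ⟨r, hr, rfl⟩, y, hy⟩ := exists_section_away (m.primeCompl.map Polynomial.C) X.X.hom x hx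
    refine ⟨r, hr, ?_⟩
    let W := Over.mk (line R) ⊗ Over.mk (QuillenTorsor.jLoc i r)
    let w : W.left ⟶ Spec (CommRingCat.of (Polynomial R)) := (fst (Over.mk (line R)) _).left
    have hle : Set.range ⇑w ⊆ Set.range
        ⇑(Spec.map (CommRingCat.ofHom (algebraMap (Polynomial R) (Localization.Away (Polynomial.C r))))) := by
      rintro _ ⟨z, rfl⟩
      refine (PrimeSpectrum.localization_away_comap_range (Localization.Away (Polynomial.C r)) (Polynomial.C r)).ge ?_
      have hz : (w ≫ line R) z ∈ (PrimeSpectrum.basicOpen r : Set (PrimeSpectrum R)) := by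
        rw [show w ≫ line R = (snd (Over.mk (line R)) (Over.mk (QuillenTorsor.jLoc i r))).left ≫
            QuillenTorsor.jLoc i r from (Over.w (fst (Over.mk (line R)) _)).trans (Over.w (snd _ _)).symm,
          ← PrimeSpectrum.localization_away_comap_range (Localization.Away r) r]
        exact ⟨_, rfl⟩
      exact hz
    have : IsOpenImmersion
        (Spec.map (CommRingCat.ofHom (algebraMap (Polynomial R) (Localization.Away (Polynomial.C r))))) :=
      IsOpenImmersion.of_isLocalization (Polynomial.C r)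
    have hfac : (IsOpenImmersion.lift _ w hle ≫ y) ≫ X.X.hom = w := by
      rw [Category.assoc, hy]
      exact IsOpenImmersion.lift_fac _ _ _
    refine ⟨Over.homMk (IsOpenImmersion.lift _ w hle ≫ y) ?_, Over.OverMorphism.ext hfac⟩
    exact (Category.assoc _ _ _).symm.trans ((congrArg (· ≫ line R) hfac).trans (Over.w (fst (Over.mk (line R)) _)))
  obtain ⟨R', _, _, σ, hσ, hc⟩ := QuillenTorsor.exists_cover i PUnit.{u + 1} (line R) (lineIso R) lineIso_inv_line X
  obtain ⟨P, ⟨e⟩⟩ := QuillenTorsor.exists_global i PUnit.{u + 1} (line R) (lineIso R) lineIso_inv_line X fun s => by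
    obtain ⟨m, hm, hle⟩ := (s : PrimeSpectrum R).asIdeal.exists_le_maximal (s : PrimeSpectrum R).isPrime.ne_top
    obtain ⟨r, hr, τ, hτ'⟩ := hτ m
    have : IsOpenImmersion (Spec.map (CommRingCat.ofHom (algebraMap R (Localization.Away r)))) :=
      IsOpenImmersion.of_isLocalization r
    refine ⟨_, QuillenTorsor.jLoc i r, inferInstanceAs (IsOpenImmersion (_ ≫ i)), ?_,
      QuillenDesc.hasModel_of_descOn (line R) X _ _ _
        (descOn_of_section (QuillenTorsor.setup i PUnit.{u + 1} (line R) (lineIso R) lineIso_inv_line X R' σ hσ hc) τ hτ')⟩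
    have hs : (s : PrimeSpectrum R) ∈ Set.range (PrimeSpectrum.comap (algebraMap R (Localization.Away r))) := by
      rw [PrimeSpectrum.localization_away_comap_range (Localization.Away r) r]
      exact fun hs => hr (hle hs)
    rw [show QuillenTorsor.jLoc i r = Spec.map (CommRingCat.ofHom (algebraMap R (Localization.Away r))) from
      Category.comp_id _]
    exact hs
  refine ⟨P, ⟨e⟩, fun m _ => ?_⟩
  obtain ⟨r, hr, τ, hτ'⟩ := hτ m
  refine ⟨r, hr, ?_⟩
  let v : Over.mk (QuillenTorsor.jLoc i r) ⟶ Over.mk (line R) ⊗ Over.mk (QuillenTorsor.jLoc i r) :=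
    lift (toUnit _ ≫ QuillenDesc.zeroPt (line R) (QuillenTorsor.zero i PUnit.{u + 1} (lineIso R))
      (QuillenTorsor.zero_comp i PUnit.{u + 1} (line R) (lineIso R) lineIso_inv_line)) (𝟙 _)
  let x := v ≫ τ ≫ (Over.map (line R)).map e.iso.inv ≫ Rel.fstBase (line R) P.X
  exact ⟨x.left, (Over.w x).trans (Category.comp_id _)⟩

omit [LocallyOfFinitePresentation G.hom] in
/-- Triviality at a maximal ideal from triviality away from a monic polynomial. -/
theorem section_of_monic
    (hloc : ∀ (m : Ideal R) [m.IsMaximal]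
      (Y : NonAbH1.TorsorSch (Red.bc (Spec.map (CommRingCat.ofHom (algebraMap (Localization.AtPrime m) (Polynomial (Localization.AtPrime m))))) (Red.bc (Spec.map (CommRingCat.ofHom (algebraMap R (Localization.AtPrime m)))) G)) Scheme.fppfPrecoverage),
      (∃ I : Ideal (Polynomial (Localization.AtPrime m)), Module.Finite (Localization.AtPrime m) (Polynomial (Localization.AtPrime m) ⧸ I) ∧
        NonAbH1.HasSectionOver Y.X (Scheme.Opens.ι
          (⟨(PrimeSpectrum.zeroLocus (I : Set (Polynomial (Localization.AtPrime m))))ᶜ,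
            (PrimeSpectrum.isClosed_zeroLocus _).isOpen_compl⟩ : (Spec (CommRingCat.of (Polynomial (Localization.AtPrime m)))).Opens))) →
      NonAbH1.HasSectionOver Y.X (𝟙 (Spec (CommRingCat.of (Polynomial (Localization.AtPrime m))))))
    (E : NonAbH1.TorsorSch (Red.bc (line R) G) Scheme.fppfPrecoverage) (m : Ideal R) [m.IsMaximal]
    (q : Polynomial (Localization.AtPrime m)) (hq : q.Monic)
    (h : NonAbH1.HasSectionOver E.X
      (Spec.map (CommRingCat.ofHom (algebraMap (Polynomial (Localization.AtPrime m)) (Localization.Away q))) ≫ lineLoc m)) :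
    NonAbH1.HasSectionOver E.X (lineLoc m) := by
  let u := Spec.map (CommRingCat.ofHom (algebraMap R (Localization.AtPrime m)))
  let fm := Spec.map (CommRingCat.ofHom (algebraMap (Localization.AtPrime m) (Polynomial (Localization.AtPrime m))))
  have w : lineLoc m ≫ line R = fm ≫ u := by
    show Spec.map _ ≫ Spec.map _ = Spec.map _ ≫ Spec.map _
    rw [← Spec.map_comp, ← Spec.map_comp]
    congr 1
    ext a
    simp
  let Y : NonAbH1.TorsorSch (Red.bc fm (Red.bc u G)) Scheme.fppfPrecoverage :=
    ⟨Red.bc (lineLoc m) E.X, (Rel.bcAct (line R) E.act (lineLoc m) w).restrict (ActBC.bcCompIso fm u G rfl).hom,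
      Rel.isPseudoTorsor_restrict _ (QuillenDesc.torsor_bcAct (line R) E (lineLoc m) w).1,
      (QuillenDesc.torsor_bcAct (line R) E (lineLoc m) w).2⟩
  obtain ⟨s, hs⟩ := h
  let U : (Spec (CommRingCat.of (Polynomial (Localization.AtPrime m)))).Opens :=
    ⟨(PrimeSpectrum.zeroLocus (Ideal.span {q} : Set (Polynomial (Localization.AtPrime m))))ᶜ,
      (PrimeSpectrum.isClosed_zeroLocus _).isOpen_compl⟩
  let jq := Spec.map (CommRingCat.ofHom (algebraMap (Polynomial (Localization.AtPrime m)) (Localization.Away q)))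
  have : IsOpenImmersion jq := IsOpenImmersion.of_isLocalization q
  have hle : Set.range ⇑U.ι ⊆ Set.range ⇑jq := by
    rintro _ ⟨y, rfl⟩
    refine (PrimeSpectrum.localization_away_comap_range (Localization.Away q) q).ge ?_
    intro hy
    refine (Scheme.Opens.range_ι U).le ⟨y, rfl⟩ ?_
    rw [PrimeSpectrum.zeroLocus_span]
    exact Set.singleton_subset_iff.2 hy
  have hU : NonAbH1.HasSectionOver Y.X U.ι := by
    refine ⟨pullback.lift (IsOpenImmersion.lift jq U.ι hle ≫ s) U.ι ?_, pullback.lift_snd _ _ _⟩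
    rw [Category.assoc, hs, IsOpenImmersion.lift_fac_assoc]
  obtain ⟨x, hx⟩ := hloc m Y ⟨Ideal.span {q}, hq.finite_quotient, hU⟩
  refine ⟨x ≫ pullback.fst E.X.hom (lineLoc m), ?_⟩
  rw [Category.assoc, pullback.condition, ← Category.assoc]
  exact (congrArg (· ≫ lineLoc m) hx).trans (Category.id_comp _)

set_option backward.isDefEq.respectTransparency.types false in
set_option maxHeartbeats 1000000 in
/-- Torsors on the line trivial away from a finite closed subscheme are trivial if they are so locally. -/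
theorem trivial_of_local
    (hloc : ∀ (m : Ideal R) [m.IsMaximal]
      (Y : NonAbH1.TorsorSch (Red.bc (Spec.map (CommRingCat.ofHom (algebraMap (Localization.AtPrime m) (Polynomial (Localization.AtPrime m))))) (Red.bc (Spec.map (CommRingCat.ofHom (algebraMap R (Localization.AtPrime m)))) G)) Scheme.fppfPrecoverage),
      (∃ I : Ideal (Polynomial (Localization.AtPrime m)), Module.Finite (Localization.AtPrime m) (Polynomial (Localization.AtPrime m) ⧸ I) ∧
        NonAbH1.HasSectionOver Y.X (Scheme.Opens.ι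
          (⟨(PrimeSpectrum.zeroLocus (I : Set (Polynomial (Localization.AtPrime m))))ᶜ,
            (PrimeSpectrum.isClosed_zeroLocus _).isOpen_compl⟩ : (Spec (CommRingCat.of (Polynomial (Localization.AtPrime m)))).Opens))) →
      NonAbH1.HasSectionOver Y.X (𝟙 (Spec (CommRingCat.of (Polynomial (Localization.AtPrime m))))))
    (X : NonAbH1.TorsorSch (Red.bc (line R) G) Scheme.fppfPrecoverage)
    (I : Ideal (Polynomial R)) (hI : Module.Finite R (Polynomial R ⧸ I))
    (hX : NonAbH1.HasSectionOver X.X (Scheme.Opens.ι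
      (⟨(PrimeSpectrum.zeroLocus (I : Set (Polynomial R)))ᶜ,
        (PrimeSpectrum.isClosed_zeroLocus _).isOpen_compl⟩ : (Spec (CommRingCat.of (Polynomial R))).Opens))) :
    NonAbH1.HasSectionOver X.X (𝟙 (Spec (CommRingCat.of (Polynomial R)))) := by
  let U : (Spec (CommRingCat.of (Polynomial R))).Opens :=
    ⟨(PrimeSpectrum.zeroLocus (I : Set (Polynomial R)))ᶜ, (PrimeSpectrum.isClosed_zeroLocus _).isOpen_compl⟩
  obtain ⟨f₀, hf₀, hf₀I⟩ : ∃ f₀ : Polynomial R, f₀.Monic ∧ f₀ ∈ I := by
    obtain ⟨p, hp, hp0⟩ := IsIntegral.of_finite R (Ideal.Quotient.mkₐ R I Polynomial.X)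
    refine ⟨p, hp, Ideal.Quotient.eq_zero_iff_mem.1 ?_⟩
    have : (Ideal.Quotient.mkₐ R I) p = 0 := by
      rw [← Polynomial.aeval_X_left_apply p, ← Polynomial.aeval_algHom_apply]
      exact hp0
    exact this
  obtain ⟨sX, hsX⟩ := hX
  -- points over the complement of the zero locus of the monic polynomial
  have hsec : ∀ {T : Scheme.{u}} (w : T ⟶ Spec (CommRingCat.of (Polynomial R))),
      (∀ y : T, f₀ ∉ (w y).asIdeal) → NonAbH1.HasSectionOver X.X w := fun {T} w hw => by
    have hle : Set.range ⇑w ⊆ Set.range ⇑U.ι := by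
      rw [Scheme.Opens.range_ι U]
      rintro _ ⟨y, rfl⟩ hy
      exact hw y (hy hf₀I)
    refine ⟨IsOpenImmersion.lift U.ι w hle ≫ sX, ?_⟩
    rw [Category.assoc, hsX, IsOpenImmersion.lift_fac]
  -- the torsor comes from the base
  obtain ⟨P, ⟨e⟩, hP⟩ := exists_descends X fun m _ => by
    refine section_of_monic hloc X m _ (hf₀.map (algebraMap R (Localization.AtPrime m))) (hsec _ fun y hy => ?_)
    have hy' : (Spec.map (CommRingCat.ofHom (algebraMap (Polynomial (Localization.AtPrime m))
        (Localization.Away (f₀.map (algebraMap R (Localization.AtPrime m))))))) y ∈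
        Set.range (PrimeSpectrum.comap (algebraMap (Polynomial (Localization.AtPrime m))
        (Localization.Away (f₀.map (algebraMap R (Localization.AtPrime m)))))) := ⟨y, rfl⟩
    rw [PrimeSpectrum.localization_away_comap_range (Localization.Away (f₀.map (algebraMap R (Localization.AtPrime m))))
      (f₀.map (algebraMap R (Localization.AtPrime m)))] at hy'
    exact hy' hy
  -- the two charts of the other line
  let g := f₀.reverse
  let i₁ := Spec.map (CommRingCat.ofHom (algebraMap (Polynomial R) (Localization.Away g)))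
  let i₂ := Spec.map (CommRingCat.ofHom (algebraMap (Polynomial R) (Localization.Away (Polynomial.X : Polynomial R))))
  have : IsOpenImmersion i₁ := IsOpenImmersion.of_isLocalization g
  have : IsOpenImmersion i₂ := IsOpenImmersion.of_isLocalization (Polynomial.X : Polynomial R)
  have hr₁ : Set.range ⇑i₁ = (PrimeSpectrum.basicOpen g : Set (PrimeSpectrum (Polynomial R))) :=
    PrimeSpectrum.localization_away_comap_range (Localization.Away g) g
  have hr₂ : Set.range ⇑i₂ = (PrimeSpectrum.basicOpen (Polynomial.X : Polynomial R) : Set (PrimeSpectrum (Polynomial R))) :=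
    PrimeSpectrum.localization_away_comap_range (Localization.Away (Polynomial.X : Polynomial R)) Polynomial.X
  have hg0 : g.coeff 0 = 1 := by rw [Polynomial.coeff_zero_reverse]; exact hf₀
  have hcov : ∀ b : Spec (CommRingCat.of (Polynomial R)), b ∈ Set.range ⇑i₁ ∨ b ∈ Set.range ⇑i₂ := fun b => by
    rw [hr₁, hr₂]
    refine or_iff_not_imp_left.2 fun h h' => b.isPrime.ne_top (Ideal.eq_top_iff_one _ |>.2 ?_)
    have h1 : (1 : Polynomial R) = g - Polynomial.X * g.divX := by
      conv_rhs => arg 1; rw [← Polynomial.X_mul_divX_add g, hg0, map_one]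
      ring
    rw [h1]
    exact sub_mem (not_not.1 h) (Ideal.mul_mem_right _ _ h')
  let d₂ := i₂ ≫ line R
  let P₂ := (Over.map i₂).obj (Red.bc d₂ P.X)
  let a₂ : AlgGrp.Action (Red.bc (line R) G) P₂ :=
    Rel.action i₂ ((P.act.bc d₂).restrict (ActBC.bcCompIso i₂ (line R) G rfl).hom)
  have h₂ : NonAbH1.IsPseudoTorsorSch a₂ := isPseudoTorsor_of_points a₂ fun T y y' =>
    Rel.free i₂ _ (Rel.isPseudoTorsor_restrict _ (NonAbH1.isPseudoTorsorSch_bc d₂ P.isTorsor.1)) y y'
      (ZariskiGlue.sub_unique i₂ _ _)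
  obtain ⟨Z, p, hps, hpf, hpl, sp, hsp⟩ := exists_single_fppf (P.bc d₂).isTorsor.2
  have hZ : NonAbH1.HasSectionOver P₂ (p ≫ i₂) :=
    ⟨sp, (Category.assoc _ _ _).symm.trans (congrArg (· ≫ i₂) hsp)⟩
  -- the transition
  have hσ : Nonempty (Over.mk i₁ ⊗ Over.mk i₂ ⟶ P₂) := by
    let W := Over.mk i₁ ⊗ Over.mk i₂
    let K := Localization.Away (g * Polynomial.X)
    let jK := Spec.map (CommRingCat.ofHom (algebraMap (Polynomial R) K))
    have : IsOpenImmersion jK := IsOpenImmersion.of_isLocalization (g * Polynomial.X)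
    have hle : Set.range ⇑W.hom ⊆ Set.range ⇑jK := by
      rintro _ ⟨y, rfl⟩
      refine (PrimeSpectrum.localization_away_comap_range K (g * Polynomial.X)).ge ?_
      have e1 : W.hom y ∈ Set.range ⇑i₁ :=
        ⟨(fst (Over.mk i₁) (Over.mk i₂)).left y, congrArg (fun t : W.left ⟶ _ => t y) (Over.w (fst (Over.mk i₁) (Over.mk i₂)))⟩
      have e2 : W.hom y ∈ Set.range ⇑i₂ :=
        ⟨(snd (Over.mk i₁) (Over.mk i₂)).left y, congrArg (fun t : W.left ⟶ _ => t y) (Over.w (snd (Over.mk i₁) (Over.mk i₂)))⟩
      rw [hr₁] at e1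
      rw [hr₂] at e2
      rw [PrimeSpectrum.basicOpen_mul]
      exact ⟨e1, e2⟩
    let k := IsOpenImmersion.lift jK W.hom hle
    have hu : IsUnit (algebraMap (Polynomial R) K (g * Polynomial.X)) :=
      IsLocalization.Away.algebraMap_isUnit (g * Polynomial.X)
    rw [map_mul, IsUnit.mul_iff] at hu
    let χ : R →+* K := (algebraMap (Polynomial R) K).comp Polynomial.C
    let θ : Polynomial R →+* K := Polynomial.eval₂RingHom χ (↑hu.2.unit⁻¹)
    have hθ : IsUnit (θ f₀) := by
      let : Invertible (↑hu.2.unit⁻¹ : K) := hu.2.unit⁻¹.invertible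
      have e1 := Polynomial.eval₂_reverse_mul_pow χ (↑hu.2.unit⁻¹ : K) f₀
      have e2 : ⅟(↑hu.2.unit⁻¹ : K) = algebraMap (Polynomial R) K Polynomial.X :=
        invOf_eq_right_inv hu.2.val_inv_mul
      have e3 : Polynomial.eval₂ χ (algebraMap (Polynomial R) K Polynomial.X) g = algebraMap (Polynomial R) K g := by
        rw [← Polynomial.hom_eval₂, Polynomial.eval₂_C_X]
      rw [e2, e3] at e1
      show IsUnit (Polynomial.eval₂ χ _ f₀)
      rw [← e1]
      exact hu.1.mul ((Units.isUnit _).pow _)
    obtain ⟨x, hx⟩ := hsec (k ≫ Spec.map (CommRingCat.ofHom θ)) fun y hy =>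
      (k y : PrimeSpectrum K).isPrime.ne_top (Ideal.eq_top_of_isUnit_mem _ hy hθ)
    have hk : (k ≫ Spec.map (CommRingCat.ofHom θ)) ≫ line R = W.hom ≫ line R := by
      conv_rhs => rw [← IsOpenImmersion.lift_fac jK W.hom hle]
      rw [Category.assoc, Category.assoc]
      congr 1
      show Spec.map _ ≫ Spec.map _ = Spec.map _ ≫ Spec.map _
      rw [← Spec.map_comp, ← Spec.map_comp]
      congr 1
      ext a
      simp [θ, χ]
    let z := x ≫ e.iso.inv.left
    have hz : (z ≫ pullback.fst P.X.hom (line R)) ≫ P.X.hom = (snd (Over.mk i₁) (Over.mk i₂)).left ≫ d₂ := by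
      rw [Category.assoc, pullback.condition, ← Category.assoc]
      refine (congrArg (· ≫ line R) ((Category.assoc x _ _).trans ((congrArg (x ≫ ·) (Over.w e.iso.inv)).trans hx))).trans
        (hk.trans ?_)
      rw [← Over.w (snd (Over.mk i₁) (Over.mk i₂))]
      exact Category.assoc _ _ _
    exact ⟨Over.homMk (pullback.lift _ _ hz)
      (((Category.assoc _ _ _).symm.trans (congrArg (· ≫ i₂) (pullback.lift_snd _ _ hz))).trans
        (Over.w (snd (Over.mk i₁) (Over.mk i₂))))⟩
  obtain ⟨σ⟩ := hσ
  obtain ⟨E, s₁, e₂, -, hB⟩ := ZariskiGlue.exists_torsor i₁ i₂ hcov a₂ (Rel.proj i₂ _) σ h₂ p hZ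
  -- the glued torsor comes from the base
  obtain ⟨P', ⟨e'⟩, -⟩ := exists_descends E fun m _ => by
    refine section_of_monic hloc E m Polynomial.X Polynomial.monic_X ?_
    let jX := Spec.map (CommRingCat.ofHom (algebraMap (Polynomial (Localization.AtPrime m))
      (Localization.Away (Polynomial.X : Polynomial (Localization.AtPrime m)))))
    let φT := jX ≫ lineLoc m
    have hle : Set.range ⇑φT ⊆ Set.range ⇑i₂ := by
      rw [hr₂]
      rintro _ ⟨y, rfl⟩ hy
      have hy' : jX y ∈ Set.range (PrimeSpectrum.comap (algebraMap (Polynomial (Localization.AtPrime m))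
          (Localization.Away (Polynomial.X : Polynomial (Localization.AtPrime m))))) := ⟨y, rfl⟩
      rw [PrimeSpectrum.localization_away_comap_range (Localization.Away (Polynomial.X : Polynomial (Localization.AtPrime m)))
        (Polynomial.X : Polynomial (Localization.AtPrime m))] at hy'
      refine hy' ?_
      have : (Polynomial.mapRingHom (algebraMap R (Localization.AtPrime m))) Polynomial.X ∈ (jX y).asIdeal := hy
      rwa [Polynomial.coe_mapRingHom, Polynomial.map_X] at this
    let v := IsOpenImmersion.lift i₂ φT hle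
    obtain ⟨r, hr, sP, hsP⟩ := hP m
    have hur : IsUnit (algebraMap R (Localization.AtPrime m) r) :=
      IsLocalization.map_units (Localization.AtPrime m) (⟨r, hr⟩ : m.primeCompl)
    let β : Localization.Away r →+* Localization.AtPrime m := IsLocalization.Away.lift r hur
    let z := jX ≫ Spec.map (CommRingCat.ofHom (algebraMap (Localization.AtPrime m) (Polynomial (Localization.AtPrime m)))) ≫
      Spec.map (CommRingCat.ofHom β) ≫ sP
    have hz : z ≫ P.X.hom = v ≫ d₂ := by
      show _ = v ≫ i₂ ≫ line R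
      rw [IsOpenImmersion.lift_fac_assoc]
      simp only [z, φT, Category.assoc, hsP]
      congr 1
      rw [← Spec.map_comp, ← CommRingCat.ofHom_comp, IsLocalization.Away.lift_comp, ← Spec.map_comp,
        ← CommRingCat.ofHom_comp, ← Spec.map_comp]
      congr 1
      ext a
      simp
    exact ⟨pullback.lift z v hz ≫ e₂.left, (Category.assoc _ _ _).trans ((congrArg (_ ≫ ·) (Over.w e₂)).trans
      ((Category.assoc _ _ _).symm.trans ((congrArg (· ≫ i₂) (pullback.lift_snd z v hz)).trans
        (IsOpenImmersion.lift_fac _ _ _))))⟩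
  -- a global section of the glued torsor
  have hgu : IsUnit (Polynomial.evalRingHom (0 : R) g) := by
    rw [Polynomial.coe_evalRingHom, ← Polynomial.coeff_zero_eq_eval_zero, hg0]
    exact isUnit_one
  let ev₀ : Localization.Away g →+* R := IsLocalization.Away.lift g hgu
  let p' := ((Spec.map (CommRingCat.ofHom ev₀) ≫ s₁.left) ≫ e'.iso.inv.left) ≫ pullback.fst P'.X.hom (line R)
  have hp' : p' ≫ P'.X.hom = 𝟙 _ := by
    simp only [p', Category.assoc, pullback.condition]
    rw [← Category.assoc e'.iso.inv.left, show e'.iso.inv.left ≫ pullback.snd P'.X.hom (line R) = E.X.hom from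
      Over.w e'.iso.inv, ← Category.assoc s₁.left, show s₁.left ≫ E.X.hom = i₁ from Over.w s₁,
      ← Spec.map_comp, ← Spec.map_comp, ← CommRingCat.ofHom_comp, ← CommRingCat.ofHom_comp, ← RingHom.comp_assoc,
      IsLocalization.Away.lift_comp, show (Polynomial.evalRingHom (0 : R)).comp (algebraMap R (Polynomial R)) =
        RingHom.id R from RingHom.ext fun a => by simp, CommRingCat.ofHom_id, Spec.map_id]
  let τE := pullback.lift (line R ≫ p') (𝟙 _) (by rw [Category.assoc, hp', Category.comp_id, Category.id_comp]) ≫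
    e'.iso.hom.left
  have hτE : τE ≫ E.X.hom = 𝟙 _ :=
    (Category.assoc _ _ _).trans ((congrArg (_ ≫ ·) (Over.w e'.iso.hom)).trans (pullback.lift_snd _ _ _))
  -- at one it gives a section on the base
  let ev₁ := Spec.map (CommRingCat.ofHom (Polynomial.evalRingHom (1 : R)))
  have hle1 : Set.range ⇑ev₁ ⊆ Set.range ⇑i₂ := by
    rw [hr₂]
    rintro _ ⟨y, rfl⟩ hy
    refine (y : PrimeSpectrum R).isPrime.ne_top (Ideal.eq_top_of_isUnit_mem _ hy ?_)
    simp
  let T : Over (Spec (CommRingCat.of (Polynomial R))) := Over.mk ev₁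
  obtain ⟨y, hy⟩ := hB (T := T) (Over.homMk (ev₁ ≫ τE) (by
      show (ev₁ ≫ τE) ≫ E.X.hom = ev₁
      rw [Category.assoc, hτE, Category.comp_id]))
    (Over.homMk (IsOpenImmersion.lift i₂ ev₁ hle1) (IsOpenImmersion.lift_fac _ _ _))
  let pp : Spec (CommRingCat.of R) ⟶ P.X.left := y.left ≫ pullback.fst P.X.hom d₂
  have hpp : pp ≫ P.X.hom = 𝟙 _ := by
    show (y.left ≫ pullback.fst P.X.hom d₂) ≫ P.X.hom = _
    rw [Category.assoc, pullback.condition]
    refine ((congrArg (y.left ≫ ·) (Category.assoc _ _ _).symm).trans (Category.assoc _ _ _).symm).trans ?_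
    refine (congrArg (· ≫ line R) (Over.w y)).trans ?_
    show Spec.map _ ≫ Spec.map _ = _
    rw [← Spec.map_comp, ← CommRingCat.ofHom_comp, show (Polynomial.evalRingHom (1 : R)).comp
      (algebraMap R (Polynomial R)) = RingHom.id R from RingHom.ext fun a => by simp, CommRingCat.ofHom_id, Spec.map_id]
  exact ⟨pullback.lift (line R ≫ pp) (𝟙 _) (by rw [Category.assoc, hpp, Category.comp_id, Category.id_comp]) ≫
    e.iso.hom.left, (Category.assoc _ _ _).trans ((congrArg (_ ≫ ·) (Over.w e.iso.hom)).trans (pullback.lift_snd _ _ _))⟩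

end Groth.Agent.NonAbLib.QuillenLine
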