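import Groth.Agent.QuillenLib.Patch
import Groth.Agent.NonAbLib.TorsorSch

/-!
# Patching of scaled points subject to a cocycle condition
-/

universe u

open CategoryTheory Limits AlgebraicGeometry Opposite Polynomial MonObj
open Groth.Agent.QuillenLib

noncomputable section

namespace Groth.Agent.NonAbLib.Quillen

variable {R : Type u} [CommRing R]

section algebra

variable {P Q : Type u} [CommRing P] [CommRing Q] [Algebra R P] [Algebra R Q]

/-- The scaling of the variable by an element of the algebra. -/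
def sc (R : Type u) {P : Type u} [CommRing R] [CommRing P] [Algebra R P] (c : P) : P[X] →ₐ[R] P[X] :=
  (Polynomial.aeval (R := P) (C c * X)).restrictScalars R

/-- Evaluation of the variable at one. -/
def ev1 (R P : Type u) [CommRing R] [CommRing P] [Algebra R P] : P[X] →ₐ[R] P :=
  (Polynomial.aeval (R := P) (1 : P)).restrictScalars R

theorem sc_map (φ : P →ₐ[R] Q) (c : P) : (mapAlgHom φ).comp (sc R c) = (sc R (φ c)).comp (mapAlgHom φ) :=
  polyHom_ext (fun a => by simp [sc]) (by simp [sc])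

theorem ev0_sc (c : P) : (ev0 R P).comp (sc R c) = ev0 R P :=
  polyHom_ext (fun a => by simp [sc, ev0]) (by simp [sc, ev0])

theorem scale_eq_sc (c : R) : scale R (P := P) c = sc R (algebraMap R P c) := rfl

theorem sc_sc (c d : P) : (sc R c).comp (sc R d) = sc R (c * d) :=
  polyHom_ext (fun a => by simp [sc]) (by simp [sc, map_mul]; ring)

theorem sc_one : sc R (1 : P) = AlgHom.id R P[X] :=
  polyHom_ext (fun a => by simp [sc]) (by simp [sc])

theorem ev1_map (φ : P →ₐ[R] Q) : (ev1 R Q).comp (mapAlgHom φ) = φ.comp (ev1 R P) :=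
  polyHom_ext (fun a => by simp [ev1]) (by simp [ev1])

theorem lin_map (φ : P →ₐ[R] Q) (c : R) :
    (mapAlgHom (mapAlgHom (mapAlgHom φ))).comp (lin R P c) = (lin R Q c).comp (mapAlgHom φ) :=
  polyHom_ext (P := P) (Q := Q[X][X][X]) (fun a => by simp [lin]) (by simp [lin, φ.commutes])

end algebra

variable {G : Over (Spec (CommRingCat.of R))} [GrpObj G]

variable (G) in
/-- Two maps of algebras together with a point of the group with values in the target. -/
structure PairAlg where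
  /-- the source -/
  A : Type u
  /-- the target -/
  A₂ : Type u
  [ringA : CommRing A]
  [algA : Algebra R A]
  [ringA₂ : CommRing A₂]
  [algA₂ : Algebra R A₂]
  /-- the first map -/
  j₀ : A →ₐ[R] A₂
  /-- the second map -/
  j₁ : A →ₐ[R] A₂
  /-- the twisting point -/
  δ : O R A₂ ⟶ G

attribute [instance] PairAlg.ringA PairAlg.algA PairAlg.ringA₂ PairAlg.algA₂

variable {P P' : PairAlg G}

/-- The condition on points of the group. -/
def PairAlg.Cond (P : PairAlg G) (g : O R P.A ⟶ G) : Prop :=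
  (om P.j₀ ≫ g) * P.δ = P.δ * (om P.j₁ ≫ g)

/-- Adjoining a variable. -/
@[reducible] def PairAlg.poly (P : PairAlg G) : PairAlg G where
  A := P.A[X]
  A₂ := P.A₂[X]
  j₀ := mapAlgHom P.j₀
  j₁ := mapAlgHom P.j₁
  δ := om (cst R P.A₂) ≫ P.δ

/-- Morphisms of pairs. -/
structure PairHom (P P' : PairAlg G) where
  /-- on the sources -/
  φ : P.A →ₐ[R] P'.A
  /-- on the targets -/
  φ₂ : P.A₂ →ₐ[R] P'.A₂
  comm₀ : φ₂.comp P.j₀ = P'.j₀.comp φ
  comm₁ : φ₂.comp P.j₁ = P'.j₁.comp φ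
  δ_eq : om φ₂ ≫ P.δ = P'.δ

/-- Adjoining a variable to a morphism of pairs. -/
def PairHom.poly (f : PairHom P P') : PairHom P.poly P'.poly where
  φ := mapAlgHom f.φ
  φ₂ := mapAlgHom f.φ₂
  comm₀ := polyHom_ext (P := P.A) (Q := P'.A₂[X]) (fun a => by simpa using DFunLike.congr_fun f.comm₀ a) (by simp)
  comm₁ := polyHom_ext (P := P.A) (Q := P'.A₂[X]) (fun a => by simpa using DFunLike.congr_fun f.comm₁ a) (by simp)
  δ_eq := by
    show om (mapAlgHom f.φ₂) ≫ om (cst R P.A₂) ≫ P.δ = om (cst R P'.A₂) ≫ P'.δ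
    rw [← Category.assoc, ← om_comp, map_comp_cst, om_comp, Category.assoc, f.δ_eq]

theorem PairHom.map_cond (f : PairHom P P') {g : O R P.A ⟶ G} (hg : P.Cond g) : P'.Cond (om f.φ ≫ g) := by
  unfold PairAlg.Cond at hg ⊢
  rw [← Category.assoc, ← Category.assoc, ← om_comp, ← om_comp, ← f.comm₀, ← f.comm₁, om_comp, om_comp,
    Category.assoc, Category.assoc, ← f.δ_eq, ← MonObj.comp_mul, ← MonObj.comp_mul, hg]

theorem PairAlg.Cond.mul {g g' : O R P.A ⟶ G} (h : P.Cond g) (h' : P.Cond g') : P.Cond (g * g') := by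
  unfold PairAlg.Cond at h h' ⊢
  rw [MonObj.comp_mul, MonObj.comp_mul, _root_.mul_assoc, h', ← _root_.mul_assoc, h, _root_.mul_assoc]

theorem PairAlg.Cond.inv {g : O R P.A ⟶ G} (h : P.Cond g) : P.Cond g⁻¹ := by
  unfold PairAlg.Cond at h ⊢
  rw [GrpObj.comp_inv, GrpObj.comp_inv, inv_mul_eq_iff_eq_mul, ← _root_.mul_assoc, h, mul_inv_cancel_right]

/-- Composition of morphisms of pairs. -/
def PairHom.comp {P'' : PairAlg G} (f : PairHom P P') (k : PairHom P' P'') : PairHom P P'' where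
  φ := k.φ.comp f.φ
  φ₂ := k.φ₂.comp f.φ₂
  comm₀ := by rw [AlgHom.comp_assoc, f.comm₀, ← AlgHom.comp_assoc, k.comm₀, AlgHom.comp_assoc]
  comm₁ := by rw [AlgHom.comp_assoc, f.comm₁, ← AlgHom.comp_assoc, k.comm₁, AlgHom.comp_assoc]
  δ_eq := by rw [om_comp, Category.assoc, f.δ_eq, k.δ_eq]

/-- Setting the variable to zero. -/
def PairAlg.evHom0 (P : PairAlg G) : PairHom P.poly P where
  φ := ev0 R P.A
  φ₂ := ev0 R P.A₂
  comm₀ := ev0_comp_map _
  comm₁ := ev0_comp_map _
  δ_eq := by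
    show om (ev0 R P.A₂) ≫ om (cst R P.A₂) ≫ _ = _
    rw [← Category.assoc, ← om_comp, ev0_comp_cst, om_id, Category.id_comp]

/-- Setting the variable to one. -/
def PairAlg.evHom1 (P : PairAlg G) : PairHom P.poly P where
  φ := ev1 R P.A
  φ₂ := ev1 R P.A₂
  comm₀ := ev1_map _
  comm₁ := ev1_map _
  δ_eq := by
    show om (ev1 R P.A₂) ≫ om (cst R P.A₂) ≫ _ = _
    rw [← Category.assoc, ← om_comp, show (ev1 R P.A₂).comp (cst R P.A₂) = AlgHom.id R _ from
      AlgHom.ext fun a => by simp [ev1, cst], om_id, Category.id_comp]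

/-- The constants. -/
def PairAlg.cstHom (P : PairAlg G) : PairHom P P.poly where
  φ := cst R P.A
  φ₂ := cst R P.A₂
  comm₀ := (map_comp_cst _).symm
  comm₁ := (map_comp_cst _).symm
  δ_eq := rfl

/-- The scaling of the variable as an endomorphism of the pair with a variable. -/
def scaleHom (P : PairAlg G) (c : R) : PairHom P.poly P.poly where
  φ := scale R (P := P.A) c
  φ₂ := scale R (P := P.A₂) c
  comm₀ := (AlgHom.ext fun p => (scale_map P.j₀ c p))
  comm₁ := (AlgHom.ext fun p => (scale_map P.j₁ c p))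
  δ_eq := by
    show om (scale R (P := P.A₂) c) ≫ om (cst R P.A₂) ≫ P.δ = om (cst R P.A₂) ≫ P.δ
    rw [← Category.assoc, ← om_comp, show (scale R c).comp (cst R P.A₂) = cst R P.A₂ from
      AlgHom.ext fun a => by simp [scale, cst]]

/-- The scaling by an element. -/
def scHom (P : PairAlg G) (c : P.A) (c₂ : P.A₂) (h₀ : P.j₀ c = c₂) (h₁ : P.j₁ c = c₂) : PairHom P.poly P.poly where
  φ := sc R c
  φ₂ := sc R c₂
  comm₀ := by rw [← h₀]; exact (sc_map P.j₀ c).symm
  comm₁ := by rw [← h₁]; exact (sc_map P.j₁ c).symm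
  δ_eq := by
    show om (sc R c₂) ≫ om (cst R P.A₂) ≫ P.δ = om (cst R P.A₂) ≫ P.δ
    rw [← Category.assoc, ← om_comp, show (sc R c₂).comp (cst R P.A₂) = cst R P.A₂ from
      AlgHom.ext fun a => by simp [sc, cst]]

/-- The linear substitution. -/
def linHom (P : PairAlg G) (c : R) : PairHom P.poly P.poly.poly.poly where
  φ := lin R P.A c
  φ₂ := lin R P.A₂ c
  comm₀ := (lin_map P.j₀ c).symm
  comm₁ := (lin_map P.j₁ c).symm
  δ_eq := by
    show om (lin R P.A₂ c) ≫ om (cst R P.A₂) ≫ P.δ =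
      om (cst R P.A₂[X][X]) ≫ om (cst R P.A₂[X]) ≫ om (cst R P.A₂) ≫ P.δ
    simp only [← Category.assoc, ← om_comp]
    rw [show (lin R P.A₂ c).comp (cst R P.A₂) = (cst R P.A₂[X][X]).comp ((cst R P.A₂[X]).comp (cst R P.A₂)) from
      AlgHom.ext fun a => by simp [lin, cst]]

/-- The specialisation of the parameters. -/
def specHom (P : PairAlg G) (cu cv : R) : PairHom P.poly.poly.poly P.poly where
  φ := spec R P.A cu cv
  φ₂ := spec R P.A₂ cu cv
  comm₀ := spec_map P.j₀ cu cv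
  comm₁ := spec_map P.j₁ cu cv
  δ_eq := by
    show om (spec R P.A₂ cu cv) ≫ om (cst R P.A₂[X][X]) ≫ om (cst R P.A₂[X]) ≫ om (cst R P.A₂) ≫ P.δ =
      om (cst R P.A₂) ≫ P.δ
    simp only [← Category.assoc, ← om_comp]
    rw [show (spec R P.A₂ cu cv).comp ((cst R P.A₂[X][X]).comp ((cst R P.A₂[X]).comp (cst R P.A₂))) = cst R P.A₂ from
      AlgHom.ext fun a => by simp [spec, cst]]

variable [LocallyOfFinitePresentation G.hom]

set_option maxHeartbeats 800000 in
/-- Points agreeing over the localisation and at zero agree after scaling. -/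
theorem exists_scale_eq {A B : Type u} [CommRing A] [CommRing B] [Algebra R A] [Algebra R B] {φ : A →ₐ[R] B}
    {r : R} (h : IsLocAt φ r) (g g' : O R A[X] ⟶ G) (h1 : om (mapAlgHom φ) ≫ g = om (mapAlgHom φ) ≫ g')
    (h0 : om (ev0 R A) ≫ g = om (ev0 R A) ≫ g') :
    ∃ N : ℕ, om (scale R (r ^ N)) ≫ g = om (scale R (r ^ N)) ≫ g' := by
  let D : Idx.{u}ᵒᵖ ⥤ Scheme.{u} := (sysF A r).op ⋙ Scheme.Spec
  let c : Cone D := Scheme.Spec.mapCone (stageCocone h).op
  have hc : IsLimit c := isLimitOfPreserves Scheme.Spec (stageColimit h).op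
  let t : D ⟶ (Functor.const _).obj (Spec (CommRingCat.of R)) :=
    { app := fun i => Spec.map (CommRingCat.ofHom (algebraMap R A[X]))
      naturality := fun i j f => by
        show Spec.map _ ≫ Spec.map _ = Spec.map _ ≫ 𝟙 _
        rw [Category.comp_id]
        erw [← Spec.map_comp]
        congr 1
        refine CommRingCat.hom_ext (RingHom.ext fun c => ?_)
        exact (scale R (P := A) _).commutes c }
  have : ∀ {i j : Idx.{u}ᵒᵖ} (f : i ⟶ j), IsAffineHom (D.map f) := fun {i j} f =>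
    inferInstanceAs (IsAffineHom (Spec.map _))
  have : ∀ i, CompactSpace (D.obj i) := fun i => inferInstanceAs (CompactSpace (Spec _))
  have : LocallyOfFiniteType G.hom := inferInstance
  let i₀ : Idx.{u}ᵒᵖ := op ⟨0⟩
  let γ : D.obj i₀ ⟶ G.left := g.left
  let γ' : D.obj i₀ ⟶ G.left := g'.left
  have hγ : t.app i₀ = γ ≫ G.hom := (Over.w g).symm
  have hγ' : t.app i₀ = γ' ≫ G.hom := (Over.w g').symm
  have hlim : c.π.app i₀ ≫ γ = c.π.app i₀ ≫ γ' := by
    show Spec.map (CommRingCat.ofHom (stage h 0)) ≫ g.left = Spec.map (CommRingCat.ofHom (stage h 0)) ≫ g'.left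
    refine hom_ext_pair (toB (ev0 R B).toRingHom φ.toRingHom) (toA (ev0 R B).toRingHom φ.toRingHom)
      (fun z h1 h2 => pinch_ext _ _ (h1.trans (map_zero _).symm) (h2.trans (map_zero _).symm))
      (pinch_surjective _ _ (fun b => ⟨C b, by simp [ev0]⟩)) _ _ ?_ ?_
    · rw [← Category.assoc, ← Category.assoc, ← specMap_comp,
        show (toB (ev0 R B).toRingHom φ.toRingHom).comp (stage h 0) = (h.down 0).toRingHom.comp (mapAlgHom φ).toRingHom
          from RingHom.ext fun p => toB_stage h 0 p, specMap_comp, Category.assoc, Category.assoc]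
      exact congrArg (_ ≫ ·) (congrArg (fun m => m.left) h1)
    · rw [← Category.assoc, ← Category.assoc, ← specMap_comp,
        show (toA (ev0 R B).toRingHom φ.toRingHom).comp (stage h 0) = (ev0 R A).toRingHom
          from RingHom.ext fun p => toA_stage h 0 p]
      exact congrArg (fun m => m.left) h0
  obtain ⟨j, hji, hji', e⟩ := Scheme.exists_hom_hom_comp_eq_comp_of_locallyOfFiniteType D t G.hom c hc γ hγ γ' hγ' hlim
  obtain rfl : hji = hji' := Subsingleton.elim _ _
  refine ⟨j.unop.down, Over.OverMorphism.ext ?_⟩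
  exact e

/-- A localisation in both algebras of a pair. -/
structure PairHom.IsLocAt (f : PairHom P P') (r : R) : Prop where
  src : QuillenLib.IsLocAt f.φ r
  tgt : QuillenLib.IsLocAt f.φ₂ r

omit [GrpObj G] [LocallyOfFinitePresentation G.hom] in
theorem PairHom.IsLocAt.poly {f : PairHom P P'} {r : R} (h : f.IsLocAt r) : f.poly.IsLocAt r :=
  ⟨h.src.poly, h.tgt.poly⟩

/-- Scaled points subject to the condition descend along a localisation. -/
theorem exists_descend_cond {f : PairHom P P'} {r : R} (h : f.IsLocAt r) (g : O R P'.A[X] ⟶ G)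
    (hg : om (ev0 R P'.A) ≫ g = 1) (hc : P'.poly.Cond g) :
    ∃ (N : ℕ) (q : O R P.A[X] ⟶ G), om (ev0 R P.A) ≫ q = 1 ∧ P.poly.Cond q ∧
      om (mapAlgHom f.φ) ≫ q = om (scale R (r ^ N)) ≫ g := by
  obtain ⟨N, gA, hgA⟩ := exists_descend h.src g 1 (by rw [hg, MonObj.comp_one])
  obtain ⟨q, hq0, hq⟩ := exists_normalise f.φ _ (by rw [← Category.assoc, ← om_comp, ev0_comp_scale, hg]) gA hgA
  have hz : ∀ (j : P.A →ₐ[R] P.A₂), om (ev0 R P.A₂) ≫ om (mapAlgHom j) ≫ q = 1 := fun j => by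
    rw [← Category.assoc, ← om_comp, ev0_comp_map, om_comp, Category.assoc, hq0, MonObj.comp_one]
  let e₁ : O R P.A₂[X] ⟶ G := (om (mapAlgHom P.j₀) ≫ q) * P.poly.δ
  let e₂ : O R P.A₂[X] ⟶ G := P.poly.δ * (om (mapAlgHom P.j₁) ≫ q)
  obtain ⟨M, hM⟩ := exists_scale_eq h.tgt e₁ e₂ (by
    have h1 : P'.poly.Cond (om (scale R (r ^ N)) ≫ g) := (scaleHom P' (r ^ N)).map_cond hc
    rw [← hq] at h1
    unfold PairAlg.Cond at h1
    simp only [e₁, e₂, MonObj.comp_mul]
    rw [show om (mapAlgHom f.φ₂) ≫ P.poly.δ = P'.poly.δ from f.poly.δ_eq, ← Category.assoc, ← Category.assoc,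
      ← om_comp, ← om_comp,
      show (mapAlgHom f.φ₂).comp (mapAlgHom P.j₀) = P'.poly.j₀.comp (mapAlgHom f.φ) from f.poly.comm₀,
      show (mapAlgHom f.φ₂).comp (mapAlgHom P.j₁) = P'.poly.j₁.comp (mapAlgHom f.φ) from f.poly.comm₁,
      om_comp, om_comp, Category.assoc, Category.assoc]
    exact h1) (by
    simp only [e₁, e₂, MonObj.comp_mul, hz, _root_.one_mul, _root_.mul_one])
  refine ⟨N + M, om (scale R (r ^ M)) ≫ q, ?_, ?_, ?_⟩
  · rw [← Category.assoc, ← om_comp, ev0_comp_scale, hq0]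
  · unfold PairAlg.Cond
    have c₀ : P.poly.j₀.comp (scale R (r ^ M)) = (scale R (r ^ M)).comp (mapAlgHom P.j₀) := (scaleHom P (r ^ M)).comm₀.symm
    have c₁ : P.poly.j₁.comp (scale R (r ^ M)) = (scale R (r ^ M)).comp (mapAlgHom P.j₁) := (scaleHom P (r ^ M)).comm₁.symm
    have hd : om (scale R (r ^ M)) ≫ P.poly.δ = P.poly.δ := (scaleHom P (r ^ M)).δ_eq
    simp only [e₁, e₂, MonObj.comp_mul, hd] at hM
    rw [← Category.assoc, ← Category.assoc, ← om_comp, ← om_comp] at hM ⊢
    rw [c₀, c₁]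
    exact hM
  · rw [← Category.assoc, ← om_comp, show (mapAlgHom f.φ).comp (scale R (r ^ M)) =
      (scale R (r ^ M)).comp (mapAlgHom f.φ) from AlgHom.ext fun p => (scale_map f.φ _ p).symm, om_comp,
      Category.assoc, hq, ← Category.assoc, ← om_comp, show (scale R (P := P'.A) (r ^ M)).comp (scale R (r ^ N)) =
      scale R (r ^ (N + M)) from AlgHom.ext fun p => by rw [AlgHom.comp_apply, scale_scale, ← pow_add, add_comm]]

/-- Patching of a point subject to the condition. -/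
theorem exists_patch_cond {Q Q' B : PairAlg G} (f : PairHom Q B) (f' : PairHom Q' B) {r r' : R}
    (hf : f.IsLocAt r') (hf' : f'.IsLocAt r) (hu : IsUnit (algebraMap R Q.A (r + r')))
    (hu' : IsUnit (algebraMap R Q'.A (r + r')))
    (g : O R B.A[X] ⟶ G) (hg : om (ev0 R B.A) ≫ g = 1) (hc : B.poly.Cond g) :
    ∃ (g₁ : O R Q.A[X] ⟶ G) (g₂ : O R Q'.A[X] ⟶ G), Q.poly.Cond g₁ ∧ Q'.poly.Cond g₂ ∧
      g = (om (mapAlgHom f.φ) ≫ g₁) * (om (mapAlgHom f'.φ) ≫ g₂) := by
  obtain ⟨N, q₂, -, hq₂c, hq₂⟩ := exists_descend_cond hf' g hg hc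
  let d : O R B.A[X][X][X] ⟶ G := (om (lin R B.A 1) ≫ g) * (om (lin R B.A 0) ≫ g)⁻¹
  have hd0 : om (ev0 R B.A[X][X]) ≫ d = 1 := by
    rw [MonObj.comp_mul, GrpObj.comp_inv, ← Category.assoc, ← Category.assoc, ← om_comp, ← om_comp, ev0_lin,
      mul_inv_cancel]
  have hdc : B.poly.poly.poly.Cond d := ((linHom B 1).map_cond hc).mul ((linHom B 0).map_cond hc).inv
  obtain ⟨M, dA, -, hdAc, hdA⟩ := exists_descend_cond (f := f.poly.poly) hf.poly.poly d hd0 hdc
  have hspan : (r + r') ^ (N + M) ∈ Ideal.span ({r ^ N, r' ^ M} : Set R) := by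
    rw [add_pow]
    refine Ideal.sum_mem _ fun i hi => ?_
    rcases le_or_gt N i with hNi | hNi
    · refine Ideal.mul_mem_right _ _ (Ideal.mul_mem_right _ _ ?_)
      rw [← Nat.add_sub_cancel' hNi, pow_add]
      exact Ideal.mul_mem_right _ _ (Ideal.subset_span (by simp))
    · refine Ideal.mul_mem_right _ _ (Ideal.mul_mem_left _ _ ?_)
      rw [show N + M - i = M + (N - i) by omega, pow_add]
      exact Ideal.mul_mem_right _ _ (Ideal.subset_span (by simp))
  obtain ⟨a, b, hab⟩ := Ideal.mem_span_pair.1 hspan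
  let u := (hu.pow (N + M)).unit
  let u' := (hu'.pow (N + M)).unit
  let v : Q.A := ↑u⁻¹
  let v' : Q'.A := ↑u'⁻¹
  have hv : v * algebraMap R Q.A ((r + r') ^ (N + M)) = 1 := by
    rw [map_pow]; exact u.inv_mul
  have hv' : v' * algebraMap R Q'.A ((r + r') ^ (N + M)) = 1 := by
    rw [map_pow]; exact u'.inv_mul
  have hcast : ∀ {T U : Type u} [CommRing T] [Algebra R T] [CommRing U] [Algebra R U] (φ : T →ₐ[R] U) (w : T),
      w * algebraMap R T ((r + r') ^ (N + M)) = 1 → φ w * algebraMap R U ((r + r') ^ (N + M)) = 1 :=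
    fun φ w hw => by rw [← φ.commutes, ← map_mul, hw, map_one]
  have huniq : ∀ {T : Type u} [CommRing T] [Algebra R T] (w w' : T),
      w * algebraMap R T ((r + r') ^ (N + M)) = 1 → w' * algebraMap R T ((r + r') ^ (N + M)) = 1 → w = w' :=
    fun w w' hw hw' => left_inv_eq_right_inv hw (by rwa [mul_comm])
  let wB := f.φ v
  have hwB : f'.φ v' = wB := huniq _ _ (hcast _ _ hv') (hcast _ _ hv)
  let g₁ : O R Q.A[X] ⟶ G := om (sc R v) ≫ om (spec R Q.A (a * r ^ N) b) ≫ dA
  let g₂ : O R Q'.A[X] ⟶ G := om (sc R v') ≫ om (scale R a) ≫ q₂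
  refine ⟨g₁, g₂, ?_, ?_, ?_⟩
  · exact (scHom Q v (Q.j₀ v) rfl (huniq _ _ (hcast _ _ hv) (hcast _ _ hv))).map_cond
      ((specHom Q (a * r ^ N) b).map_cond hdAc)
  · exact (scHom Q' v' (Q'.j₀ v') rfl (huniq _ _ (hcast _ _ hv') (hcast _ _ hv'))).map_cond
      ((scaleHom Q' a).map_cond hq₂c)
  · have e1 : om (mapAlgHom f.φ) ≫ g₁ = om (sc R wB) ≫
        ((om (scale R (a * r ^ N + b * r' ^ M)) ≫ g) * (om (scale R (a * r ^ N)) ≫ g)⁻¹) := by
      simp only [g₁]
      rw [← Category.assoc, ← om_comp, sc_map, om_comp, Category.assoc]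
      congr 1
      have key : om (mapAlgHom f.φ) ≫ om (spec R Q.A (a * r ^ N) b) = om (spec R B.A (a * r ^ N) b) ≫
          om (P := Q.A[X][X][X]) (Q := B.A[X][X][X]) (mapAlgHom (mapAlgHom (mapAlgHom f.φ))) := by
        refine Over.OverMorphism.ext ?_
        simp only [om_left, Over.comp_left, ← specMap_comp]
        exact congrArg (fun e => Spec.map (CommRingCat.ofHom e))
          (congrArg (fun e => AlgHom.toRingHom e) (spec_map f.φ (a * r ^ N) b)).symm
      rw [← Category.assoc, key, Category.assoc]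
      erw [hdA]
      simp only [d, MonObj.comp_mul, GrpObj.comp_inv, ← Category.assoc, ← om_comp]
      rw [← AlgHom.comp_assoc, ← AlgHom.comp_assoc]
      simp only [AlgHom.comp_assoc, scale_lin, spec_lin, _root_.mul_one, mul_zero, zero_mul, add_zero]
      rw [mul_comm (r' ^ M) b]
    have e2 : om (mapAlgHom f'.φ) ≫ g₂ = om (sc R wB) ≫ om (scale R (a * r ^ N)) ≫ g := by
      simp only [g₂]
      rw [← Category.assoc, ← om_comp, sc_map, hwB, om_comp, Category.assoc]
      congr 1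
      rw [← Category.assoc, ← om_comp, show (mapAlgHom f'.φ).comp (scale R a) = (scale R a).comp (mapAlgHom f'.φ) from
          AlgHom.ext fun p => (scale_map f'.φ a p).symm, om_comp, Category.assoc, hq₂, ← Category.assoc, ← om_comp,
        show (scale R (P := B.A) a).comp (scale R (r ^ N)) = scale R (a * r ^ N) from
          AlgHom.ext fun p => scale_scale a (r ^ N) p]
    rw [e1, e2, ← MonObj.comp_mul, inv_mul_cancel_right, hab, ← Category.assoc, ← om_comp, scale_eq_sc, sc_sc,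
      hcast f.φ v hv, sc_one, om_id, Category.id_comp]

end Groth.Agent.NonAbLib.Quillen
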