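import Groth.Agent.NonAbLib.QuillenBase
import Groth.Agent.NonAbLib.QuillenGood
import Groth.Agent.SchTorsor.Props

/-!
# The elements over which a torsor on affine space descends
-/

universe u

open CategoryTheory CategoryTheory.Limits MonoidalCategory CartesianMonoidalCategory MonObj GrpObj AlgebraicGeometry
open Groth.Agent.QuillenLib
open scoped TensorProduct

noncomputable section

namespace Groth.Agent.NonAbLib.QuillenTorsor

section affine

variable {R : Type u} [CommRing R] {S : Scheme.{u}} (i : Spec (CommRingCat.of R) ⟶ S) [IsIso i]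

/-- The spectrum of an algebra over the base. -/
abbrev V (B : Type u) [CommRing B] [Algebra R B] : Over S := (Over.map i).obj (O R B)

/-- The map of spectra over the base. -/
abbrev vm {B B' : Type u} [CommRing B] [Algebra R B] [CommRing B'] [Algebra R B'] (φ : B →ₐ[R] B') :
    V i B' ⟶ V i B := (Over.map i).map (om φ)

omit [IsIso i] in
theorem vm_comp {B B' B'' : Type u} [CommRing B] [Algebra R B] [CommRing B'] [Algebra R B'] [CommRing B'']
    [Algebra R B''] (ψ : B' →ₐ[R] B'') (φ : B →ₐ[R] B') : vm i (ψ.comp φ) = vm i ψ ≫ vm i φ := by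
  rw [← Functor.map_comp, ← om_comp]

omit [IsIso i] in
theorem vm_vm {B B' B'' : Type u} [CommRing B] [Algebra R B] [CommRing B'] [Algebra R B'] [CommRing B'']
    [Algebra R B''] (ψ : B' →ₐ[R] B'') (φ : B →ₐ[R] B') {Y : Over S} (w : V i B ⟶ Y) :
    vm i ψ ≫ vm i φ ≫ w = vm i (ψ.comp φ) ≫ w := by
  rw [← Category.assoc, ← vm_comp]

/-- The projections of a tensor product. -/
abbrev inl (R A B : Type u) [CommRing R] [CommRing A] [CommRing B] [Algebra R A] [Algebra R B] :
    A →ₐ[R] A ⊗[R] B :=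
  Algebra.TensorProduct.includeLeft

/-- The projections of a tensor product. -/
abbrev inr (R A B : Type u) [CommRing R] [CommRing A] [CommRing B] [Algebra R A] [Algebra R B] :
    B →ₐ[R] A ⊗[R] B :=
  Algebra.TensorProduct.includeRight

theorem exists_pair {B B' : Type u} [CommRing B] [Algebra R B] [CommRing B'] [Algebra R B'] {T : Over S}
    (a : T ⟶ V i B) (b : T ⟶ V i B') :
    ∃ t : T ⟶ V i (B ⊗[R] B'), t ≫ vm i (inl R B B') = a ∧ t ≫ vm i (inr R B B') = b := by
  have hab : a.left ≫ Spec.map (CommRingCat.ofHom (algebraMap R B)) =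
      b.left ≫ Spec.map (CommRingCat.ofHom (algebraMap R B')) := by
    rw [← cancel_mono i, Category.assoc, Category.assoc]
    exact (Over.w a).trans (Over.w b).symm
  let t₀ := pullback.lift a.left b.left hab ≫ (pullbackSpecIso R B B').hom
  have h1 : t₀ ≫ (om (inl R B B')).left = a.left :=
    (Category.assoc _ _ _).trans ((congrArg (_ ≫ ·) (pullbackSpecIso_hom_fst R B B')).trans (pullback.lift_fst _ _ _))
  refine ⟨Over.homMk t₀ ?_, Over.OverMorphism.ext h1, Over.OverMorphism.ext ?_⟩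
  · exact ((congrArg (t₀ ≫ ·) (Over.w (vm i (inl R B B')))).symm.trans
      ((Category.assoc _ _ _).symm.trans (congrArg (· ≫ (V i B).hom) h1))).trans (Over.w a)
  · exact (Category.assoc _ _ _).trans
      ((congrArg (_ ≫ ·) (pullbackSpecIso_hom_snd R B B')).trans (pullback.lift_snd _ _ _))

omit [IsIso i] in
theorem pair_ext {B B' : Type u} [CommRing B] [Algebra R B] [CommRing B'] [Algebra R B'] {T : Over S}
    {t t' : T ⟶ V i (B ⊗[R] B')} (h : t ≫ vm i (inl R B B') = t' ≫ vm i (inl R B B'))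
    (h' : t ≫ vm i (inr R B B') = t' ≫ vm i (inr R B B')) : t = t' := by
  refine Over.OverMorphism.ext ?_
  show (t.left : T.left ⟶ Spec (CommRingCat.of (B ⊗[R] B'))) = t'.left
  rw [← cancel_mono (pullbackSpecIso R B B').inv]
  refine pullback.hom_ext ?_ ?_
  · rw [Category.assoc, Category.assoc, pullbackSpecIso_inv_fst]
    exact congrArg CommaMorphism.left h
  · rw [Category.assoc, Category.assoc, pullbackSpecIso_inv_snd]
    exact congrArg CommaMorphism.left h'

/-- A point of the open defined by an element. -/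
abbrev jLoc (r : R) : Spec (CommRingCat.of (Localization.Away r)) ⟶ S :=
  Spec.map (CommRingCat.ofHom (algebraMap R (Localization.Away r))) ≫ i

instance mono_jLoc (r : R) : Mono (jLoc i r) :=
  have : IsOpenImmersion (Spec.map (CommRingCat.ofHom (algebraMap R (Localization.Away r)))) :=
    IsOpenImmersion.of_isLocalization r
  inferInstanceAs (Mono (_ ≫ i))

theorem exists_lift_loc {M : Type u} [CommRing M] [Algebra R M] (r : R) {T : Over S} (m : T ⟶ V i M)
    (v : T ⟶ V i (Localization.Away r)) : ∃ m' : T ⟶ V i (Quillen.Loc M r), m' ≫ vm i (Quillen.toLoc r) = m := by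
  have : IsOpenImmersion (om (Quillen.toLoc (M := M) r)).left := Quillen.isOpenImmersion_toLoc r
  have hle : Set.range ⇑m.left ⊆ Set.range ⇑(om (Quillen.toLoc (M := M) r)).left := by
    rintro _ ⟨x, rfl⟩
    rw [Quillen.range_toLoc]
    have e : m.left ≫ Spec.map (CommRingCat.ofHom (algebraMap R M)) =
        v.left ≫ Spec.map (CommRingCat.ofHom (algebraMap R (Localization.Away r))) := by
      rw [← cancel_mono i, Category.assoc, Category.assoc]
      exact (Over.w m).trans (Over.w v).symm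
    have hx : (m.left ≫ Spec.map (CommRingCat.ofHom (algebraMap R M))) x ∈
        (PrimeSpectrum.basicOpen r : Set (PrimeSpectrum R)) := by
      rw [e, ← PrimeSpectrum.localization_away_comap_range (Localization.Away r) r]
      exact ⟨v.left x, rfl⟩
    exact hx
  refine ⟨Over.homMk (IsOpenImmersion.lift _ m.left hle) ?_, Over.OverMorphism.ext (IsOpenImmersion.lift_fac _ _ _)⟩
  show IsOpenImmersion.lift _ m.left hle ≫ (V i (Quillen.Loc M r)).hom = T.hom
  rw [← Over.w (vm i (Quillen.toLoc (M := M) r))]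
  exact (Category.assoc _ _ _).symm.trans ((congrArg (· ≫ (V i M).hom) (IsOpenImmersion.lift_fac _ _ _)).trans (Over.w m))

omit [IsIso i] in
theorem loc_pt_ext {M : Type u} [CommRing M] [Algebra R M] (r : R) {T : Over S}
    {m m' : T ⟶ V i (Quillen.Loc M r)} (h : m ≫ vm i (Quillen.toLoc r) = m' ≫ vm i (Quillen.toLoc r)) : m = m' :=
  Over.OverMorphism.ext (by
    have : IsOpenImmersion (om (Quillen.toLoc (M := M) r)).left := Quillen.isOpenImmersion_toLoc r
    exact (cancel_mono (om (Quillen.toLoc (M := M) r)).left).1 (congrArg CommaMorphism.left h :))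

/-- The structure of an algebra over the localised base. -/
def locStr (B : Type u) [CommRing B] [Algebra R B] (r : R) (h : IsUnit (algebraMap R B r)) :
    Localization.Away r →ₐ[R] B :=
  IsLocalization.Away.liftAlgHom r (f := Algebra.ofId R B) h

omit [IsIso i] in
theorem om_he {B B' : Type u} [CommRing B] [Algebra R B] [CommRing B'] [Algebra R B'] {Y : Over S}
    (φ : B →ₐ[R] B') (w : V i B ⟶ Y) : om φ ≫ Rel.he i w = Rel.he i (vm i φ ≫ w) :=
  ((Over.mapPullbackAdj i).homEquiv_naturality_left (om φ) w).symm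

omit [IsIso i] in
theorem he_map {T : Over (Spec (CommRingCat.of R))} {Y Y' : Over S} (w : (Over.map i).obj T ⟶ Y) (g : Y ⟶ Y') :
    Rel.he i w ≫ (Over.pullback i).map g = Rel.he i (w ≫ g) :=
  ((Over.mapPullbackAdj i).homEquiv_naturality_right w g).symm

end affine

section torsor

variable {R : Type u} [CommRing R] {S : Scheme.{u}} (i : Spec (CommRingCat.of R) ⟶ S) [IsIso i]
  (n : Type u) {A : Scheme.{u}} (f : A ⟶ S) (ℓ : A ≅ Spec (CommRingCat.of (MvPolynomial n R)))
  (hℓ : ℓ.inv ≫ f = Spec.map (CommRingCat.ofHom (algebraMap R (MvPolynomial n R))) ≫ i)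
  {G : Over S} [GrpObj G] (X : NonAbH1.TorsorSch (Red.bc f G) Scheme.fppfPrecoverage)

/-- The zero of the coordinates. -/
abbrev z0 (R n : Type u) [CommRing R] : MvPolynomial n R →ₐ[R] R := MvPolynomial.aeval fun _ => 0

/-- The contraction of the coordinates. -/
def cL (R n : Type u) [CommRing R] : MvPolynomial n R →ₐ[R] Polynomial (MvPolynomial n R) :=
  MvPolynomial.aeval fun k => Polynomial.X * Polynomial.C (MvPolynomial.X k)

/-- The zero section. -/
def zero : S ⟶ A := inv i ≫ Spec.map (CommRingCat.ofHom (z0 R n).toRingHom) ≫ ℓ.inv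

include hℓ in
theorem zero_comp : zero i n ℓ ≫ f = 𝟙 S := by
  simp only [zero, Category.assoc, hℓ]
  rw [← Category.assoc (Spec.map _), ← Spec.map_comp, ← CommRingCat.ofHom_comp,
    show (z0 R n).toRingHom.comp (algebraMap R (MvPolynomial n R)) = RingHom.id R from (z0 R n).comp_algebraMap,
    CommRingCat.ofHom_id, Spec.map_id, Category.id_comp, IsIso.inv_hom_id]

/-- The coordinates of a point. -/
def coordMor : V i (MvPolynomial n R) ⟶ Over.mk f := Over.homMk ℓ.inv hℓ

/-- The point of given coordinates. -/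
def coordInv : Over.mk f ⟶ V i (MvPolynomial n R) := Over.homMk ℓ.hom (by
  show ℓ.hom ≫ Spec.map _ ≫ i = f
  rw [← hℓ, ℓ.hom_inv_id_assoc])

omit [IsIso i] in
theorem coordInv_coordMor : coordInv i n f ℓ hℓ ≫ coordMor i n f ℓ hℓ = 𝟙 _ :=
  Over.OverMorphism.ext ℓ.hom_inv_id

omit [IsIso i] in
theorem coordMor_coordInv : coordMor i n f ℓ hℓ ≫ coordInv i n f ℓ hℓ = 𝟙 _ :=
  Over.OverMorphism.ext ℓ.inv_hom_id

theorem coord_zero (B : Type u) [CommRing B] [Algebra R B] :
    toUnit (V i B) ≫ QuillenDesc.zeroPt f (zero i n ℓ) (zero_comp i n f ℓ hℓ) =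
      vm i ((Algebra.ofId R B).comp (z0 R n)) ≫ coordMor i n f ℓ hℓ := by
  refine Over.OverMorphism.ext ?_
  have h1 : (toUnit (V i B)).left = (V i B).hom :=
    (Category.comp_id _).symm.trans (Over.w (toUnit (V i B)))
  show (toUnit (V i B)).left ≫ inv i ≫ Spec.map (CommRingCat.ofHom (z0 R n).toRingHom) ≫ ℓ.inv =
    Spec.map (CommRingCat.ofHom ((Algebra.ofId R B).comp (z0 R n)).toRingHom) ≫ ℓ.inv
  rw [h1]
  show (Spec.map _ ≫ i) ≫ _ = _
  rw [Category.assoc, IsIso.hom_inv_id_assoc, ← Category.assoc, ← Spec.map_comp, ← CommRingCat.ofHom_comp]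
  rfl

variable (R' : Type u) [CommRing R'] [Algebra R R'] (σ : V i R' ⟶ (Over.map f).obj X.X)
  (hσ : σ ≫ Rel.proj f X.X = toUnit _ ≫ QuillenDesc.zeroPt f (zero i n ℓ) (zero_comp i n f ℓ hℓ))
  (hc : Presieve.singleton (V i R').hom ∈ Scheme.fpqcPrecoverage S)

/-- The setup of a torsor on affine space. -/
@[reducible] def setup : QuillenDesc.Setup G :=
  QuillenDesc.mkSetup f X (zero i n ℓ) (zero_comp i n f ℓ hℓ) (V i R') σ hσ hc

theorem comp_trans {C : QuillenDesc.Setup G} {T T' : Over S} (j : T' ⟶ T) (q₀ q₁ : T ⟶ C.Z) :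
    j ≫ C.trans q₀ q₁ = C.trans (j ≫ q₀) (j ≫ q₁) :=
  C.eq_trans (by rw [Category.assoc, Category.assoc, ← C.trans_spec q₀ q₁, Rel.comp_act])

/-- The covering of the cone. -/
abbrev MM (R n R' : Type u) [CommRing R] [CommRing R'] [Algebra R R'] : Type u := MvPolynomial n R ⊗[R] R'

/-- The double covering of the cone. -/
abbrev NN (R n R' : Type u) [CommRing R] [CommRing R'] [Algebra R R'] : Type u :=
  MvPolynomial n R ⊗[R] (R' ⊗[R] R')

/-- The projections of the double covering. -/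
def i₀ : MM R n R' →ₐ[R] NN R n R' := Algebra.TensorProduct.map (AlgHom.id R _) (inl R R' R')

/-- The projections of the double covering. -/
def i₁ : MM R n R' →ₐ[R] NN R n R' := Algebra.TensorProduct.map (AlgHom.id R _) (inr R R' R')

theorem i₀_inl : (i₀ n R').comp (inl R (MvPolynomial n R) R') = inl R (MvPolynomial n R) (R' ⊗[R] R') :=
  AlgHom.ext fun a => by simp [i₀]

theorem i₁_inl : (i₁ n R').comp (inl R (MvPolynomial n R) R') = inl R (MvPolynomial n R) (R' ⊗[R] R') :=
  AlgHom.ext fun a => by simp [i₁]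

theorem i₀_inr : (i₀ n R').comp (inr R (MvPolynomial n R) R') =
    (inr R (MvPolynomial n R) (R' ⊗[R] R')).comp (inl R R' R') :=
  AlgHom.ext fun a => by simp [i₀]

theorem i₁_inr : (i₁ n R').comp (inr R (MvPolynomial n R) R') =
    (inr R (MvPolynomial n R) (R' ⊗[R] R')).comp (inr R R' R') :=
  AlgHom.ext fun a => by simp [i₁]

/-- The contraction of a covering of the cone. -/
def con (B : Type u) [CommRing B] [Algebra R B] :
    MvPolynomial n R ⊗[R] B →ₐ[R] Polynomial (MvPolynomial n R ⊗[R] B) :=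
  Algebra.TensorProduct.productMap ((Polynomial.mapAlgHom (inl R (MvPolynomial n R) B)).comp (cL R n))
    ((cst R _).comp (inr R (MvPolynomial n R) B))

theorem con_inl (B : Type u) [CommRing B] [Algebra R B] :
    (con n B).comp (inl R (MvPolynomial n R) B) =
      (Polynomial.mapAlgHom (inl R (MvPolynomial n R) B)).comp (cL R n) :=
  AlgHom.ext fun a => by simp [con, ← Algebra.TensorProduct.one_def]

theorem con_inr (B : Type u) [CommRing B] [Algebra R B] :
    (con n B).comp (inr R (MvPolynomial n R) B) = (cst R _).comp (inr R (MvPolynomial n R) B) :=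
  AlgHom.ext fun a => by simp [con]

theorem ev1_cL : (Quillen.ev1 R (MvPolynomial n R)).comp (cL R n) = AlgHom.id R _ :=
  MvPolynomial.algHom_ext fun k => by simp [cL, Quillen.ev1]

theorem ev0_cL : (ev0 R (MvPolynomial n R)).comp (cL R n) = (Algebra.ofId R _).comp (z0 R n) :=
  MvPolynomial.algHom_ext fun k => by simp [cL, ev0]

theorem map_map {B B' B'' : Type u} [CommRing B] [Algebra R B] [CommRing B'] [Algebra R B'] [CommRing B'']
    [Algebra R B''] (ψ : B' →ₐ[R] B'') (φ : B →ₐ[R] B') :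
    (Polynomial.mapAlgHom ψ).comp (Polynomial.mapAlgHom φ) = Polynomial.mapAlgHom (ψ.comp φ) :=
  polyHom_ext (fun a => by simp) (by simp)

theorem map_con {B B' : Type u} [CommRing B] [Algebra R B] [CommRing B'] [Algebra R B']
    (g : MvPolynomial n R ⊗[R] B →ₐ[R] MvPolynomial n R ⊗[R] B') (ρ : B →ₐ[R] B')
    (hl : g.comp (inl R (MvPolynomial n R) B) = inl R (MvPolynomial n R) B')
    (hr : g.comp (inr R (MvPolynomial n R) B) = (inr R (MvPolynomial n R) B').comp ρ) :
    (Polynomial.mapAlgHom g).comp (con n B) = (con n B').comp g := by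
  have e1 : ((Polynomial.mapAlgHom g).comp (con n B)).comp (inl R (MvPolynomial n R) B) =
      ((con n B').comp g).comp (inl R (MvPolynomial n R) B) := by
    rw [AlgHom.comp_assoc, AlgHom.comp_assoc, con_inl, hl, con_inl, ← AlgHom.comp_assoc, map_map, hl]
  have e2 : ((Polynomial.mapAlgHom g).comp (con n B)).comp (inr R (MvPolynomial n R) B) =
      ((con n B').comp g).comp (inr R (MvPolynomial n R) B) := by
    rw [AlgHom.comp_assoc, AlgHom.comp_assoc, con_inr, hr, ← AlgHom.comp_assoc, ← AlgHom.comp_assoc, map_comp_cst,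
      con_inr, AlgHom.comp_assoc, AlgHom.comp_assoc, hr]
  exact Algebra.TensorProduct.ext e1 e2

theorem ev1_con (B : Type u) [CommRing B] [Algebra R B] :
    (Quillen.ev1 R _).comp (con (R := R) n B) = AlgHom.id R _ := by
  have e1 : ((Quillen.ev1 R _).comp (con n B)).comp (inl R (MvPolynomial n R) B) =
      (AlgHom.id R _).comp (inl R (MvPolynomial n R) B) := by
    rw [AlgHom.comp_assoc, con_inl, ← AlgHom.comp_assoc, Quillen.ev1_map, AlgHom.comp_assoc, ev1_cL,
      AlgHom.comp_id, AlgHom.id_comp]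
  have e2 : ((Quillen.ev1 R _).comp (con n B)).comp (inr R (MvPolynomial n R) B) =
      (AlgHom.id R _).comp (inr R (MvPolynomial n R) B) := by
    rw [AlgHom.comp_assoc, con_inr, ← AlgHom.comp_assoc]
    exact congrArg (fun a => AlgHom.comp a (inr R (MvPolynomial n R) B)) (AlgHom.ext fun a => by simp [Quillen.ev1, cst])
  exact Algebra.TensorProduct.ext e1 e2

theorem con_δ {B B' : Type u} [CommRing B] [Algebra R B] [CommRing B'] [Algebra R B']
    (ρ : B →ₐ[R] B') :
    (con n B').comp ((inr R (MvPolynomial n R) B').comp ρ) = (cst R _).comp ((inr R (MvPolynomial n R) B').comp ρ) := by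
  rw [← AlgHom.comp_assoc, con_inr, AlgHom.comp_assoc]

theorem ev0_con_inl (B : Type u) [CommRing B] [Algebra R B] :
    ((ev0 R _).comp (con n B)).comp (inl R (MvPolynomial n R) B) =
      (Algebra.ofId R (MvPolynomial n R ⊗[R] B)).comp (z0 R n) := by
  rw [AlgHom.comp_assoc, con_inl, ← AlgHom.comp_assoc, ev0_comp_map, AlgHom.comp_assoc, ev0_cL, ← AlgHom.comp_assoc]
  refine congrArg (fun a : R →ₐ[R] MvPolynomial n R ⊗[R] B => a.comp (z0 R n)) ?_
  exact AlgHom.ext fun a => (inl R (MvPolynomial n R) B).commutes a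

/-- The data of the patching. -/
@[reducible] def data : Quillen.Data (Red.bc i G) where
  X := Red.bc i ((Over.map f).obj X.X)
  L := Red.bc i (Over.mk f)
  b := (Rel.action f X.act).bc i
  π := (Over.pullback i).map (Rel.proj f X.X)
  hπ := by
    rw [AlgGrp.Action.bc_act, Category.assoc, ← Functor.map_comp, Rel.act_proj, Functor.map_comp,
      Functor.Monoidal.μ_snd_assoc]
  free := fun {T} y y' h => by
    let e := fun (Y : Over S) => (Over.mapPullbackAdj i).homEquiv T Y
    have hh : (e _).symm y ≫ Rel.proj f X.X = (e _).symm y' ≫ Rel.proj f X.X := by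
      simp only [e]
      rw [← Adjunction.homEquiv_naturality_right_symm, ← Adjunction.homEquiv_naturality_right_symm, h]
    obtain ⟨g, hg, hu⟩ := Rel.free f X.act X.isTorsor.1 _ _ hh
    refine ⟨e G g, ?_, fun g' hg' => ?_⟩
    · show lift (e G g) y' ≫ _ = y
      rw [← (e _).apply_symm_apply y', AlgGrp.Action.lift_homEquiv_bc_act, hg, Equiv.apply_symm_apply]
    · rw [← (e G).apply_symm_apply g']
      refine congrArg (e G) (hu _ ?_)
      apply (e _).injective
      simp only [e]
      rw [← AlgGrp.Action.lift_homEquiv_bc_act, Equiv.apply_symm_apply, Equiv.apply_symm_apply, Equiv.apply_symm_apply]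
      exact hg'
  M := MM R n R'
  N := NN R n R'
  i₀ := i₀ n R'
  i₁ := i₁ n R'
  δ := Rel.he i ((setup i n f ℓ hℓ X R' σ hσ hc).trans
    (vm i ((i₀ n R').comp (inr R (MvPolynomial n R) R'))) (vm i ((i₁ n R').comp (inr R (MvPolynomial n R) R'))))
  π₀ := Rel.he i (vm i (inl R (MvPolynomial n R) R') ≫ coordMor i n f ℓ hℓ)
  hπ₀ := by
    simp only [Rel.he]
    rw [← Adjunction.homEquiv_naturality_left, ← Adjunction.homEquiv_naturality_left, vm_vm, vm_vm, i₀_inl, i₁_inl]
  hM := con n R'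
  hN := con n (R' ⊗[R] R')
  h₀ := map_con n _ _ (i₀_inl n R') (i₀_inr n R')
  h₁ := map_con n _ _ (i₁_inl n R') (i₁_inr n R')
  hev := ev1_con n R'
  hδ := by
    refine (om_he i _ _).trans (Eq.trans (congrArg (Rel.he i) ?_) (om_he i _ _).symm)
    rw [comp_trans, comp_trans]
    congr 1
    · rw [← vm_comp, ← vm_comp, i₀_inr, con_δ]
    · rw [← vm_comp, ← vm_comp, i₁_inr, con_δ]
  base := Rel.he i (vm i (inr R (MvPolynomial n R) R') ≫ σ)
  base_π := by
    refine (he_map i _ _).trans (Eq.trans (congrArg (Rel.he i) ?_) (om_he i _ _).symm)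
    rw [Category.assoc, hσ, ← Category.assoc, toUnit_unique (vm i _ ≫ toUnit (V i R')) (toUnit _),
      coord_zero i n f ℓ hℓ, vm_vm, ev0_con_inl]
  base_cov := by
    refine (om_he i _ _).trans (Eq.trans ?_ (congrArg (fun b => lift _ b ≫ _) (om_he i _ _).symm))
    refine Eq.trans ?_ (AlgGrp.Action.lift_homEquiv_bc_act i (Rel.action f X.act) _ _).symm
    refine congrArg (Rel.he i) ?_
    rw [vm_vm, vm_vm]
    exact ((setup i n f ℓ hℓ X R' σ hσ hc).trans_spec _ _).symm

set_option backward.isDefEq.respectTransparency.types false in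
set_option maxHeartbeats 1000000 in
theorem descOn_iff (r : R) : (setup i n f ℓ hℓ X R' σ hσ hc).DescOn (Over.mk (jLoc i r)) ↔
    (data i n f ℓ hℓ X R' σ hσ hc).Good r := by
  let D := data i n f ℓ hℓ X R' σ hσ hc
  let C := setup i n f ℓ hℓ X R' σ hσ hc
  let t₀ : V i (Quillen.Loc (MM R n R') r) ⟶ Over.mk f :=
    vm i (Quillen.toLoc r) ≫ vm i (inl R (MvPolynomial n R) R') ≫ coordMor i n f ℓ hℓ
  let q : V i (Quillen.Loc (MM R n R') r) ⟶ V i R' := vm i (Quillen.toLoc r) ≫ vm i (inr R (MvPolynomial n R) R')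
  have hδ : ∀ {T : Over S} (m : T ⟶ V i (Quillen.Loc (NN R n R') r)),
      m ≫ ((Over.mapPullbackAdj i).homEquiv _ _).symm ((D.pair r).δ) =
        C.trans (m ≫ vm i (Quillen.toLoc r) ≫ vm i ((i₀ n R').comp (inr R (MvPolynomial n R) R')))
          (m ≫ vm i (Quillen.toLoc r) ≫ vm i ((i₁ n R').comp (inr R (MvPolynomial n R) R'))) := fun {T} m => by
    show m ≫ ((Over.mapPullbackAdj i).homEquiv _ _).symm (om (Quillen.toLoc r) ≫ Rel.he i _) = _
    rw [Adjunction.homEquiv_naturality_left_symm, Equiv.symm_apply_apply, comp_trans, comp_trans]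
  constructor
  · rintro ⟨y, hy, hc'⟩
    let v : V i (Quillen.Loc (MM R n R') r) ⟶ Over.mk (jLoc i r) := vm i (locStr _ r (Quillen.isUnit_loc r))
    refine ⟨Rel.he i (lift (lift t₀ q) v ≫ y), ?_, ?_⟩
    · show Rel.he i _ ≫ (Over.pullback i).map _ = om (Quillen.toLoc r) ≫ Rel.he i _
      refine ((he_map i _ _).trans (congrArg (Rel.he i) ?_)).trans (om_he i _ _).symm
      erw [Category.assoc, hy]
      exact (lift_fst_assoc _ _ _).trans (lift_fst _ _)
    · show om (Quillen.mapLoc (i₀ n R') r) ≫ Rel.he i _ =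
        lift (D.pair r).δ (om (Quillen.mapLoc (i₁ n R') r) ≫ Rel.he i _) ≫ D.b.act
      refine (om_he i _ _).trans (Eq.trans ?_ (congrArg₂ (fun a b => lift a b ≫ D.b.act)
        ((Rel.he i).apply_symm_apply (D.pair r).δ) (om_he i _ _).symm))
      refine Eq.trans ?_ (AlgGrp.Action.lift_homEquiv_bc_act i (Rel.action f X.act) _ _).symm
      refine congrArg (Rel.he i) ?_
      have h0 := hδ (𝟙 _)
      rw [Category.id_comp, Category.id_comp, Category.id_comp] at h0
      erw [h0]
      simp only [← Category.assoc, comp_lift]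
      have hq₀ : vm i (Quillen.mapLoc (i₀ n R') r) ≫ q =
          vm i (Quillen.toLoc r) ≫ vm i ((i₀ n R').comp (inr R (MvPolynomial n R) R')) := by
        simp only [q, ← vm_comp, ← AlgHom.comp_assoc, Quillen.mapLoc_comp]
      have hq₁ : vm i (Quillen.mapLoc (i₁ n R') r) ≫ q =
          vm i (Quillen.toLoc r) ≫ vm i ((i₁ n R').comp (inr R (MvPolynomial n R) R')) := by
        simp only [q, ← vm_comp, ← AlgHom.comp_assoc, Quillen.mapLoc_comp]
      have ht : vm i (Quillen.mapLoc (i₁ n R') r) ≫ t₀ = vm i (Quillen.mapLoc (i₀ n R') r) ≫ t₀ := by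
        simp only [t₀, vm_vm]
        rw [← AlgHom.comp_assoc, ← AlgHom.comp_assoc, Quillen.mapLoc_comp, Quillen.mapLoc_comp, AlgHom.comp_assoc,
          AlgHom.comp_assoc, i₀_inl, i₁_inl]
      have hv : vm i (Quillen.mapLoc (i₁ n R') r) ≫ v = vm i (Quillen.mapLoc (i₀ n R') r) ≫ v :=
        QuillenDesc.pt_unique (jLoc i r) _ _
      rw [hq₀, hq₁, ht, hv]
      exact hc' _ _ _ _
  · rintro ⟨y, hy, hcv⟩
    let Y := (Rel.he i).symm y
    have hY : Y ≫ Rel.proj f X.X = t₀ := by
      apply (Rel.he i).injective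
      simp only [Rel.he, Y, t₀]
      rw [Adjunction.homEquiv_naturality_right, Equiv.apply_symm_apply, Adjunction.homEquiv_naturality_left]
      exact hy
    have hYc : vm i (Quillen.mapLoc (i₀ n R') r) ≫ Y =
        lift ((Rel.he i).symm (D.pair r).δ) (vm i (Quillen.mapLoc (i₁ n R') r) ≫ Y) ≫ C.b.act := by
      apply (Rel.he i).injective
      simp only [Rel.he, Y]
      refine Eq.trans ?_ (AlgGrp.Action.lift_homEquiv_bc_act i (Rel.action f X.act) _ _)
      rw [Adjunction.homEquiv_naturality_left, Adjunction.homEquiv_naturality_left, Equiv.apply_symm_apply,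
        Equiv.apply_symm_apply]
      exact hcv
    obtain ⟨m₀, hm₀l, hm₀r⟩ := exists_pair i
      (fst (C.L ⊗ C.Z) (Over.mk (jLoc i r)) ≫ fst _ _ ≫ coordInv i n f ℓ hℓ)
      (fst (C.L ⊗ C.Z) (Over.mk (jLoc i r)) ≫ snd _ _)
    obtain ⟨m, hm⟩ := exists_lift_loc i r m₀ (snd (C.L ⊗ C.Z) (Over.mk (jLoc i r)))
    refine ⟨m ≫ Y, ?_, fun {T} t p₀ p₁ v => ?_⟩
    · erw [Category.assoc m Y, hY]
      simp only [t₀]
      rw [reassoc_of% hm, reassoc_of% hm₀l, coordInv_coordMor, Category.comp_id]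
    · obtain ⟨pq, hpq₀, hpq₁⟩ := exists_pair i p₀ p₁
      obtain ⟨k₀, hk₀l, hk₀r⟩ := exists_pair i (t ≫ coordInv i n f ℓ hℓ) pq
      obtain ⟨k, hk⟩ := exists_lift_loc i r k₀ v
      have hside : ∀ (g : MM R n R' →ₐ[R] NN R n R') (p : T ⟶ V i R') (ρ : R' →ₐ[R] R' ⊗[R] R'),
          g.comp (inl R (MvPolynomial n R) R') = inl R (MvPolynomial n R) (R' ⊗[R] R') →
          g.comp (inr R (MvPolynomial n R) R') = (inr R (MvPolynomial n R) (R' ⊗[R] R')).comp ρ →
          pq ≫ vm i ρ = p →
          lift (lift t p) v ≫ m = k ≫ vm i (Quillen.mapLoc g r) := fun g p ρ hgl hgr hp => by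
        refine loc_pt_ext i r ?_
        rw [Category.assoc, hm, Category.assoc, ← vm_comp, Quillen.mapLoc_comp, vm_comp, reassoc_of% hk]
        refine pair_ext i ?_ ?_
        · rw [Category.assoc, hm₀l, Category.assoc, ← vm_comp, hgl, hk₀l, lift_fst_assoc, lift_fst_assoc]
        · rw [Category.assoc, hm₀r, Category.assoc, ← vm_comp, hgr, vm_comp, reassoc_of% hk₀r, hp, lift_fst_assoc,
            lift_snd]
      have e₀ := hside (i₀ n R') p₀ _ (i₀_inl n R') (i₀_inr n R') hpq₀
      have e₁ := hside (i₁ n R') p₁ _ (i₁_inl n R') (i₁_inr n R') hpq₁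
      show lift (lift t p₀) v ≫ m ≫ Y = lift (C.trans p₀ p₁) (lift (lift t p₁) v ≫ m ≫ Y) ≫ C.b.act
      rw [reassoc_of% e₀, hYc, Rel.comp_act, reassoc_of% e₁]
      congr 2
      refine (hδ k).trans ?_
      simp only [vm_comp, reassoc_of% hk]
      congr 1
      · rw [← vm_comp, i₀_inr, vm_comp, reassoc_of% hk₀r, hpq₀]
      · rw [← vm_comp, i₁_inr, vm_comp, reassoc_of% hk₀r, hpq₁]

end torsor

set_option backward.isDefEq.respectTransparency.types false in
/-- A covering of the base trivialising the torsor on the zero section. -/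
theorem exists_cover {R : Type u} [CommRing R] {S : Scheme.{u}} (i : Spec (CommRingCat.of R) ⟶ S) [IsIso i]
    (n : Type u) {A : Scheme.{u}} (f : A ⟶ S) (ℓ : A ≅ Spec (CommRingCat.of (MvPolynomial n R)))
    (hℓ : ℓ.inv ≫ f = Spec.map (CommRingCat.ofHom (algebraMap R (MvPolynomial n R))) ≫ i)
    {G : Over S} [GrpObj G] (X : NonAbH1.TorsorSch (Red.bc f G) Scheme.fppfPrecoverage) :
    ∃ (R' : Type u) (_ : CommRing R') (_ : Algebra R R') (σ : V i R' ⟶ (Over.map f).obj X.X),
      σ ≫ Rel.proj f X.X = toUnit _ ≫ QuillenDesc.zeroPt f (zero i n ℓ) (zero_comp i n f ℓ hℓ) ∧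
      Presieve.singleton (V i R').hom ∈ Scheme.fpqcPrecoverage S := by
  obtain ⟨Z, p, hps, hpf, hpq, s, hs⟩ := SchTorsor.exists_single
    (locTriv_mono fppf_le_fpqc (X.bc (zero i n ℓ)).isTorsor.2) i
  have : CompactSpace Z := QuasiCompact.compactSpace_of_compactSpace p
  let 𝒰 := Z.affineCover.finiteSubcover
  let d : ∐ 𝒰.X ⟶ Z := Sigma.desc 𝒰.f
  have hd : ∀ k, Flat (𝒰.f k) := fun k => inferInstance
  have : Flat d := IsZariskiLocalAtSource.sigmaDesc (P := @Flat) hd
  have : Surjective d := ⟨fun x => by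
    obtain ⟨k, y, hy⟩ := 𝒰.exists_eq x
    exact ⟨Sigma.ι 𝒰.X k y, by rw [← Scheme.Hom.comp_apply, Sigma.ι_desc, hy]⟩⟩
  have : ∀ k, IsAffine (𝒰.X k) := fun k => inferInstanceAs (IsAffine (Z.affineCover.X _))
  let W := ∐ 𝒰.X
  let p' : Spec Γ(W, ⊤) ⟶ Spec (CommRingCat.of R) := W.isoSpec.inv ≫ d ≫ p
  let φ := Spec.preimage p'
  let R' : Type u := Γ(W, ⊤)
  let : Algebra R R' := φ.hom.toAlgebra
  have hV : (V i R').hom = p' ≫ i := by
    show Spec.map φ ≫ i = _
    rw [Spec.map_preimage]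
  let s' : Spec Γ(W, ⊤) ⟶ X.X.left := (W.isoSpec.inv ≫ d ≫ s) ≫ pullback.fst X.X.hom (zero i n ℓ)
  have hs' : s' ≫ X.X.hom = (p' ≫ i) ≫ zero i n ℓ := by
    simp only [s', p', Category.assoc]
    congr 2
    exact (congrArg (s ≫ ·) pullback.condition).trans
      (((Category.assoc _ _ _).symm.trans (congrArg (· ≫ zero i n ℓ) hs)).trans (Category.assoc _ _ _))
  refine ⟨R', inferInstance, inferInstance, Over.homMk s' ?_, Over.OverMorphism.ext ?_, ?_⟩
  · show s' ≫ X.X.hom ≫ f = (V i R').hom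
    rw [← Category.assoc, hs', hV, Category.assoc, zero_comp i n f ℓ hℓ, Category.comp_id]
  · show s' ≫ X.X.hom = (toUnit (V i R')).left ≫ zero i n ℓ
    rw [hs', ← hV]
    congr 1
  · rw [hV]
    have : Flat (p' ≫ i) := inferInstance
    have : Surjective (p' ≫ i) := inferInstance
    have : QuasiCompact (p' ≫ i) := inferInstance
    exact (p' ≫ i).singleton_mem_fpqcPrecoverage

theorem descOn_of_hom {S : Scheme.{u}} {G : Over S} [GrpObj G] {C : QuillenDesc.Setup G} {U U' : Over S}
    (w : U' ⟶ U) (h : C.DescOn U) : C.DescOn U' := by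
  obtain ⟨y, hy, hc⟩ := h
  have e : ∀ {T : Over S} (p : T ⟶ C.L ⊗ C.Z) (v : T ⟶ U'), lift p v ≫ (C.L ⊗ C.Z) ◁ w ≫ y = lift p (v ≫ w) ≫ y :=
    fun p v => lift_whiskerLeft_assoc _ _ _ _
  refine ⟨(C.L ⊗ C.Z) ◁ w ≫ y, by rw [Category.assoc, hy, whiskerLeft_fst_assoc], fun t q₀ q₁ v => ?_⟩
  rw [e, e]
  exact hc t q₀ q₁ (v ≫ w)

theorem descOn_sub {S : Scheme.{u}} {G : Over S} [GrpObj G] {C : QuillenDesc.Setup G} {U U' : Scheme.{u}}
    (j : U ⟶ S) [IsOpenImmersion j] (j' : U' ⟶ S) (h : Set.range ⇑j' ⊆ Set.range ⇑j)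
    (hd : C.DescOn (Over.mk j)) : C.DescOn (Over.mk j') :=
  descOn_of_hom (Over.homMk (U := Over.mk j') (V := Over.mk j) (IsOpenImmersion.lift j j' h)
    (IsOpenImmersion.lift_fac j j' h)) hd

set_option backward.isDefEq.respectTransparency.types false in
/-- The ideal of the elements over which a torsor on affine space descends. -/
theorem exists_ideal {R : Type u} [CommRing R] {S : Scheme.{u}} (i : Spec (CommRingCat.of R) ⟶ S) [IsIso i]
    (n : Type u) {A : Scheme.{u}} (f : A ⟶ S) (ℓ : A ≅ Spec (CommRingCat.of (MvPolynomial n R)))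
    (hℓ : ℓ.inv ≫ f = Spec.map (CommRingCat.ofHom (algebraMap R (MvPolynomial n R))) ≫ i)
    {G : Over S} [GrpObj G] [LocallyOfFinitePresentation G.hom]
    (X : NonAbH1.TorsorSch (Red.bc f G) Scheme.fppfPrecoverage) :
    ∃ I : Ideal R, ∀ (r : R) (j : Spec (CommRingCat.of (Localization.Away r)) ⟶ S), j = jLoc i r →
      (r ∈ I ↔ QuillenDesc.HasModel f X j) := by
  obtain ⟨R', _, _, σ, hσ, hc⟩ := exists_cover i n f ℓ hℓ X
  have : LocallyOfFinitePresentation (Red.bc i G).hom :=
    inferInstanceAs (LocallyOfFinitePresentation (pullback.snd G.hom i))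
  refine ⟨(data i n f ℓ hℓ X R' σ hσ hc).ideal, fun r j hj => ?_⟩
  subst hj
  refine Iff.trans ?_ (Iff.intro
    (QuillenDesc.hasModel_of_descOn f X (zero i n ℓ) (zero_comp i n f ℓ hℓ) (jLoc i r))
    (QuillenDesc.descOn_of_hasModel f X (zero i n ℓ) (zero_comp i n f ℓ hℓ) (jLoc i r) (σ := σ) (hσ := hσ) (hc := hc)))
  exact (descOn_iff i n f ℓ hℓ X R' σ hσ hc r).symm

set_option backward.isDefEq.respectTransparency.types false in
set_option maxHeartbeats 1000000 in
/-- A torsor on affine space which descends locally descends. -/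
theorem exists_global {R : Type u} [CommRing R] {S : Scheme.{u}} (i : Spec (CommRingCat.of R) ⟶ S) [IsIso i]
    (n : Type u) {A : Scheme.{u}} (f : A ⟶ S) (ℓ : A ≅ Spec (CommRingCat.of (MvPolynomial n R)))
    (hℓ : ℓ.inv ≫ f = Spec.map (CommRingCat.ofHom (algebraMap R (MvPolynomial n R))) ≫ i)
    {G : Over S} [GrpObj G] [LocallyOfFinitePresentation G.hom]
    (X : NonAbH1.TorsorSch (Red.bc f G) Scheme.fppfPrecoverage)
    (hloc : ∀ s : S, ∃ (U : Scheme.{u}) (j : U ⟶ S) (_ : IsOpenImmersion j), s ∈ Set.range j.base ∧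
      QuillenDesc.HasModel f X j) :
    ∃ P : NonAbH1.TorsorSch G Scheme.fppfPrecoverage, Nonempty (NonAbH1.EquivIso (P.act.bc f) X.act) := by
  obtain ⟨R', _, _, σ, hσ, hc⟩ := exists_cover i n f ℓ hℓ X
  have : LocallyOfFinitePresentation (Red.bc i G).hom :=
    inferInstanceAs (LocallyOfFinitePresentation (pullback.snd G.hom i))
  let D := data i n f ℓ hℓ X R' σ hσ hc
  let C := setup i n f ℓ hℓ X R' σ hσ hc
  have htop : D.ideal = ⊤ := by
    by_contra hne
    obtain ⟨𝔪, hm, hle⟩ := D.ideal.exists_le_maximal hne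
    let x : PrimeSpectrum R := ⟨𝔪, hm.isPrime⟩
    obtain ⟨U, j, hj, hxU, hM⟩ := hloc (i x)
    obtain ⟨_, ⟨r, rfl⟩, hxr, hrV⟩ := PrimeSpectrum.isTopologicalBasis_basic_opens.exists_subset_of_mem_open
      (show x ∈ i ⁻¹' Set.range j from hxU) (j.opensRange.2.preimage i.continuous)
    refine hxr (hle ?_)
    show D.Good r
    rw [← descOn_iff i n f ℓ hℓ X R' σ hσ hc r]
    have hsub : Set.range ⇑(jLoc i r) ⊆ Set.range ⇑j := by
      rintro _ ⟨y, rfl⟩
      refine hrV ?_
      have hy : (Spec.map (CommRingCat.ofHom (algebraMap R (Localization.Away r)))) y ∈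
          Set.range (PrimeSpectrum.comap (algebraMap R (Localization.Away r))) := ⟨y, rfl⟩
      rw [PrimeSpectrum.localization_away_comap_range (Localization.Away r) r] at hy
      exact hy
    have hh : C.DescOn (Over.mk j) :=
      (QuillenDesc.descOn_of_hasModel f X (zero i n ℓ) (zero_comp i n f ℓ hℓ) j (σ := σ) (hσ := hσ) (hc := hc) hM)
    exact descOn_sub (C := C) j (jLoc i r) hsub hh
  have h1 : C.DescOn (Over.mk (jLoc i (1 : R))) :=
    (descOn_iff i n f ℓ hℓ X R' σ hσ hc 1).2 (show (1 : R) ∈ D.ideal by rw [htop]; trivial)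
  let ρ : Localization.Away (1 : R) →ₐ[R] R :=
    IsLocalization.Away.liftAlgHom (1 : R) (f := AlgHom.id R R) isUnit_one
  let w : 𝟙_ (Over S) ⟶ Over.mk (jLoc i (1 : R)) :=
    Over.homMk (inv i ≫ Spec.map (CommRingCat.ofHom ρ.toRingHom)) (by
      show (inv i ≫ Spec.map _) ≫ Spec.map _ ≫ i = 𝟙 S
      rw [Category.assoc, ← Category.assoc (Spec.map _), ← Spec.map_comp, ← CommRingCat.ofHom_comp,
        show ρ.toRingHom.comp (algebraMap R (Localization.Away (1 : R))) = RingHom.id R from ρ.comp_algebraMap,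
        CommRingCat.ofHom_id, Spec.map_id, Category.id_comp, IsIso.inv_hom_id])
  exact QuillenDesc.exists_model f X (zero i n ℓ) (zero_comp i n f ℓ hℓ) (descOn_of_hom (C := C) w h1)

end Groth.Agent.NonAbLib.QuillenTorsor
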