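import Groth.Agent.RedSub30.Quot
import Groth.Agent.FpqcDescLib.Closed
import Groth.Agent.EtFound.Descent
import Groth.Agent.GrpSchLib.HomFlat
import Groth.Agent.GrpSchLib.Cartier
import Groth.Agent.GrpSchLib.CharZeroPts
import Groth.Agent.GrpSchLib.SmoothReduced
import Groth.Agent.SchDenseFam19.Universal
import Mathlib.AlgebraicGeometry.Morphisms.FiniteType
import Mathlib.AlgebraicGeometry.Morphisms.FinitePresentation

/-!
# Affineness of `G/G'` from that of `G₀/(G₀ ∩ G')` and `G₁/G₁'`, `G₁ = G/G₀`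

The fibre product of `G → G₁/G₁'` and `G/G' → G₁/G₁'` is `G × G₀/(G₀ ∩ G')`.
-/

set_option autoImplicit false
set_option linter.style.haveILetI false

universe u

open CategoryTheory CategoryTheory.Limits MonoidalCategory CartesianMonoidalCategory MonObj GrpObj AlgebraicGeometry

namespace Groth.Agent.NonAbLib.QuotDevissage

open RedSub30
open SchDenseFam19 (lfp_of_lft)

variable {S : Scheme.{u}}

theorem isAffineHom_quot [IsAffine S] {G G' G₀ G₁ G₀' G₁' Qa Qb Q : Over S} [GrpObj G] [GrpObj G'] [GrpObj G₀]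
    [GrpObj G₁] [GrpObj G₀'] [GrpObj G₁'] [IsAffine G.left] [IsAffine Qa.left]
    (i' : G' ⟶ G) [IsMonHom i'] (i₀ : G₀ ⟶ G) [IsMonHom i₀] (hn : AlgGrp.IsNormalHom i₀)
    (q₁ : G ⟶ G₁) [IsMonHom q₁] (hq₁ : RedSub.IsQuotient i₀ q₁)
    (j : G₀' ⟶ G₀) [IsMonHom j] (j' : G₀' ⟶ G') (hj : IsPullback j j' i₀ i')
    (i₁' : G₁' ⟶ G₁) (p : G' ⟶ G₁') (hp : p ≫ i₁' = i' ≫ q₁) (hpc : FpqcDescLib.Covers p.left)
    (qa : G₀ ⟶ Qa) (hqa : RedSub.IsQuotient j qa) (qb : G₁ ⟶ Qb) (hqb : RedSub.IsQuotient i₁' qb)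
    (q : G ⟶ Q) (hq : RedSub.IsQuotient i' q) :
    ∃ π : Q ⟶ Qb, IsAffineHom π.left := by
  -- `G₀` maps to the identity of `G₁`
  have hkill : ∀ {T : Over S} (n : T ⟶ G₀), n ≫ i₀ ≫ q₁ = 1 := fun n => by
    have h := mul_comp_quot hq₁ (1 : _ ⟶ G) n
    rwa [_root_.one_mul, MonObj.one_comp, Category.assoc] at h
  obtain ⟨π, hπ, -⟩ := (covers_of_isQuotient hq).over_desc (q₁ ≫ qb) fun T a b e => by
    obtain ⟨h, rfl⟩ := (coset_iff hq a b).1 e
    rw [← Category.assoc a, ← Category.assoc (a * _), MonObj.mul_comp, Category.assoc h, ← hp, ← Category.assoc h,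
      mul_comp_quot hqb]
  have hcov := FpqcDescLib.covers_whiskerLeft (covers_of_isQuotient hqa) G
  obtain ⟨Φ, hΦ, -⟩ := hcov.over_desc ((fst G G₀ * (snd G G₀ ≫ i₀)) ≫ q) fun T a b e => by
    have e1 : a ≫ fst G G₀ = b ≫ fst G G₀ := by
      have := congrArg (· ≫ fst G Qa) e; simpa using this
    have e2 : (a ≫ snd G G₀) ≫ qa = (b ≫ snd G G₀) ≫ qa := by
      have := congrArg (· ≫ snd G Qa) e; simpa using this
    obtain ⟨h, hh⟩ := (coset_iff hqa _ _).1 e2
    rw [← Category.assoc a (fst G G₀ * (snd G G₀ ≫ i₀)), ← Category.assoc b (fst G G₀ * (snd G G₀ ≫ i₀)),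
      MonObj.comp_mul, MonObj.comp_mul, ← e1, ← Category.assoc a (snd G G₀), ← Category.assoc b (snd G G₀), hh,
      MonObj.mul_comp _ _ i₀, Category.assoc h, hj.w, ← Category.assoc h, ← _root_.mul_assoc, mul_comp_quot hq]
  have hΦ' : ∀ {T : Over S} (a : T ⟶ G) (n : T ⟶ G₀), lift a (n ≫ qa) ≫ Φ = (a * (n ≫ i₀)) ≫ q := fun {T} a n => by
    rw [← lift_whiskerLeft, Category.assoc, hΦ, ← Category.assoc, MonObj.comp_mul, lift_fst, lift_snd_assoc]
  haveI := hcov.over_epi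
  have hw : fst G Qa ≫ q₁ ≫ qb = Φ ≫ π := by
    rw [← cancel_epi (G ◁ qa), whiskerLeft_fst_assoc, reassoc_of% hΦ, hπ, MonObj.mul_comp_assoc, Category.assoc,
      hkill, _root_.mul_one, Category.assoc]
  -- points of the fibre product are unique
  have huniq : ∀ (T : Over S) (z z' : T ⟶ G ⊗ Qa), z ≫ fst G Qa = z' ≫ fst G Qa → z ≫ Φ = z' ≫ Φ → z = z' := by
    intro T z z' h1 h2
    obtain ⟨T₁, π₁, n, n', hπ₁, hn₁, hn₁'⟩ := exists_local_lift₂ (covers_of_isQuotient hqa) (z ≫ snd G Qa) (z' ≫ snd G Qa)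
    rw [← cancel_epi π₁]
    have hz : π₁ ≫ z = lift (π₁ ≫ z ≫ fst G Qa) (n ≫ qa) := by
      apply CartesianMonoidalCategory.hom_ext <;> simp [hn₁]
    have hz' : π₁ ≫ z' = lift (π₁ ≫ z ≫ fst G Qa) (n' ≫ qa) := by
      apply CartesianMonoidalCategory.hom_ext <;> simp [hn₁', h1]
    have e := congrArg (π₁ ≫ ·) h2
    rw [← Category.assoc π₁, ← Category.assoc π₁, hz, hz', hΦ', hΦ'] at e
    obtain ⟨h, hh⟩ := (coset_iff hq _ _).1 e
    rw [_root_.mul_assoc, mul_right_inj] at hh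
    have h3 : (n⁻¹ * n') ≫ i₀ = h ≫ i' := by
      rw [MonObj.mul_comp, GrpObj.inv_comp, hh, inv_mul_cancel_left]
    obtain ⟨h₀, hh₀, -⟩ := hj.exists_lift _ _ h3
    rw [hz, hz', (coset_iff hqa n n').2 ⟨h₀, by rw [hh₀, mul_inv_cancel_left]⟩]
  have hsq : IsPullback (fst G Qa) Φ (q₁ ≫ qb) π := by
    refine RedSub30.isPullback_of_points _ _ _ _ hw (fun T a y e => ?_) huniq
    obtain ⟨T₁, π₁, g, hπ₁, hg⟩ := exists_local_lift (covers_of_isQuotient hq) y
    have e1 : ((π₁ ≫ a) ≫ q₁) ≫ qb = (g ≫ q₁) ≫ qb := by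
      rw [Category.assoc, Category.assoc, e, ← Category.assoc π₁ y, ← hg, Category.assoc, hπ, Category.assoc]
    obtain ⟨h, hh⟩ := (coset_iff hqb _ _).1 e1
    obtain ⟨T₂, π₂, h', hπ₂, hh'⟩ := exists_local_lift hpc h
    have e2 : (π₂ ≫ g) ≫ q₁ = ((π₂ ≫ π₁ ≫ a) * (h' ≫ i')) ≫ q₁ := by
      rw [Category.assoc, hh, MonObj.comp_mul, MonObj.mul_comp, Category.assoc h', ← hp, ← Category.assoc h', hh']
      simp only [Category.assoc]
    obtain ⟨n, hn'⟩ := (coset_iff hq₁ _ _).1 e2.symm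
    obtain ⟨n', hn''⟩ := hn T₂ (h' ≫ i') n
    have hkey : lift (π₂ ≫ π₁ ≫ a) (n' ≫ qa) ≫ Φ = (π₂ ≫ π₁) ≫ y := by
      rw [hΦ', ← hn'', Category.assoc π₂ π₁ y, ← hg, ← Category.assoc π₂ g q, hn', ← mul_comp_quot hq _ h']
      simp only [_root_.mul_assoc, inv_mul_cancel, _root_.mul_one]
    have hcc : FpqcDescLib.Covers (π₂ ≫ π₁).left := by
      rw [Over.comp_left]; exact hπ₂.comp hπ₁
    obtain ⟨z, hz, -⟩ := hcc.over_desc (lift (π₂ ≫ π₁ ≫ a) (n' ≫ qa)) fun U u v huv => by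
      refine huniq _ _ _ ?_ ?_
      · simp only [Category.assoc, lift_fst]
        simpa only [Category.assoc] using congrArg (· ≫ a) huv
      · simp only [Category.assoc, hkey]
        simpa only [Category.assoc] using congrArg (· ≫ y) huv
    haveI := hcc.over_epi
    refine ⟨z, ?_, ?_⟩
    · rw [← cancel_epi (π₂ ≫ π₁), ← Category.assoc, hz, lift_fst, Category.assoc]
    · rw [← cancel_epi (π₂ ≫ π₁), ← Category.assoc, hz, hkey]
  refine ⟨π, ?_⟩
  have hcc : FpqcDescLib.Covers (q₁ ≫ qb).left := by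
    rw [Over.comp_left]; exact (covers_of_isQuotient hq₁).comp (covers_of_isQuotient hqb)
  haveI := EtFound.fpqc_isAffineHom.{u}
  haveI : IsAffineHom G.hom := inferInstance
  haveI : IsAffineHom Qa.hom := inferInstance
  have hfst : IsAffineHom (fst G Qa).left := inferInstanceAs (IsAffineHom (pullback.fst G.hom Qa.hom))
  exact hcc.descends @IsAffineHom π.left _ _ (hsq.map (Over.forget S)) hfst

theorem isAffine_quot {k : Type u} [Field k] [CharZero k]
    {G G' G₀ G₁ G₀' G₁' Qa Qb Q : Over (Spec (CommRingCat.of k))} [GrpObj G] [GrpObj G'] [GrpObj G₀]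
    [GrpObj G₁] [GrpObj G₀'] [GrpObj G₁'] [IsAffine G.left] [LocallyOfFiniteType G.hom]
    (i' : G' ⟶ G) [IsMonHom i'] (hi' : IsClosedImmersion i'.left) (i₀ : G₀ ⟶ G) [IsMonHom i₀]
    (hn : AlgGrp.IsNormalHom i₀) (q₁ : G ⟶ G₁) [IsMonHom q₁] (hq₁ : RedSub.IsQuotient i₀ q₁)
    (j : G₀' ⟶ G₀) [IsMonHom j] (j' : G₀' ⟶ G') (hj : IsPullback j j' i₀ i')
    (i₁' : G₁' ⟶ G₁) [IsMonHom i₁'] (hi₁' : IsClosedImmersion i₁'.left)
    (p : G' ⟶ G₁') (hp : p ≫ i₁' = i' ≫ q₁) (hps : Surjective p.left)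
    (qa : G₀ ⟶ Qa) (hqa : RedSub.IsQuotient j qa) (ha : IsAffine Qa.left)
    (qb : G₁ ⟶ Qb) (hqb : RedSub.IsQuotient i₁' qb) (hb : IsAffine Qb.left)
    (q : G ⟶ Q) (hq : RedSub.IsQuotient i' q) : IsAffine Q.left := by
  haveI := hi'
  haveI := hi₁'
  haveI := hq₁.1
  haveI := hq₁.2.1
  haveI := hq₁.2.2.1
  haveI : LocallyOfFiniteType G₁.hom := by
    haveI : LocallyOfFinitePresentation G.hom := lfp_of_lft G.hom
    haveI : LocallyOfFinitePresentation (q₁.left ≫ G₁.hom) := by rw [Over.w q₁]; infer_instance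
    haveI := SrcDescent.locallyOfFinitePresentation_of_fppf_comp q₁.left G₁.hom
    infer_instance
  haveI : LocallyOfFiniteType G₁'.hom := by rw [← Over.w i₁']; infer_instance
  haveI : LocallyOfFiniteType G'.hom := by rw [← Over.w i']; infer_instance
  haveI : IsMonHom p := by
    haveI : Mono i₁' := (Over.forget _).mono_of_mono_map (inferInstanceAs (Mono i₁'.left))
    refine ⟨(cancel_mono i₁').1 ?_, (cancel_mono i₁').1 ?_⟩
    · rw [Category.assoc, hp, IsMonHom.one_hom_assoc, IsMonHom.one_hom, IsMonHom.one_hom]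
    · rw [Category.assoc, hp, IsMonHom.mul_hom_assoc, IsMonHom.mul_hom, Category.assoc, IsMonHom.mul_hom,
        tensorHom_comp_tensorHom_assoc, tensorHom_comp_tensorHom_assoc, hp]
  haveI : IsAffine G'.left := isAffine_of_isAffineHom i'.left
  haveI : Smooth G₁'.hom := GrpSchLib.smooth_of_charZero G₁'
  haveI : IsReduced G₁'.left := GrpSchLib.isReduced_of_smooth_field G₁'.hom
  haveI := hps
  haveI : QuasiCompact p.left := by
    haveI : IsSeparated G₁'.hom := GrpSchLib.CharZeroPts.isSeparated_grp G₁'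
    haveI : QuasiCompact (p.left ≫ G₁'.hom) := by rw [Over.w p]; infer_instance
    exact QuasiCompact.of_comp p.left G₁'.hom
  haveI : Flat p.left := GrpSchLib.flat_of_surjective_hom p
  have hpc : FpqcDescLib.Covers p.left := by
    refine RedSub30.covers_of_fppf p hps inferInstance ?_
    haveI : LocallyOfFiniteType (p.left ≫ G₁'.hom) := by rw [Over.w p]; infer_instance
    haveI : LocallyOfFiniteType p.left := locallyOfFiniteType_of_comp p.left G₁'.hom
    haveI : IsLocallyNoetherian G₁'.left := LocallyOfFiniteType.isLocallyNoetherian G₁'.hom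
    exact lfp_of_lft p.left
  haveI := ha
  obtain ⟨π, hπ⟩ := isAffineHom_quot i' i₀ hn q₁ hq₁ j j' hj i₁' p hp hpc qa hqa qb hqb q hq
  haveI := hπ
  haveI := hb
  exact isAffine_of_isAffineHom π.left

end Groth.Agent.NonAbLib.QuotDevissage
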