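import Groth.Agent.NonAbLib.TorsorSch
import Groth.Prelude.Def_ChGrp
import Mathlib.CategoryTheory.Comma.Over.Pullback

/-!
# Reductions of the structure group and sections of the quotient
-/

universe u

open CategoryTheory CategoryTheory.Limits MonoidalCategory CartesianMonoidalCategory MonObj AlgebraicGeometry

namespace Groth.Agent.NonAbLib

variable {S : Scheme.{u}} {G H F Q : Over S} [GrpObj G] [GrpObj H]
  (i : G ⟶ H) [IsMonHom i] (aF : AlgGrp.Action H F)
  (π : F ⟶ Q)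

theorem exists_reduction {K : Precoverage Scheme.{u}} [K.IsStableUnderBaseChange]
    (hsq : IsPullback (aF.restrict i).act (snd G F) π π)
    (hloc : NonAbH1.IsLocallyTrivialFor K (Over.mk π.left : Over Q.left))
    (σ : 𝟙_ (Over S) ⟶ Q) :
    ∃ (E : Over S) (aE : AlgGrp.Action G E) (φ : E ⟶ F),
      NonAbH1.IsTorsorFor K aE ∧ AlgGrp.Action.IsEquivariant aE (aF.restrict i) φ ∧
      IsPullback φ (toUnit E) π σ := by
  obtain ⟨E, φ, hE⟩ : ∃ (E : Over S) (φ : E ⟶ F), IsPullback φ (toUnit E) π σ := by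
    refine ⟨pullback π σ, pullback.fst π σ, ?_⟩
    convert IsPullback.of_hasPullback π σ using 1
    exact toUnit_unique _ _
  have hinv : ((G ◁ φ) ≫ (aF.restrict i).act) ≫ π = toUnit (G ⊗ E) ≫ σ := by
    rw [Category.assoc, hsq.w, whiskerLeft_snd_assoc, hE.w, ← Category.assoc,
      toUnit_unique (snd G E ≫ toUnit E) (toUnit _)]
  let act : G ⊗ E ⟶ E := hE.lift ((G ◁ φ) ≫ (aF.restrict i).act) (toUnit _) hinv
  have hφ : act ≫ φ = (G ◁ φ) ≫ (aF.restrict i).act := hE.lift_fst _ _ _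
  have hpt : ∀ {T : Over S} (g : T ⟶ G) (e : T ⟶ E),
      (lift g e ≫ act) ≫ φ = lift g (e ≫ φ) ≫ (aF.restrict i).act := fun g e => by
    rw [Category.assoc, hφ, lift_whiskerLeft_assoc]
  have hEext : ∀ {T : Over S} {e e' : T ⟶ E}, e ≫ φ = e' ≫ φ → e = e' := fun h =>
    hE.hom_ext h (toUnit_unique _ _)
  let aE : AlgGrp.Action G E :=
    { act := act
      one_act := by
        refine hEext (AlgGrp.Action.hom_ext_lift₂ fun T x e => ?_)
        have hx : x ≫ η[G] = 1 := by rw [Hom.one_def, toUnit_unique (toUnit T) x]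
        simp only [← Category.assoc, lift_whiskerRight, lift_leftUnitor_hom, hx]
        rw [hpt, AlgGrp.Action.lift_one_act]
      mul_act := by
        refine hEext (AlgGrp.Action.hom_ext_lift₃ fun T g g' e => ?_)
        simp only [← Category.assoc, lift_whiskerRight, lift_lift_associator_hom, lift_whiskerLeft]
        rw [hpt, hpt, hpt, ← Hom.mul_def, AlgGrp.Action.lift_mul_act] }
  refine ⟨E, aE, φ, ⟨isPseudoTorsor_of_points aE fun T x y => ?_, locTriv_base_of π hloc σ fun T v hv =>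
    ⟨hE.lift v (toUnit T) hv⟩⟩, hφ, hE⟩
  have hxy : (x ≫ φ) ≫ π = (y ≫ φ) ≫ π := by
    rw [Category.assoc, Category.assoc, hE.w, ← Category.assoc, ← Category.assoc,
      toUnit_unique (x ≫ toUnit E) (y ≫ toUnit E)]
  refine ⟨hsq.lift _ _ hxy ≫ fst G F, hEext ?_, fun g hg => ?_⟩
  · show (lift _ y ≫ act) ≫ φ = x ≫ φ
    rw [hpt]
    conv_rhs => rw [← hsq.lift_fst _ _ hxy]
    refine congrArg (· ≫ (AlgGrp.Action.restrict i aF).act) ?_
    apply CartesianMonoidalCategory.hom_ext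
    · simp
    · simp
  · have h' : lift g (y ≫ φ) = hsq.lift _ _ hxy := by
      refine hsq.hom_ext ?_ (by simp)
      rw [hsq.lift_fst, ← hpt]
      exact congrArg (· ≫ φ) hg
    rw [← h', lift_fst]

theorem existsUnique_section {K : Precoverage Scheme.{u}} [K.IsStableUnderBaseChange]
    (hK : K ≤ Scheme.fpqcPrecoverage)
    (hsq : IsPullback (aF.restrict i).act (snd G F) π π)
    (hloc : NonAbH1.IsLocallyTrivialFor K (Over.mk π.left : Over Q.left))
    {E : Over S} (aE : AlgGrp.Action G E) (hE : NonAbH1.IsTorsorFor K aE)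
    (φ : E ⟶ F) (hφ : AlgGrp.Action.IsEquivariant aE (aF.restrict i) φ) :
    (∃! σ : 𝟙_ (Over S) ⟶ Q, toUnit E ≫ σ = φ ≫ π) ∧
      ∀ σ : 𝟙_ (Over S) ⟶ Q, toUnit E ≫ σ = φ ≫ π → IsPullback φ (toUnit E) π σ := by
  unfold AlgGrp.Action.IsEquivariant at hφ
  have hE' := torsor_mono hK hE
  refine ⟨SchTorsor.existsUnique_desc hE' (φ ≫ π) ?_, fun σ hσ => ?_⟩
  · rw [← Category.assoc, hφ, Category.assoc, hsq.w, whiskerLeft_snd_assoc]
  · obtain ⟨E₀, a₀, φ₀, h₀, hφ₀, hsq₀⟩ := exists_reduction i aF π hsq hloc σ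
    unfold AlgGrp.Action.IsEquivariant at hφ₀
    let f : E ⟶ E₀ := hsq₀.lift φ (toUnit E) hσ.symm
    have hf : f ≫ φ₀ = φ := hsq₀.lift_fst _ _ _
    have : IsIso f := SchTorsor.isIso_of_equivariant hE' (h₀.1) f (hsq₀.hom_ext (by
      rw [Category.assoc, hf, hφ, Category.assoc, hφ₀, ← MonoidalCategory.whiskerLeft_comp_assoc, hf])
      (toUnit_unique _ _))
    exact hsq₀.of_iso (asIso f).symm (Iso.refl _) (Iso.refl _) (Iso.refl _)
      (by simp [← hf]) (toUnit_unique _ _) (by simp) (by simp)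

end Groth.Agent.NonAbLib
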