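import Groth.Agent.RegLoc6.Basic
import Groth.Agent.CAlgOdd.HartogsTwo

/-!
# Regular pairs at points of regular local rings and their flat covers
-/

universe u

open CategoryTheory AlgebraicGeometry IsLocalRing
open scoped Pointwise

namespace Groth.Agent.NonAbLib

/-- A regular local ring of dimension at least two has a weakly regular pair in its maximal ideal. -/
theorem exists_pair_of_regular (R : Type u) [CommRing R] [IsRegularLocalRing R] (hd : (2 : WithBot ℕ∞) ≤ ringKrullDim R) :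
    ∃ a b : R, a ∈ maximalIdeal R ∧ b ∈ maximalIdeal R ∧ RingTheory.Sequence.IsWeaklyRegular R [a, b] := by
  have := RegLoc6.isDomain_of_isRegularLocalRing R
  have hnf : ¬ IsField R := fun h => by
    rw [ringKrullDim_eq_zero_of_isField h] at hd
    exact absurd hd (by decide)
  obtain ⟨a, ha, ha2⟩ := SetLike.not_le_iff_exists.1 (RegLoc6.maximalIdeal_sq_ne hnf)
  obtain ⟨h1, h2⟩ := RegLoc6.isRegularLocalRing_quot_and ha ha2
  have := h1
  have := RegLoc6.isDomain_of_isRegularLocalRing (R ⧸ Ideal.span {a})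
  have hnf' : ¬ IsField (R ⧸ Ideal.span {a}) := fun h => by
    rw [ringKrullDim_eq_zero_of_isField h] at h2
    rw [← h2] at hd
    exact absurd hd (by decide)
  obtain ⟨b', hb', hb0⟩ := Submodule.exists_mem_ne_zero_of_ne_bot (fun h => hnf' (isField_iff_maximalIdeal_eq.mpr h))
  obtain ⟨b, rfl⟩ := Ideal.Quotient.mk_surjective b'
  have ha0 : a ≠ 0 := fun h => ha2 (h ▸ zero_mem _)
  refine ⟨a, b, ha, ?_, ?_⟩
  · by_contra hb
    exact hb' ((IsLocalRing.notMem_maximalIdeal.1 hb).map _)
  · rw [RingTheory.Sequence.isWeaklyRegular_cons_iff, RingTheory.Sequence.isWeaklyRegular_cons_iff]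
    refine ⟨fun x y h => mul_left_cancel₀ ha0 h, ?_, RingTheory.Sequence.IsWeaklyRegular.nil _ _⟩
    have key : ∀ y : R, Submodule.Quotient.mk (p := a • (⊤ : Submodule R R)) y = 0 ↔ y ∈ Ideal.span {a} := fun y => by
      rw [Submodule.Quotient.mk_eq_zero, Submodule.mem_smul_pointwise_iff_exists, Ideal.mem_span_singleton]
      exact ⟨fun ⟨c, _, hc⟩ => ⟨c, hc.symm⟩, fun ⟨c, hc⟩ => ⟨c, Submodule.mem_top, hc.symm⟩⟩
    intro x y h
    obtain ⟨x, rfl⟩ := Submodule.Quotient.mk_surjective _ x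
    obtain ⟨y, rfl⟩ := Submodule.Quotient.mk_surjective _ y
    rw [← sub_eq_zero, ← Submodule.Quotient.mk_sub, key, ← Ideal.Quotient.eq_zero_iff_mem]
    have h' : Submodule.Quotient.mk (p := a • (⊤ : Submodule R R)) (b * x - b * y) = 0 := by
      rw [Submodule.Quotient.mk_sub, sub_eq_zero]
      exact h
    rw [key, ← mul_sub, ← Ideal.Quotient.eq_zero_iff_mem, map_mul] at h'
    exact (mul_eq_zero.1 h').resolve_left hb0

/-- Regular pairs at points lying over regular points of dimension at least two, for a flat morphism. -/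
theorem reg2_of_flat {X Z : Scheme.{u}} (f : Z ⟶ X) [Flat f] (U : X.Opens)
    (hU : ∀ z : X, z ∉ U → IsRegularLocalRing (X.presheaf.stalk z) ∧ (2 : WithBot ℕ∞) ≤ ringKrullDim (X.presheaf.stalk z))
    (z : Z) (hz : z ∉ f ⁻¹ᵁ U) : CAlgOdd.HartogsTwo.Reg2 (Z.presheaf.stalk z) := by
  obtain ⟨hreg, hd⟩ := hU (f z) hz
  obtain ⟨a, b, ha, hb, hab⟩ := exists_pair_of_regular _ hd
  let := (f.stalkMap z).hom.toAlgebra
  have : Module.Flat (X.presheaf.stalk (f z)) (Z.presheaf.stalk z) := Flat.stalkMap f z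
  have hloc : IsLocalHom (f.stalkMap z).hom := inferInstance
  exact CAlgOdd.HartogsTwo.reg2_of_isWeaklyRegular (fun h => ha (hloc.map_nonunit a h)) (fun h => hb (hloc.map_nonunit b h))
    hab.of_flat

end Groth.Agent.NonAbLib
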