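import Groth.Agent.FlatCxLib.Reduced
import Mathlib.AlgebraicGeometry.Morphisms.Flat
import Mathlib.AlgebraicGeometry.Morphisms.FinitePresentation
import Mathlib.AlgebraicGeometry.Morphisms.Finite
import Mathlib.RingTheory.Finiteness.ModuleFinitePresentation

/-!
# A finite surjection onto a reduced base which is flat after pulling back along itself is flat
-/

universe u

open CategoryTheory CategoryTheory.Limits AlgebraicGeometry TensorProduct
open Groth.Agent.FlatCxLib

namespace Groth.Agent.NonAbLib

theorem flat_of_self_baseChange_flat {A B : Type u} [CommRing A] [CommRing B] [Algebra A B] [_root_.IsReduced A]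
    [Module.Finite A B] (hsurj : Function.Surjective (PrimeSpectrum.comap (algebraMap A B)))
    [Module.Flat B (B ⊗[A] B)] [Algebra.FinitePresentation B (B ⊗[A] B)] : Module.Flat A B := by
  have : Module.FinitePresentation B (B ⊗[A] B) := .of_finite_of_finitePresentation _ _
  have : Algebra.IsIntegral A B := .of_finite A B
  refine flat_of_fibreRank_eq_of_specializes B fun x y hyx => ?_
  obtain ⟨q, rfl⟩ := hsurj y
  obtain ⟨q', hq', rfl⟩ :=
    (PrimeSpectrum.isClosedMap_comap_of_isIntegral (algebraMap A B) (algebraMap_isIntegral_iff.2 ‹_›)).specializingMap hyx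
  rw [← fibreRank_baseChange, ← fibreRank_baseChange]
  exact fibreRank_eq_of_specializes hq'

set_option backward.isDefEq.respectTransparency.types false in
theorem flat_of_self_flat_Spec {A B : CommRingCat.{u}} (φ : A ⟶ B) [_root_.IsReduced A]
    [IsFinite (Spec.map φ)] [Surjective (Spec.map φ)] [Flat (pullback.fst (Spec.map φ) (Spec.map φ))]
    [LocallyOfFinitePresentation (pullback.fst (Spec.map φ) (Spec.map φ))] : Flat (Spec.map φ) := by
  let _ : Algebra A B := φ.hom.toAlgebra
  have : Module.Finite A B := (IsFinite.SpecMap_iff (f := φ)).1 ‹_›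
  have h1 : Flat (pullback.fst (Spec.map (CommRingCat.ofHom (algebraMap A B)))
      (Spec.map (CommRingCat.ofHom (algebraMap A B)))) := ‹_›
  have h2 : LocallyOfFinitePresentation (pullback.fst (Spec.map (CommRingCat.ofHom (algebraMap A B)))
      (Spec.map (CommRingCat.ofHom (algebraMap A B)))) := ‹_›
  rw [← pullbackSpecIso_hom_fst A B B, MorphismProperty.cancel_left_of_respectsIso (P := @Flat),
    HasRingHomProperty.Spec_iff (P := @Flat)] at h1
  rw [← pullbackSpecIso_hom_fst A B B, MorphismProperty.cancel_left_of_respectsIso (P := @LocallyOfFinitePresentation),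
    HasRingHomProperty.Spec_iff (P := @LocallyOfFinitePresentation)] at h2
  have : Module.Flat B (B ⊗[A] B) := RingHom.flat_algebraMap_iff.1 h1
  have : Algebra.FinitePresentation B (B ⊗[A] B) := RingHom.finitePresentation_algebraMap.1 h2
  rw [HasRingHomProperty.Spec_iff (P := @Flat)]
  exact RingHom.flat_algebraMap_iff.2 (flat_of_self_baseChange_flat fun p => Surjective.surj (f := Spec.map φ) p)

set_option backward.isDefEq.respectTransparency.types false in
/-- A finite surjective morphism to a reduced scheme is flat as soon as its base change along itself is flat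
and of finite presentation. -/
theorem flat_of_self_flat {W X : Scheme.{u}} (f : W ⟶ X) [IsReduced X] [IsFinite f] [Surjective f]
    [Flat (pullback.fst f f)] [LocallyOfFinitePresentation (pullback.fst f f)] : Flat f := by
  have : IsZariskiLocalAtTarget (@Flat : MorphismProperty Scheme.{u}) :=
    HasRingHomProperty.instIsZariskiLocalAtTarget _
  refine IsZariskiLocalAtTarget.of_openCover X.affineCover fun i => ?_
  show Flat (pullback.snd f (X.affineCover.f i))
  let g := pullback.snd f (X.affineCover.f i)
  let p := pullback.fst f (X.affineCover.f i)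
  have sq : IsPullback p g f (X.affineCover.f i) := IsPullback.of_hasPullback _ _
  have hg : IsPullback (pullback.snd g g ≫ p) (pullback.fst g g) f (g ≫ X.affineCover.f i) :=
    (IsPullback.of_hasPullback g g).flip.paste_horiz sq
  have hfac : g ≫ X.affineCover.f i = p ≫ f := sq.w.symm
  let q : pullback g g ⟶ pullback f f :=
    pullback.lift (pullback.fst g g ≫ p) (pullback.snd g g ≫ p)
      (by rw [Category.assoc, ← hfac, ← hg.w, Category.assoc])
  have hq : IsPullback q (pullback.fst g g) (pullback.fst f f) p := by
    refine IsPullback.of_right ?_ (pullback.lift_fst _ _ _) (IsPullback.of_hasPullback f f).flip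
    rw [pullback.lift_snd, ← hfac]
    exact hg
  have : IsReduced (X.affineCover.X i) := isReduced_of_isOpenImmersion (X.affineCover.f i)
  have : Flat (pullback.fst g g) := MorphismProperty.of_isPullback hq ‹_›
  have : LocallyOfFinitePresentation (pullback.fst g g) := MorphismProperty.of_isPullback hq ‹_›
  have : IsAffine (pullback f (X.affineCover.f i)) := isAffine_of_isAffineHom g
  let e₁ := (pullback f (X.affineCover.f i)).isoSpec
  let e₂ := (X.affineCover.X i).isoSpec
  have hn : g = e₁.hom ≫ Spec.map g.appTop ≫ e₂.inv := by
    rw [← Category.assoc, Iso.eq_comp_inv]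
    exact (Scheme.isoSpec_hom_naturality g).symm
  have h' : Spec.map g.appTop = e₁.inv ≫ g ≫ e₂.hom := by
    rw [Iso.eq_inv_comp]; exact (Scheme.isoSpec_hom_naturality g)
  have : IsFinite (Spec.map g.appTop) := by rw [h']; infer_instance
  have : Surjective (Spec.map g.appTop) := by rw [h']; infer_instance
  have hsq : IsPullback (pullback.fst g g ≫ e₁.hom) (pullback.snd g g ≫ e₁.hom) (Spec.map g.appTop)
      (Spec.map g.appTop) :=
    (IsPullback.of_hasPullback g g).of_iso (Iso.refl _) e₁ e₁ e₂ (by simp) (by simp) (by rw [h', Iso.hom_inv_id_assoc]) (by rw [h', Iso.hom_inv_id_assoc])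
  have : Flat (pullback.fst (Spec.map g.appTop) (Spec.map g.appTop)) := by
    rw [← hsq.isoPullback_inv_fst]; infer_instance
  have : LocallyOfFinitePresentation (pullback.fst (Spec.map g.appTop) (Spec.map g.appTop)) := by
    rw [← hsq.isoPullback_inv_fst]; infer_instance
  have := flat_of_self_flat_Spec g.appTop
  show Flat g
  rw [hn]
  infer_instance

end Groth.Agent.NonAbLib
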