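import Groth.Prelude.Def_NonAbH1
import Groth.Agent.CechTorsor.Basic
import Mathlib.CategoryTheory.Sites.Whiskering

/-!
# Torsors under sheaves of groups and the boundary of a section of a quotient sheaf
-/

universe w v u

open CategoryTheory Opposite

namespace Groth.Agent.NonAbLib

open NonAbH1 CechTorsor

variable {C : Type u} [Category.{v} C] {J : GrothendieckTopology C}

theorem map_comp_pt (P : Sheaf J (Type w)) {U V W : C} (a : V ⟶ U) (b : W ⟶ V) (p : P.obj.obj (op U)) :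
    P.obj.map b.op (P.obj.map a.op p) = P.obj.map (b ≫ a).op p := by
  rw [op_comp, Functor.map_comp_apply]

/-- Gluing of sections of a sheaf of sets given by a property which determines them. -/
theorem exists_glue (P : Sheaf J (Type w)) {V : C} {S : Sieve V} (hS : S ∈ J V)
    (x : ∀ ⦃T : C⦄ (f : T ⟶ V), S f → P.obj.obj (op T))
    (hx : ∀ ⦃T T' : C⦄ (f : T ⟶ V) (hf : S f) (h : T' ⟶ T),
      P.obj.map h.op (x f hf) = x (h ≫ f) (S.downward_closed hf h)) :
    ∃ p : P.obj.obj (op V), ∀ ⦃T : C⦄ (f : T ⟶ V) (hf : S f), P.obj.map f.op p = x f hf := by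
  let fam : Presieve.FamilyOfElements P.obj S.arrows := fun _ f hf => x f hf
  obtain ⟨p, hp, -⟩ := ((isSheaf_iff_isSheaf_of_type _ _).1 P.property) S hS fam
    (by
      rw [Presieve.compatible_iff_sieveCompatible]
      intro T T' f h hf
      exact (hx f hf h).symm)
  exact ⟨p, fun T f hf => hp f hf⟩

/-- Gluing along the sieve of a predicate which is stable by restriction and determines the section locally. -/
theorem exists_glue_rel (P : Sheaf J (Type w)) {V : C} (R : ∀ ⦃T : C⦄, (T ⟶ V) → P.obj.obj (op T) → Prop)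
    (hres : ∀ ⦃T T' : C⦄ (f : T ⟶ V) (h : T' ⟶ T) (p : P.obj.obj (op T)), R f p → R (h ≫ f) (P.obj.map h.op p))
    (huniq : ∀ ⦃T : C⦄ (f : T ⟶ V) (p q : P.obj.obj (op T)), R f p → R f q → p = q)
    {S : Sieve V} (hS : S ∈ J V) (hex : ∀ ⦃T : C⦄ (f : T ⟶ V), S f → ∃ p, R f p) :
    ∃ p : P.obj.obj (op V), ∀ ⦃T : C⦄ (f : T ⟶ V), S f → R f (P.obj.map f.op p) := by
  choose x hx using hex
  obtain ⟨p, hp⟩ := exists_glue P hS x fun T T' f hf h => huniq _ _ _ (hres _ _ _ (hx f hf)) (hx _ _)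
  exact ⟨p, fun T f hf => by rw [hp f hf]; exact hx f hf⟩

variable {G : Sheaf J GrpCat.{w}}

theorem smul_cancel {P : GSheaf G} (hP : P.IsPseudoTorsor) {U : Cᵒᵖ} {g g' : G.obj.obj U} {p : P.P.obj.obj U}
    (h : P.smul g p = P.smul g' p) : g = g' :=
  (hP U p (P.smul g' p)).unique h rfl

/-- An equivariant morphism which is bijective on sections is an isomorphism. -/
noncomputable def isoOfBijective {P Q : GSheaf G} (f : P ⟶ Q)
    (hf : ∀ U : Cᵒᵖ, Function.Bijective (f.hom.hom.app U)) : P ≅ Q :=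
  have : ∀ U, IsIso (f.hom.hom.app U) := fun U => (isIso_iff_bijective _).2 (hf U)
  have : IsIso f.hom.hom := NatIso.isIso_of_isIso_app _
  have : IsIso f.hom := ⟨⟨inv f.hom.hom⟩, Sheaf.hom_ext (IsIso.hom_inv_id _),
    Sheaf.hom_ext (IsIso.inv_hom_id _)⟩
  { hom := f
    inv := ⟨inv f.hom, fun {U} g q => (hf U).1 (by
      have h : ∀ x, f.hom.hom.app U ((inv f.hom).hom.app U x) = x := fun x => by
        have := congrArg (fun m : Q.P ⟶ Q.P => m.hom.app U x) (IsIso.inv_hom_id f.hom)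
        simpa using this
      rw [h, f.map_smul, h])⟩
    hom_inv_id := GSheaf.hom_ext (IsIso.hom_inv_id f.hom)
    inv_hom_id := GSheaf.hom_ext (IsIso.inv_hom_id f.hom) }

/-- An equivariant morphism from a torsor to a pseudo-torsor is bijective on sections. -/
theorem hom_bijective {P Q : GSheaf G} (hP : P.IsTorsor) (hQ : Q.IsPseudoTorsor) (f : P ⟶ Q) (U : Cᵒᵖ) :
    Function.Bijective (f.hom.hom.app U) := by
  refine ⟨fun p p' e => ?_, fun q => ?_⟩
  · obtain ⟨g, rfl, -⟩ := hP.1 U p p'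
    rw [f.map_smul] at e
    rw [← smul_cancel hQ ((Q.one_smul _).trans e), P.one_smul]
  · obtain ⟨V⟩ := U
    obtain ⟨S, hS, hne⟩ := hP.2 V
    have huniq : ∀ ⦃T : C⦄ (a : T ⟶ V) (p p' : P.P.obj.obj (op T)),
        f.hom.hom.app _ p = Q.P.obj.map a.op q → f.hom.hom.app _ p' = Q.P.obj.map a.op q → p = p' := by
      intro T a p p' h h'
      obtain ⟨g, rfl, -⟩ := hP.1 _ p p'
      rw [f.map_smul, h] at h'
      rw [← smul_cancel hQ ((Q.one_smul _).trans h'.symm), P.one_smul]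
    obtain ⟨p, hp⟩ := exists_glue_rel P.P
      (fun T a p => f.hom.hom.app _ p = Q.P.obj.map a.op q)
      (fun T T' a h p hp => by
        simp only at hp ⊢
        rw [NatTrans.naturality_apply, hp, map_comp_pt])
      huniq hS fun T a ha => by
        obtain ⟨t⟩ := hne a ha
        obtain ⟨g, hg, -⟩ := hQ _ (f.hom.hom.app _ t) (Q.P.obj.map a.op q)
        exact ⟨P.smul g t, by rw [f.map_smul, hg]⟩
    refine ⟨p, set_sep Q.P S hS fun T a ha => ?_⟩
    rw [← NatTrans.naturality_apply]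
    exact hp a ha

theorem nonempty_iso_of_hom {P Q : GSheaf G} (hP : P.IsTorsor) (hQ : Q.IsPseudoTorsor) (f : P ⟶ Q) :
    Nonempty (P ≅ Q) := ⟨isoOfBijective f (hom_bijective hP hQ f)⟩

theorem cl_eq_iff (P Q : Torsor G) : P.cl = Q.cl ↔ Nonempty (P.toGSheaf ≅ Q.toGSheaf) := by
  refine ⟨fun h => ?_, fun h => Quot.sound h⟩
  refine (Equivalence.eqvGen_iff (r := fun P Q : Torsor G => Nonempty (P.toGSheaf ≅ Q.toGSheaf)) ?_).1
    (Quot.eqvGen_exact h)
  exact ⟨fun _ => ⟨Iso.refl _⟩, fun ⟨e⟩ => ⟨e.symm⟩, fun ⟨e⟩ ⟨e'⟩ => ⟨e ≪≫ e'⟩⟩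

section Trivial

variable [J.HasSheafCompose (forget GrpCat.{w})]

theorem trivial_smul {U : Cᵒᵖ} (g : G.obj.obj U) (p : (GSheaf.trivial G).P.obj.obj U) :
    GSheaf.toGrp ((GSheaf.trivial G).smul g p) = g * GSheaf.toGrp p := rfl

theorem uSh_map {U V : Cᵒᵖ} (f : U ⟶ V) (p : (GSheaf.uSh G).obj.obj U) :
    GSheaf.toGrp ((GSheaf.uSh G).obj.map f p) = G.obj.map f (GSheaf.toGrp p) := rfl

/-- A compatible family of sections trivialises a pseudo-torsor. -/
noncomputable def homOfSection {P : GSheaf G} (s : P.P.obj.sections) : GSheaf.trivial G ⟶ P where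
  hom := ⟨{ app := fun U => TypeCat.ofHom fun g => P.smul (GSheaf.toGrp g) (s.1 U)
            naturality := fun U V f => by
              ext g
              show P.smul (GSheaf.toGrp ((GSheaf.uSh G).obj.map f g)) (s.1 V) =
                P.P.obj.map f (P.smul (GSheaf.toGrp g) (s.1 U))
              rw [P.map_smul, s.2 f]
              rfl }⟩
  map_smul {U} g p := P.mul_smul g (GSheaf.toGrp p) (s.1 U)

theorem trivial_iff_hasSection {P : GSheaf G} (hP : P.IsPseudoTorsor) :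
    P.IsTrivial ↔ P.HasSection := by
  refine ⟨fun ⟨e⟩ => ?_, fun ⟨s, hs⟩ => nonempty_iso_of_hom (GSheaf.isTorsor_trivial G) hP (homOfSection ⟨s, hs⟩)⟩
  refine ⟨fun U => e.hom.hom.hom.app U (GSheaf.ofGrp (1 : G.obj.obj U)), fun {U V} f => ?_⟩
  exact (NatTrans.naturality_apply e.hom.hom.hom f _).symm.trans
    (congrArg (e.hom.hom.hom.app V) (map_one (G.obj.map f).hom))

theorem cl_eq_one_iff (P : Torsor G) : P.cl = 1 ↔ P.HasSection := by
  rw [← trivial_iff_hasSection P.isTorsor.1]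
  exact (cl_eq_iff P (trivialTorsor G)).trans ⟨fun ⟨e⟩ => ⟨e.symm⟩, fun ⟨e⟩ => ⟨e.symm⟩⟩

end Trivial

end Groth.Agent.NonAbLib
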