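import Groth.Agent.Hensel.Colim
import Groth.Agent.Hensel.Henselization
import Groth.Agent.Hensel.IntegralStrict
import Groth.Agent.Hensel.Local
import Groth.Agent.Hensel.SmoothLift
import Groth.Agent.GrpSchLib.SepPoints
import Groth.Agent.GrpSchLib.TopDescent
import Mathlib.AlgebraicGeometry.AffineTransitionLimit
import Mathlib.AlgebraicGeometry.Morphisms.Finite
import Mathlib.AlgebraicGeometry.Morphisms.Smooth

/-!
# Sections of a smooth surjection over a finite scheme, étale locally on the base
-/

universe u

open CategoryTheory CategoryTheory.Limits AlgebraicGeometry IsLocalRing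
open Groth.Agent.Hensel

namespace Groth.Agent.NonAbLib

section algebra

variable (R L : Type u) [CommRing R] [Field L] [Algebra R L]

instance nontrivial_henz : Nontrivial (Henz R L) :=
  (Henz.proj R L).toRingHom.domain_nontrivial

theorem isLocalRing_henz : IsLocalRing (Henz R L) :=
  .of_nonunits_add fun a b ha hb => by
    simp only [mem_nonunits_iff, Henz.isUnit_iff, isUnit_iff_ne_zero, not_not] at ha hb ⊢
    rw [map_add, ha, hb, add_zero]

/-- The universal henselian neighbourhood of a geometric point is strictly henselian. -/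
theorem strictlyHenselian_henz [IsAlgClosed L] :
    ∃ _ : HenselianLocalRing (Henz R L), IsSepClosed (ResidueField (Henz R L)) ∧
      maximalIdeal (Henz R L) = RingHom.ker (Henz.proj R L) := by
  have := isLocalRing_henz R L
  have hmax : maximalIdeal (Henz R L) = RingHom.ker (Henz.proj R L) := by
    ext x
    rw [IsLocalRing.mem_maximalIdeal, mem_nonunits_iff, Henz.isUnit_iff, isUnit_iff_ne_zero, not_not,
      RingHom.mem_ker]
  have : HenselianRing (Henz R L) (maximalIdeal (Henz R L)) := by
    rw [hmax]; exact Henz.henselianRing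
  refine ⟨Hensel.henselianLocalRing_of_henselianRing _, ?_, hmax⟩
  let ψ : ResidueField (Henz R L) →+* L :=
    Ideal.Quotient.lift _ (Henz.proj R L).toRingHom fun a ha => hmax.le ha
  refine IsSepClosed.of_exists_root _ fun p hp hirr hsep => ?_
  have hlift : p ∈ Polynomial.lifts (residue (Henz R L)) :=
    (Polynomial.mem_lifts p).mpr (Polynomial.map_surjective _ residue_surjective p)
  obtain ⟨f, hf, -, hfm⟩ := Polynomial.lifts_and_natDegree_eq_and_monic hlift hp
  obtain ⟨κ, hκ⟩ := IsAlgClosed.exists_root (p.map ψ)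
    (by rw [Polynomial.degree_map]; exact (Polynomial.degree_pos_of_irreducible hirr).ne')
  have hmap : ∀ q : Polynomial (Henz R L), q.eval₂ (Henz.proj R L).toRingHom κ =
      ((q.map (residue _)).map ψ).eval κ := fun q => by
    rw [Polynomial.map_map, Polynomial.eval_map]
    rfl
  obtain ⟨a, ha, -⟩ := Henz.exists_root_proj f hfm κ (by rw [hmap, hf]; exact hκ) (by
    rw [hmap, ← Polynomial.derivative_map, hf, ← Polynomial.derivative_map]
    exact isUnit_iff_ne_zero.mpr
      ((Polynomial.Separable.map hsep (f := ψ)).aeval_derivative_ne_zero (by simpa using hκ)))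
  refine ⟨residue _ a, ?_⟩
  rw [← hf, Polynomial.eval_map, Polynomial.eval₂_at_apply, ha.eq_zero, map_zero]

end algebra

set_option backward.isDefEq.respectTransparency.types false in
/-- A smooth surjection onto a strictly henselian local scheme has a section. -/
theorem exists_section_of_strictlyHenselian {B : Type u} [CommRing B] [HenselianLocalRing B]
    [IsSepClosed (ResidueField B)] {Y : Scheme.{u}} (g : Y ⟶ Spec (CommRingCat.of B)) [Smooth g]
    [Surjective g] : ∃ σ : Spec (CommRingCat.of B) ⟶ Y, σ ≫ g = 𝟙 _ := by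
  let i : Spec (CommRingCat.of (ResidueField B)) ⟶ Spec (CommRingCat.of B) :=
    Spec.map (CommRingCat.ofHom (residue B))
  obtain ⟨y⟩ : Nonempty ↥(pullback g i) :=
    ⟨(Surjective.surj (f := pullback.snd g i) (closedPoint (ResidueField B))).choose⟩
  obtain ⟨t, ht, -⟩ := GrpSchLib.exists_point_of_smooth (pullback.snd g i) ⊤ (x := y) trivial
  let t' := t ≫ pullback.fst g i
  have ht' : t' ≫ g = i := by rw [Category.assoc, pullback.condition, reassoc_of% ht]
  let pt := closedPoint (ResidueField B)
  obtain ⟨V, hV, hyV, -⟩ := exists_isAffineOpen_mem_and_subset (U := (⊤ : Y.Opens)) (x := t' pt) trivial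
  have : IsAffine V.toScheme := hV
  obtain ⟨t₀, ht₀⟩ : ∃ t₀, t₀ ≫ hV.fromSpec = t' := by
    refine ⟨IsOpenImmersion.lift hV.fromSpec t' ?_, IsOpenImmersion.lift_fac _ _ _⟩
    rw [IsAffineOpen.range_fromSpec]
    rintro _ ⟨z, rfl⟩
    rwa [Subsingleton.elim z pt]
  let φ := Spec.preimage (hV.fromSpec ≫ g)
  have hφ : Spec.map φ = hV.fromSpec ≫ g := Spec.map_preimage _
  let _ : Algebra B Γ(Y, V) := φ.hom.toAlgebra
  have : Smooth (Spec.map φ) := by rw [hφ]; infer_instance
  have : Algebra.Smooth B Γ(Y, V) := (HasRingHomProperty.Spec_iff (P := @Smooth)).1 this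
  let θ := Spec.preimage t₀
  have hθ : φ ≫ θ = CommRingCat.ofHom (residue B) := Spec.map_injective (by
    rw [Spec.map_comp, Spec.map_preimage, hφ, ← Category.assoc, ht₀, ht'])
  let θ' : Γ(Y, V) →ₐ[B] B ⧸ maximalIdeal B :=
    { θ.hom with commutes' := fun b => congrArg (fun h : CommRingCat.of B ⟶ CommRingCat.of (ResidueField B) => h.hom b) hθ }
  have : HenselianRing B (maximalIdeal B) := inferInstance
  obtain ⟨τ, -⟩ := Hensel.exists_smooth_lift (R := B) (A := B) (I := maximalIdeal B) θ'
  refine ⟨Spec.map (CommRingCat.ofHom τ.toRingHom) ≫ hV.fromSpec, ?_⟩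
  rw [Category.assoc, ← hφ, ← Spec.map_comp, ← Spec.map_id]
  congr 1
  ext b
  exact τ.commutes b

set_option backward.isDefEq.respectTransparency.types false in
/-- A smooth surjection onto a finite scheme over a strictly henselian local ring has a section. -/
theorem exists_section_finite {A B : Type u} [CommRing A] [HenselianLocalRing A] [IsSepClosed (ResidueField A)]
    [CommRing B] [Algebra A B] [Module.Finite A B] {Y : Scheme.{u}} (g : Y ⟶ Spec (CommRingCat.of B)) [Smooth g]
    [Surjective g] : ∃ σ : Spec (CommRingCat.of B) ⟶ Y, σ ≫ g = 𝟙 _ := by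
  obtain ⟨_, e, he, hM⟩ := Hensel.exists_idempotents_of_henselian A B
  obtain ⟨κ, _, C, _, hC, ⟨φ⟩⟩ := Hensel.exists_ringEquiv_pi_isLocalRing_of_idempotents he hM
  have := hC
  have hsec : ∀ k, ∃ s : Spec (CommRingCat.of (C k)) ⟶ Y,
      s ≫ g = Spec.map (CommRingCat.ofHom ((Pi.evalRingHom C k).comp φ.toRingHom)) := fun k => by
    let π : B →+* C k := (Pi.evalRingHom C k).comp φ.toRingHom
    have hπ : Function.Surjective π := (Function.surjective_eval k).comp φ.surjective
    let _ : Algebra A (C k) := (π.comp (algebraMap A B)).toAlgebra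
    have : Module.Finite A (C k) :=
      Module.Finite.of_surjective ({ π with commutes' := fun _ => rfl } : B →ₐ[A] C k).toLinearMap hπ
    have : IsLocalHom (algebraMap A (C k)) := Hensel.isLocalHom_of_isIntegral_local A (C k)
    have := Hensel.henselianLocalRing_of_isIntegral_local A (C k)
    have := (Hensel.residueField_of_isIntegral A (C k)).1
    obtain ⟨σ, hσ⟩ := exists_section_of_strictlyHenselian (pullback.snd g (Spec.map (CommRingCat.ofHom π)))
    exact ⟨σ ≫ pullback.fst _ _, by rw [Category.assoc, pullback.condition, reassoc_of% hσ]⟩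
  choose s hs using hsec
  let F : CommRingCat.of (∀ k, C k) ⟶ CommRingCat.of B := CommRingCat.ofHom φ.symm.toRingHom
  refine ⟨Spec.map F ≫ inv (sigmaSpec fun k => CommRingCat.of (C k)) ≫ Sigma.desc s, ?_⟩
  rw [Category.assoc, Category.assoc]
  have : Sigma.desc s ≫ g =
      sigmaSpec (fun k => CommRingCat.of (C k)) ≫ Spec.map (CommRingCat.ofHom φ.toRingHom) := by
    refine Sigma.hom_ext _ _ fun k => ?_
    rw [Sigma.ι_desc_assoc, hs, ι_sigmaSpec_assoc, ← Spec.map_comp]
    rfl
  rw [this, IsIso.inv_hom_id_assoc, ← Spec.map_comp, ← Spec.map_id]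
  congr 1
  ext b
  exact φ.symm_apply_apply b

set_option backward.isDefEq.respectTransparency.types false in
/-- Étale locally on an affine base, a smooth surjection onto a finite scheme has a section. -/
theorem exists_etale_section {R : Type u} [CommRing R] {S' Y : Scheme.{u}} (π : S' ⟶ Spec (CommRingCat.of R))
    [IsFinite π] (g : Y ⟶ S') [Smooth g] [Surjective g] (p : PrimeSpectrum R) :
    ∃ (U : Scheme.{u}) (e : U ⟶ Spec (CommRingCat.of R)) (w : pullback e π ⟶ Y),
      Etale e ∧ p ∈ Set.range e ∧ w ≫ g = pullback.snd e π := by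
  let L := AlgebraicClosure p.asIdeal.ResidueField
  let _ : Algebra R L := ((algebraMap p.asIdeal.ResidueField L).comp (algebraMap R p.asIdeal.ResidueField)).toAlgebra
  let A := Henz R L
  obtain ⟨_, hsep, -⟩ := strictlyHenselian_henz R L
  -- the limit of the étale neighbourhoods
  let D₀ := nbhdDiagram R L
  let c₀ := nbhdCocone R L
  let hc₀ := isColimitOfPreserves (Under.forget (CommRingCat.of R)) (isColimitNbhdCocone R L)
  let F : (NbhdCat R L)ᵒᵖ ⥤ Scheme.{u} := (D₀ ⋙ Under.forget _).op ⋙ Scheme.Spec
  let cF : Cone F := Scheme.Spec.mapCone ((Under.forget _).mapCocone c₀).op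
  let hcF : IsLimit cF := isLimitOfPreserves Scheme.Spec hc₀.op
  let q : ∀ X : (NbhdCat R L)ᵒᵖ, F.obj X ⟶ Spec (CommRingCat.of R) := fun X => Spec.map (D₀.obj X.unop).hom
  let FO : (NbhdCat R L)ᵒᵖ ⥤ Over (Spec (CommRingCat.of R)) :=
    { obj := fun X => Over.mk (q X)
      map := fun {X X'} f => Over.homMk (F.map f) ((Spec.map_comp _ _).symm.trans
        (congrArg Spec.map (Under.w (D₀.map f.unop))))
      map_id := fun X => Over.OverMorphism.ext (F.map_id X)
      map_comp := fun f f' => Over.OverMorphism.ext (F.map_comp f f') }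
  let cO : Cone FO :=
    { pt := Over.mk (Spec.map c₀.pt.hom)
      π :=
        { app := fun X => Over.homMk (cF.π.app X) ((Spec.map_comp _ _).symm.trans
            (congrArg Spec.map (Under.w (c₀.ι.app X.unop))))
          naturality := fun X X' f => Over.OverMorphism.ext (cF.π.naturality f) } }
  have : IsFiltered (NbhdCat R L) := inferInstance
  have : _root_.CategoryTheory.IsConnected (NbhdCat R L)ᵒᵖ := IsCofiltered.isConnected _
  let hcO : IsLimit cO := isLimitOfReflects (Over.forget _) (show IsLimit ((Over.forget _).mapCone cO) from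
    hcF.ofIsoLimit (Cone.ext (Iso.refl _) fun X => (Category.id_comp _).symm))
  let P := Over.pullback π
  let hP : IsLimit ((Over.forget S').mapCone (P.mapCone cO)) :=
    isLimitOfPreserves (Over.forget S') (isLimitOfPreserves P hcO)
  let E : (NbhdCat R L)ᵒᵖ ⥤ Scheme.{u} := (FO ⋙ P) ⋙ Over.forget S'
  -- the finite algebra over the strictly henselian ring
  let top : Spec (CommRingCat.of A) ⟶ Spec (CommRingCat.of R) := Spec.map c₀.pt.hom
  let Z := pullback top π
  have : IsAffine Z := isAffine_of_isAffineHom (pullback.fst top π)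
  let ψ : CommRingCat.of A ⟶ Γ(Z, ⊤) := Spec.preimage (Z.isoSpec.inv ≫ pullback.fst top π)
  have hψ : Spec.map ψ = Z.isoSpec.inv ≫ pullback.fst top π := Spec.map_preimage _
  let _ : Algebra A Γ(Z, ⊤) := ψ.hom.toAlgebra
  have : IsFinite (Spec.map ψ) := by rw [hψ]; infer_instance
  have : Module.Finite A Γ(Z, ⊤) := (IsFinite.SpecMap_iff ψ).1 this
  let gZ : pullback g (Z.isoSpec.inv ≫ pullback.snd top π) ⟶ Spec (CommRingCat.of Γ(Z, ⊤)) := pullback.snd _ _
  obtain ⟨σ, hσ⟩ := exists_section_finite (A := A) gZ
  let a : Z ⟶ Y := Z.isoSpec.hom ≫ σ ≫ pullback.fst _ _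
  have ha : a ≫ g = pullback.snd top π := by
    simp only [a, Category.assoc, pullback.condition]
    rw [reassoc_of% hσ, Iso.hom_inv_id_assoc]
  -- spreading out
  have hEa : ∀ X, IsAffine (E.obj X) := fun X => by
    have : IsAffine (F.obj X) := inferInstanceAs (IsAffine (Spec _))
    show IsAffine (pullback (q X) π)
    exact isAffine_of_isAffineHom (pullback.fst (q X) π)
  have : ∀ {X X'} (f : X ⟶ X'), IsAffineHom (E.map f) := fun {X X'} f => by
    have := hEa X; have := hEa X'; infer_instance
  have : ∀ X, CompactSpace (E.obj X) := fun X => have := hEa X; inferInstance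
  have : ∀ X, QuasiSeparatedSpace (E.obj X) := fun X => have := hEa X; inferInstance
  have : LocallyOfFinitePresentation g := inferInstance
  let tE : E ⟶ (Functor.const _).obj S' :=
    { app := fun X => ((FO ⋙ P).obj X).hom
      naturality := fun X X' f => (Over.w ((FO ⋙ P).map f)).trans (Category.comp_id _).symm }
  obtain ⟨X, w, -, hw⟩ := Scheme.exists_π_app_comp_eq_of_locallyOfFinitePresentation E tE g
    ((Over.forget S').mapCone (P.mapCone cO)) hP a (by
      ext X
      exact (Over.w ((P.mapCone cO).π.app X)).trans ha.symm)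
  refine ⟨F.obj X, q X, w, ?_, ?_, hw⟩
  · show Etale (Spec.map (CommRingCat.ofHom (algebraMap R X.unop.N.B)))
    rw [HasRingHomProperty.Spec_iff (P := @Etale), CommRingCat.hom_ofHom, RingHom.etale_algebraMap]
    infer_instance
  · refine ⟨⟨RingHom.ker X.unop.N.toK, RingHom.ker_isPrime _⟩, PrimeSpectrum.ext ?_⟩
    show Ideal.comap (algebraMap R X.unop.N.B) (RingHom.ker X.unop.N.toK) = p.asIdeal
    ext r
    rw [Ideal.mem_comap, RingHom.mem_ker, AlgHom.commutes, RingHom.algebraMap_toAlgebra, RingHom.comp_apply,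
      map_eq_zero, Ideal.algebraMap_residueField_eq_zero]

end Groth.Agent.NonAbLib
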